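import Cfsg.Agent.Suz.Sylow

/-! The Suzuki group as the fixed points of the exceptional endomorphism of `Sp₄`. -/

set_option autoImplicit false

open Matrix
open scoped MatrixGroups

namespace Cfsg.Lib.Suz

variable {F : Type*} [Field F] [Fintype F] {m : ℕ} (Q : Par F m)
include Q

/-- The two defining conditions. -/
structure Fixed (_ : Par F m) (X : Matrix (Fin 4) (Fin 4) F) : Prop where
  col : Xᵀ * Cfsg.suzukiForm F * X = Cfsg.suzukiForm F
  star : Cfsg.Lie.star4 X = X.map (fun x => x ^ (2 ^ (m + 1)))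

theorem form_row {X : Matrix (Fin 4) (Fin 4) F} (h : Xᵀ * Cfsg.suzukiForm F * X = Cfsg.suzukiForm F) :
    X * Cfsg.suzukiForm F * Xᵀ = Cfsg.suzukiForm F := by
  have hJ : Cfsg.suzukiForm F * Cfsg.suzukiForm F = 1 := by
    simp only [Cfsg.suzukiForm]
    ext i j
    fin_cases i <;> fin_cases j <;> simp [Matrix.mul_apply, Fin.sum_univ_four]
  have h1 : (Cfsg.suzukiForm F * Xᵀ * Cfsg.suzukiForm F) * X = 1 := by
    rw [show Cfsg.suzukiForm F * Xᵀ * Cfsg.suzukiForm F * X =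
      Cfsg.suzukiForm F * (Xᵀ * Cfsg.suzukiForm F * X) by simp only [mul_assoc], h, hJ]
  have h2 := mul_eq_one_comm.1 h1
  have h3 := congrArg (· * Cfsg.suzukiForm F) h2
  simp only [one_mul, mul_assoc, hJ, mul_one] at h3
  simpa only [mul_assoc] using h3

theorem star_mul {X Y : Matrix (Fin 4) (Fin 4) F} (hX : Xᵀ * Cfsg.suzukiForm F * X = Cfsg.suzukiForm F)
    (hY : Yᵀ * Cfsg.suzukiForm F * Y = Cfsg.suzukiForm F) :
    Cfsg.Lie.star4 (X * Y) = Cfsg.Lie.star4 X * Cfsg.Lie.star4 Y := by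
  have := charP Q
  have h2 : (2 : F) = 0 := CharP.cast_eq_zero F 2
  have hr := form_row Q hX
  have rows : ∀ k l, X k 0 * X l 3 + X k 1 * X l 2 + X k 2 * X l 1 + X k 3 * X l 0 = Cfsg.suzukiForm F k l := by
    intro k l
    conv_rhs => rw [← hr]
    simp [Matrix.mul_apply, Fin.sum_univ_four, Cfsg.suzukiForm]
    ring
  have cols : ∀ i j, Y 0 i * Y 3 j + Y 1 i * Y 2 j + Y 2 i * Y 1 j + Y 3 i * Y 0 j = Cfsg.suzukiForm F i j := by
    intro i j
    conv_rhs => rw [← hY]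
    simp [Matrix.mul_apply, Fin.sum_univ_four, Cfsg.suzukiForm]
    ring
  have main : ∀ k l i j, Cfsg.suzukiForm F k l = 0 → Cfsg.suzukiForm F i j = 0 →
      (X * Y) k i * (X * Y) l j - (X * Y) l i * (X * Y) k j =
        (X k 0 * X l 1 - X l 0 * X k 1) * (Y 0 i * Y 1 j - Y 1 i * Y 0 j) +
        (X k 0 * X l 2 - X l 0 * X k 2) * (Y 0 i * Y 2 j - Y 2 i * Y 0 j) +
        (X k 1 * X l 3 - X l 1 * X k 3) * (Y 1 i * Y 3 j - Y 3 i * Y 1 j) +
        (X k 2 * X l 3 - X l 2 * X k 3) * (Y 2 i * Y 3 j - Y 3 i * Y 2 j) := by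
    intro k l i j hkl hij
    have e1 := rows k l
    have e2 := cols i j
    rw [hkl] at e1
    rw [hij] at e2
    simp only [Matrix.mul_apply, Fin.sum_univ_four]
    linear_combination (X k 0 * X l 3 - X l 0 * X k 3) * e2 + (Y 1 i * Y 2 j - Y 2 i * Y 1 j) * e1 -
      ((X k 0 * X l 3 - X l 0 * X k 3) * (Y 2 i * Y 1 j + Y 3 i * Y 0 j) +
        (X k 2 * X l 1 + X k 3 * X l 0) * (Y 1 i * Y 2 j - Y 2 i * Y 1 j) +
        (X k 0 * X l 3 - X l 0 * X k 3) * (Y 1 i * Y 2 j - Y 2 i * Y 1 j)) * h2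
  ext p r
  simp only [Cfsg.Lie.star4, Matrix.mul_apply (M := Matrix.of _), Matrix.of_apply, Fin.sum_univ_four]
  refine (main _ _ _ _ ?_ ?_).trans ?_
  · fin_cases p <;> simp [Cfsg.Lie.pairOf, Cfsg.suzukiForm]
  · fin_cases r <;> simp [Cfsg.Lie.pairOf, Cfsg.suzukiForm]
  · simp [Cfsg.Lie.pairOf]

theorem Fixed.mul {X Y : Matrix (Fin 4) (Fin 4) F} (hX : Fixed Q X) (hY : Fixed Q Y) : Fixed Q (X * Y) := by
  refine ⟨?_, ?_⟩
  · rw [Matrix.transpose_mul, show Yᵀ * Xᵀ * Cfsg.suzukiForm F * (X * Y) =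
      Yᵀ * (Xᵀ * Cfsg.suzukiForm F * X) * Y by simp only [mul_assoc], hX.col, hY.col]
  · rw [star_mul Q hX.col hY.col, hX.star, hY.star]
    have := charP Q
    have : Fact (Nat.Prime 2) := ⟨Nat.prime_two⟩
    exact (Matrix.map_mul (f := iterateFrobenius F 2 (m + 1))).symm

theorem fixed_gen (a b : F) (k : Fˣ) : Fixed Q (T m a b).1 ∧ Fixed Q (H m k).1 ∧ Fixed Q (W F).1 := by
  have := charP Q
  have h2 : (2 : F) = 0 := CharP.cast_eq_zero F 2
  refine ⟨⟨form Q (T_mem Q a b), ?_⟩, ⟨form Q (H_mem Q k), ?_⟩, ⟨form Q (W_mem Q), ?_⟩⟩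
  · show Cfsg.Lie.star4 (Tmat m a b) = (Tmat m a b).map _
    have hss := pow_ss Q a
    have hadd : (b + a ^ (2 ^ (m + 1) + 1)) ^ (2 ^ (m + 1)) = b ^ (2 ^ (m + 1)) + a ^ 2 * a ^ (2 ^ (m + 1)) := by
      rw [add_pow_s Q, pow_succ a, mul_pow, hss]
    have hfn : fn m a b ^ (2 ^ (m + 1)) =
        a ^ (2 ^ (m + 1)) * b ^ (2 ^ (m + 1)) + (a ^ (2 ^ (m + 1))) ^ 2 * a ^ 2 + b ^ 2 := by
      rw [fn, add_pow_s Q, add_pow_s Q, mul_pow, pow_add a, mul_pow, hss, pow_ss Q b, ← pow_mul a 2, mul_comm 2,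
        pow_mul]
      ring
    have hs : 2 ^ (m + 1) ≠ 0 := pow_ne_zero _ two_ne_zero
    ext p r
    fin_cases p <;> fin_cases r <;>
      simp [Cfsg.Lie.star4, Cfsg.Lie.pairOf, Tmat, hadd, hfn, hss, hs] <;>
      (try simp only [fn, pow_succ, pow_zero, one_mul]) <;> (try ring_nf) <;> (try simp [h2, CharTwo.neg_eq, CharTwo.sub_eq_add]) <;> (try ring_nf) <;> (try simp [h2])
  · show Cfsg.Lie.star4 (H m k).1 = (H m k).1.map _
    have hk := k.ne_zero
    have hs : 2 ^ (m + 1) = hh m + hh m := by rw [hh, pow_succ]; ring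
    have hss : ((k : F) ^ hh m) ^ (2 ^ (m + 1)) = (k : F) := by
      rw [hh, ← pow_mul, ← pow_add, show m + (m + 1) = 2 * m + 1 by ring, pow_q Q]
    have hs' : 2 ^ (m + 1) ≠ 0 := pow_ne_zero _ two_ne_zero
    ext p r
    fin_cases p <;> fin_cases r <;>
      simp [Cfsg.Lie.star4, Cfsg.Lie.pairOf, H, Matrix.diagonal, hs', pow_succ (k : F) (hh m), mul_pow, inv_pow, hss] <;>
      (try (rw [hs, pow_add])) <;> (try field_simp)
  · show Cfsg.Lie.star4 (W F).1 = (W F).1.map _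
    have hs : 2 ^ (m + 1) ≠ 0 := pow_ne_zero _ two_ne_zero
    ext p r
    fin_cases p <;> fin_cases r <;> simp [Cfsg.Lie.star4, Cfsg.Lie.pairOf, W, hs, neg_eq Q]

theorem fixed_mem {g : SL4 F} (hg : g ∈ Cfsg.Sz F m) : Fixed Q g.1 := by
  rcases elt_cases Q hg with ⟨a, b, k, rfl⟩ | ⟨a, b, c, d, k, rfl⟩
  · exact Fixed.mul Q (fixed_gen Q a b k).1 (fixed_gen Q a b k).2.1
  · exact Fixed.mul Q (Fixed.mul Q (fixed_gen Q a b k).1 (fixed_gen Q a b k).2.2)
      (Fixed.mul Q (fixed_gen Q c d k).1 (fixed_gen Q c d k).2.1)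

theorem column_cases {X : Matrix (Fin 4) (Fin 4) F} (hX : Fixed Q X) :
    (X 1 0 = 0 ∧ X 2 0 = 0 ∧ X 3 0 = 0) ∨
      ∃ x y, X 2 0 = X 3 0 * x ∧ X 1 0 = X 3 0 * y ∧ X 0 0 = X 3 0 * fn m x y ∧ X 3 0 ≠ 0 := by
  have := charP Q
  have h2 : (2 : F) = 0 := CharP.cast_eq_zero F 2
  have hs : 2 ^ (m + 1) ≠ 0 := pow_ne_zero _ two_ne_zero
  have hb : X 0 0 * X 3 1 + X 1 0 * X 2 1 + X 2 0 * X 1 1 + X 3 0 * X 0 1 = 0 := by
    have := congrFun (congrFun hX.col 0) 1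
    simp [Matrix.mul_apply, Fin.sum_univ_four, Cfsg.suzukiForm] at this
    linear_combination this
  have e : ∀ p, Cfsg.Lie.star4 X p 0 = X p 0 ^ (2 ^ (m + 1)) := fun p => by rw [hX.star]; rfl
  have e0 := e 0
  have e1 := e 1
  have e2 := e 2
  have e3 := e 3
  simp [Cfsg.Lie.star4, Cfsg.Lie.pairOf] at e0 e1 e2 e3
  set c0 := X 0 0
  set c1 := X 1 0
  set c2 := X 2 0
  set c3 := X 3 0
  set d0 := X 0 1
  set d1 := X 1 1
  set d2 := X 2 1
  set d3 := X 3 1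
  set z := c1 * d2 - c2 * d1
  have hz : c0 * d3 - c3 * d0 = z := by linear_combination hb - (c3 * d0 + c1 * d2) * h2
  have r1 : c1 ^ (2 ^ (m + 1)) * c3 + c2 * z + c0 * c3 ^ (2 ^ (m + 1)) = 0 := by
    rw [← e1, ← e3, ← hz]
    linear_combination (c0 * c2 * d3 - c2 * c3 * d0) * h2
  have r2 : c1 * c3 ^ (2 ^ (m + 1)) + c2 * c2 ^ (2 ^ (m + 1)) + c3 * z = 0 := by
    rw [← e2, ← e3]
    linear_combination (c1 * c2 * d3 - c2 * c3 * d1) * h2
  rcases eq_or_ne c3 0 with h3 | h3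
  · left
    rw [h3] at r2
    have hc2 : c2 = 0 := by
      simp [zero_pow hs] at r2
      exact r2
    refine ⟨?_, hc2, h3⟩
    have r3 : c0 * z + c1 * c1 ^ (2 ^ (m + 1)) + c2 * c0 ^ (2 ^ (m + 1)) = 0 := by
      rw [← e0, ← e1]
      linear_combination (c0 * c1 * d2 - c1 * c2 * d0) * h2
    have r4 : c0 * c2 ^ (2 ^ (m + 1)) + c1 * z + c3 * c0 ^ (2 ^ (m + 1)) = 0 := by
      rw [← e0, ← e2, ← hz]
      linear_combination (c0 * c1 * d3 - c1 * c3 * d0) * h2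
    by_contra h1
    have hz0 : z = 0 := by
      rw [h3, hc2] at r4
      simp [zero_pow hs, h1] at r4
      exact r4
    rw [hz0, hc2] at r3
    simp [zero_pow hs, h1] at r3
  · right
    obtain ⟨x, hx⟩ : ∃ x, c2 = c3 * x := ⟨c2 / c3, (mul_div_cancel₀ _ h3).symm⟩
    obtain ⟨y, hy⟩ : ∃ y, c1 = c3 * y := ⟨c1 / c3, (mul_div_cancel₀ _ h3).symm⟩
    refine ⟨x, y, hx, hy, ?_, h3⟩
    rw [hx, hy, mul_pow] at r2
    rw [hx, hy, mul_pow] at r1
    have hz' : z = c3 ^ (2 ^ (m + 1)) * (y + x * x ^ (2 ^ (m + 1))) := by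
      refine mul_left_cancel₀ h3 ?_
      linear_combination r2 - c3 * c3 ^ (2 ^ (m + 1)) * (y + x * x ^ (2 ^ (m + 1))) * h2
    rw [hz'] at r1
    refine mul_left_cancel₀ (pow_ne_zero (2 ^ (m + 1)) h3) ?_
    rw [fn, pow_add x]
    linear_combination r1 -
      c3 * c3 ^ (2 ^ (m + 1)) * (x * y + x ^ (2 ^ (m + 1)) * x ^ 2 + y ^ (2 ^ (m + 1))) * h2

theorem mem_of_fixed {g : SL4 F} (hg : Fixed Q g.1) : g ∈ Cfsg.Sz F m := mem_Sz_of Q fun p hp => by
  obtain ⟨h, hh, rfl⟩ := transitive Q (inf_mem m) hp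
  rw [← mul_smul]
  have hX : Fixed Q (g * h).1 := Fixed.mul Q hg (fixed_mem Q hh)
  rcases column_cases Q hX with ⟨h1, h2, h3⟩ | ⟨x, y, h2, h1, h0, -⟩
  · rw [smul_inf_of ((g * h).1 0 0)]
    · exact inf_mem m
    · funext i
      fin_cases i <;> simp only [Matrix.mulVec, dotProduct, Fin.sum_univ_four] <;> simp <;> assumption
  · rw [show (g * h) • Cfsg.suzukiPointInfinity F = pt m x y from smul_mk_eq _ _ _ ((g * h).1 3 0) ?_]
    · exact pt_mem m x y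
    · funext i
      fin_cases i <;> simp only [Matrix.mulVec, dotProduct, Fin.sum_univ_four] <;> simp [vec] <;> assumption

/-- The natural map. -/
noncomputable def toL (_ : Par F m) : SL4 F →* GL (Fin 4) F := Matrix.SpecialLinearGroup.toGL

theorem lie_eq : (Cfsg.Sz F m).map (toL Q) = Cfsg.Lie.Sz F (2 ^ (m + 1)) := by
  have hJ : ∀ u v : Fin 4 → F, Cfsg.Lie.altForm4 u v = u ⬝ᵥ Cfsg.suzukiForm F *ᵥ v := fun u v => by
    simp [Cfsg.Lie.altForm4, Cfsg.suzukiForm, dotProduct, Matrix.mulVec, Fin.sum_univ_four]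
  refine le_antisymm ?_ ?_
  · rintro _ ⟨g, hg, rfl⟩
    refine Subgroup.subset_closure ⟨fun u v => ?_, (fixed_mem Q hg).star⟩
    show Cfsg.Lie.altForm4 (g.1 *ᵥ u) (g.1 *ᵥ v) = _
    rw [hJ, hJ, Matrix.mulVec_mulVec, Matrix.dotProduct_mulVec, Matrix.dotProduct_mulVec, ← Matrix.vecMul_transpose,
      Matrix.vecMul_vecMul, ← mul_assoc, (fixed_mem Q hg).col]
  · refine (Subgroup.closure_le _).2 ?_
    rintro g ⟨hsp, hstar⟩
    have hcol : (g : Matrix (Fin 4) (Fin 4) F)ᵀ * Cfsg.suzukiForm F * (g : Matrix (Fin 4) (Fin 4) F) =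
        Cfsg.suzukiForm F := by
      refine Matrix.ext_of_mulVec_single fun i => funext fun j => ?_
      have h := hsp (Pi.single j 1) (Pi.single i 1)
      rw [hJ, hJ] at h
      simp only [Units.coeHom_apply] at h
      rw [Matrix.mulVec_mulVec, Matrix.dotProduct_mulVec, ← Matrix.vecMul_transpose, Matrix.vecMul_vecMul,
        ← mul_assoc, ← Matrix.dotProduct_mulVec, single_one_dotProduct, single_one_dotProduct] at h
      exact h
    have hdet : (g : Matrix (Fin 4) (Fin 4) F).det = 1 := by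
      have h := congrArg Matrix.det hcol
      rw [Matrix.det_mul, Matrix.det_mul, Matrix.det_transpose,
        show (Cfsg.suzukiForm F).det = 1 from (W F).2, mul_one, ← pow_two] at h
      have h4 : ((g : Matrix (Fin 4) (Fin 4) F).det + 1) ^ 2 = 0 := by rw [add_sq' Q, h, one_pow, add_self Q]
      exact (eq_neg_of_add_eq_zero_left (pow_eq_zero_iff two_ne_zero |>.1 h4)).trans (neg_eq Q 1)
    exact ⟨⟨_, hdet⟩, mem_of_fixed Q ⟨hcol, hstar⟩, Units.ext rfl⟩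

/-- The comparison isomorphism. -/
noncomputable def lieEquiv : Cfsg.Sz F m ≃* Cfsg.Lie.Sz F (2 ^ (m + 1)) :=
  ((Cfsg.Sz F m).equivMapOfInjective (toL Q) (fun a b h => Subtype.ext (congrArg Units.val h))).trans
    (MulEquiv.subgroupCongr (lie_eq Q))

theorem lie_simple : IsSimpleGroup (Cfsg.Lie.Sz F (2 ^ (m + 1))) := by
  have := simple Q
  have : Nontrivial (Cfsg.Lie.Sz F (2 ^ (m + 1))) := (lieEquiv Q).symm.toEquiv.nontrivial
  exact IsSimpleGroup.isSimpleGroup_of_surjective (H := Cfsg.Lie.Sz F (2 ^ (m + 1))) (lieEquiv Q).toMonoidHom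
    (lieEquiv Q).surjective

theorem lie_structure :
    Nat.card ↥(Cfsg.Lie.Sz F (2 ^ (m + 1))) = (2 ^ (2 * m + 1)) ^ 2 * (2 ^ (2 * m + 1) - 1) * ((2 ^ (2 * m + 1)) ^ 2 + 1) ∧
    ∃ S : Sylow 2 ↥(Cfsg.Lie.Sz F (2 ^ (m + 1))),
      Nat.card (Subgroup.normalizer ((S : Subgroup ↥(Cfsg.Lie.Sz F (2 ^ (m + 1)))) : Set ↥(Cfsg.Lie.Sz F (2 ^ (m + 1))))) = (2 ^ (2 * m + 1)) ^ 2 * (2 ^ (2 * m + 1) - 1) ∧
      (Subgroup.normalizer ((S : Subgroup ↥(Cfsg.Lie.Sz F (2 ^ (m + 1)))) : Set ↥(Cfsg.Lie.Sz F (2 ^ (m + 1))))).index = (2 ^ (2 * m + 1)) ^ 2 + 1 ∧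
      MulAction.IsMultiplyPretransitive ↥(Cfsg.Lie.Sz F (2 ^ (m + 1))) (↥(Cfsg.Lie.Sz F (2 ^ (m + 1))) ⧸ Subgroup.normalizer ((S : Subgroup ↥(Cfsg.Lie.Sz F (2 ^ (m + 1)))) : Set ↥(Cfsg.Lie.Sz F (2 ^ (m + 1))))) 2 ∧
      ∀ x y : ↥(Cfsg.Lie.Sz F (2 ^ (m + 1))) ⧸ Subgroup.normalizer ((S : Subgroup ↥(Cfsg.Lie.Sz F (2 ^ (m + 1)))) : Set ↥(Cfsg.Lie.Sz F (2 ^ (m + 1)))),
        x ≠ (QuotientGroup.mk 1) → y ≠ (QuotientGroup.mk 1) → ∃! s : ↥(S : Subgroup ↥(Cfsg.Lie.Sz F (2 ^ (m + 1)))), (s : ↥(Cfsg.Lie.Sz F (2 ^ (m + 1)))) • x = y := by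
  have : Fact (Nat.Prime 2) := ⟨Nat.prime_two⟩
  set e := lieEquiv Q
  set L := Cfsg.Lie.Sz F (2 ^ (m + 1))
  have hcard : Nat.card L = (2 ^ (2 * m + 1)) ^ 2 * (2 ^ (2 * m + 1) - 1) * ((2 ^ (2 * m + 1)) ^ 2 + 1) := by
    rw [← Nat.card_congr e.toEquiv, card_Sz Q]; ring
  refine ⟨hcard, ?_⟩
  let S : Sylow 2 L := (syl Q).mapSurjective (f := e.toMonoidHom) e.surjective
  have hS : (S : Subgroup L) = (uSub Q).map e.toMonoidHom := by
    exact (Sylow.coe_mapSurjective (f := e.toMonoidHom) e.surjective (syl Q)).trans (by rw [syl_coe])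
  refine ⟨S, ?_⟩
  have hN : Subgroup.normalizer ((S : Subgroup L) : Set L) =
      (MulAction.stabilizer (Cfsg.Sz F m) (Cfsg.suzukiPointInfinity F)).map e.toMonoidHom := by
    rw [hS, ← normalizer_uSub Q]
    exact (Subgroup.map_equiv_normalizer_eq _ e).symm
  set N := Subgroup.normalizer ((S : Subgroup L) : Set L) with hNdef
  have memN : ∀ g : L, g ∈ N ↔ (e.symm g).1 • Cfsg.suzukiPointInfinity F = Cfsg.suzukiPointInfinity F := fun g => by
    rw [hN, Subgroup.mem_map_equiv]; rfl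
  have hcN : Nat.card N = (2 ^ (2 * m + 1)) ^ 2 * (2 ^ (2 * m + 1) - 1) := by
    rw [hN, Subgroup.card_map_of_injective e.injective, stab_inf_card Q]
  refine ⟨hcN, ?_, ?_, ?_⟩
  · have h := N.card_mul_index
    rw [hcard, hcN] at h
    refine Nat.eq_of_mul_eq_mul_left ?_ h
    exact Nat.mul_pos (pow_pos (pow_pos two_pos _) _) (Nat.sub_pos_of_lt (Nat.one_lt_two_pow (Nat.succ_ne_zero _)))
  all_goals
    let φ : L ⧸ N → Projectivization F (Fin 4 → F) := Quotient.lift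
      (fun g => (e.symm g).1 • Cfsg.suzukiPointInfinity F) (fun a b hab => by
        have h := (memN _).1 (QuotientGroup.leftRel_apply.1 hab)
        rw [map_mul, map_inv, Subgroup.coe_mul, Subgroup.coe_inv, mul_smul, inv_smul_eq_iff] at h
        exact h.symm)
    have φmk : ∀ g : L, φ (QuotientGroup.mk g) = (e.symm g).1 • Cfsg.suzukiPointInfinity F := fun g => rfl
    have φinj : Function.Injective φ := by
      intro a b hab
      obtain ⟨a, rfl⟩ := QuotientGroup.mk_surjective a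
      obtain ⟨b, rfl⟩ := QuotientGroup.mk_surjective b
      rw [φmk, φmk] at hab
      rw [QuotientGroup.eq, memN, map_mul, map_inv, Subgroup.coe_mul, Subgroup.coe_inv, mul_smul, ← hab, inv_smul_smul]
    have φmem : ∀ x, φ x ∈ Cfsg.suzukiOvoid F m := fun x => by
      obtain ⟨a, rfl⟩ := QuotientGroup.mk_surjective x
      exact smul_ovoid Q (e.symm a).2 (inf_mem m)
    have φsmul : ∀ (g : L) x, φ (g • x) = (e.symm g).1 • φ x := fun g x => by
      obtain ⟨a, rfl⟩ := QuotientGroup.mk_surjective x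
      show φ (QuotientGroup.mk (g * a)) = _
      rw [φmk, φmk, map_mul, Subgroup.coe_mul, mul_smul]
  · rw [MulAction.is_two_pretransitive_iff]
    intro a b c d hab hcd
    obtain ⟨g, hg, g1, g2⟩ := to_inf_zero Q (φmem a) (φmem b) (φinj.ne hab)
    obtain ⟨g', hg', g1', g2'⟩ := to_inf_zero Q (φmem c) (φmem d) (φinj.ne hcd)
    refine ⟨e ⟨g'⁻¹ * g, mul_mem (inv_mem hg') hg⟩, φinj ?_, φinj ?_⟩
    · rw [φsmul, e.symm_apply_apply, mul_smul, g1, inv_smul_eq_iff, g1']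
    · rw [φsmul, e.symm_apply_apply, mul_smul, g2, inv_smul_eq_iff, g2']
  · intro x y hx hy
    have hpt : ∀ z, z ≠ QuotientGroup.mk 1 → ∃ u v, φ z = pt m u v := fun z hz => by
      refine (mem_ovoid_iff.1 (φmem z)).resolve_left fun h => hz (φinj ?_)
      rw [h, φmk, map_one, OneMemClass.coe_one, one_smul]
    obtain ⟨u, v, hu⟩ := hpt x hx
    obtain ⟨u', v', hu'⟩ := hpt y hy
    have hs : ∀ s : (S : Subgroup L), ∃ a b, (e.symm s.1).1 = T m a b := fun s => by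
      have h : e.symm s.1 ∈ uSub Q := by
        have := (SetLike.ext_iff.1 hS s.1).1 s.2
        rw [Subgroup.mem_map_equiv] at this
        exact this
      exact h
    have hmem : e (uu Q (u + u') (v + v' + (u + u') ^ (2 ^ (m + 1)) * u)) ∈ (S : Subgroup L) := by
      rw [hS]; exact ⟨_, uu_mem Q _ _, rfl⟩
    have hz : ∀ a : F, a + a = 0 := add_self Q
    refine ⟨⟨_, hmem⟩, φinj ?_, fun s hsx => ?_⟩
    · show φ (e _ • x) = φ y
      rw [φsmul, e.symm_apply_apply, hu, hu', show (uu Q (u + u') (v + v' + (u + u') ^ (2 ^ (m + 1)) * u)).1 =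
        T m (u + u') (v + v' + (u + u') ^ (2 ^ (m + 1)) * u) from rfl, T_pt Q]
      congr 1
      · linear_combination hz u
      · linear_combination hz v + hz ((u + u') ^ (2 ^ (m + 1)) * u)
    · obtain ⟨a, b, hab⟩ := hs s
      have h := congrArg φ hsx
      rw [φsmul, hab, hu, hu', T_pt Q] at h
      obtain ⟨h1, h2⟩ := pt_inj h
      have ha : a = u + u' := by linear_combination h1 - hz u
      subst ha
      have hb : b = v + v' + (u + u') ^ (2 ^ (m + 1)) * u := by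
        linear_combination h2 - hz v - hz ((u + u') ^ (2 ^ (m + 1)) * u)
      refine Subtype.ext (e.symm.injective (Subtype.ext ?_))
      rw [hab, hb, e.symm_apply_apply]
      rfl

end Cfsg.Lib.Suz
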