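import Cfsg.Agent.Suz.Ovoid

/-! The stabiliser of the Suzuki–Tits point set: structure, order and transitivity. -/

set_option autoImplicit false

open Matrix

namespace Cfsg.Lib.Suz

open Polynomial in
theorem coeff_zero_of_eval {F : Type*} [Field F] [Fintype F] {n : ℕ} (c : Fin n → F) (e : Fin n → ℕ)
    (he : Function.Injective e) (hlt : ∀ i, e i < Fintype.card F) (h : ∀ x : F, ∑ i, c i * x ^ e i = 0) :
    ∀ i, c i = 0 := by
  classical
  let P : F[X] := ∑ i, monomial (e i) (c i)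
  have hP : P = 0 := by
    refine Polynomial.eq_zero_of_natDegree_lt_card_of_eval_eq_zero' P Finset.univ (fun x _ => ?_) ?_
    · simp only [P, eval_finsetSum, eval_monomial, h]
    · rcases isEmpty_or_nonempty (Fin n) with hn | ⟨⟨i⟩⟩
      · simp [P]
        exact Fintype.card_pos
      · refine lt_of_le_of_lt (natDegree_sum_le_of_forall_le _ _ (n := Finset.univ.sup e) fun j _ =>
          (natDegree_monomial_le _).trans (Finset.le_sup (Finset.mem_univ j))) ?_
        rw [Finset.card_univ]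
        exact (Finset.sup_lt_iff (lt_of_le_of_lt (Nat.zero_le _) (hlt i))).2 fun j _ => hlt j
  intro i
  have := congrArg (fun p : F[X] => p.coeff (e i)) hP
  simpa [P, coeff_monomial, he.eq_iff] using this

variable {F : Type*} [Field F] [Fintype F] {m : ℕ} (Q : Par F m)
include Q

theorem smul_ovoid {g : SL4 F} (hg : g ∈ Cfsg.Sz F m) {p : Projectivization F (Fin 4 → F)}
    (hp : p ∈ Cfsg.suzukiOvoid F m) : g • p ∈ Cfsg.suzukiOvoid F m :=
  (MulAction.mem_stabilizer_set' (Set.toFinite _)).1 hg hp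

theorem exp_lt : 2 ^ (m + 1) + 2 < Fintype.card F ∧ 4 ≤ 2 ^ (m + 1) := by
  have h1 : 4 ≤ 2 ^ (m + 1) := by
    calc 4 = 2 ^ (1 + 1) := rfl
      _ ≤ 2 ^ (m + 1) := Nat.pow_le_pow_right two_pos (by have := Q.hm; omega)
  have h3 : 2 ^ (m + 1) * 2 ≤ 2 ^ (2 * m + 1) := by
    rw [← pow_succ]
    exact Nat.pow_le_pow_right two_pos (by have := Q.hm; omega)
  rw [Q.hF]
  omega

theorem stab_pair {g : SL4 F} (hg : g ∈ Cfsg.Sz F m) (h1 : g • Cfsg.suzukiPointInfinity F = Cfsg.suzukiPointInfinity F)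
    (h2 : g • pt m (0 : F) 0 = pt m 0 0) : ∃ k : Fˣ, g = H m k := by
  have := charP Q
  have hs : 2 ^ (m + 1) ≠ 0 := pow_ne_zero _ two_ne_zero
  obtain ⟨hlt, h4⟩ := exp_lt Q
  set M := (g : Matrix (Fin 4) (Fin 4) F) with hM
  have hmv : ∀ v : Fin 4 → F, ∀ i, (M *ᵥ v) i = M i 0 * v 0 + M i 1 * v 1 + M i 2 * v 2 + M i 3 * v 3 := fun v i => by
    simp [Matrix.mulVec, dotProduct, Fin.sum_univ_four]
  have ci : M 1 0 = 0 ∧ M 2 0 = 0 ∧ M 3 0 = 0 := by
    have h1' := h1
    simp only [Cfsg.suzukiPointInfinity, Projectivization.smul_mk] at h1'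
    obtain ⟨c, hc⟩ := (Projectivization.mk_eq_mk_iff' F _ _ _ _).1 h1'
    have := fun i => (hmv ![1, 0, 0, 0] i).symm.trans (congrFun hc.symm i)
    exact ⟨by simpa using this 1, by simpa using this 2, by simpa using this 3⟩
  have cz : M 0 3 = 0 ∧ M 1 3 = 0 ∧ M 2 3 = 0 := by
    have h2' := h2
    simp only [pt, Projectivization.smul_mk] at h2'
    obtain ⟨c, hc⟩ := (Projectivization.mk_eq_mk_iff' F _ _ _ _).1 h2'
    have := fun i => (hmv (vec m 0 0) i).symm.trans (congrFun hc.symm i)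
    have hf : fn m (0 : F) 0 = 0 := by simp [fn]
    exact ⟨by simpa [vec, hf] using this 0, by simpa [vec, hf] using this 1, by simpa [vec, hf] using this 2⟩
  obtain ⟨c1, c2, c3⟩ := ci
  obtain ⟨z0, z1, z2⟩ := cz
  have img : ∀ x y : F, M 3 1 * y + M 3 2 * x + M 3 3 ≠ 0 ∧
      ∃ x' y', M 2 1 * y + M 2 2 * x = (M 3 1 * y + M 3 2 * x + M 3 3) * x' ∧
        M 1 1 * y + M 1 2 * x = (M 3 1 * y + M 3 2 * x + M 3 3) * y' ∧
        M 0 0 * fn m x y + M 0 1 * y + M 0 2 * x = (M 3 1 * y + M 3 2 * x + M 3 3) * fn m x' y' := by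
    intro x y
    rcases mem_ovoid_iff.1 (smul_ovoid Q hg (pt_mem m x y)) with h | ⟨x', y', h⟩
    · rw [← h1] at h
      exact absurd (MulAction.injective g h) (pt_ne_inf m x y)
    · simp only [pt, Projectivization.smul_mk] at h
      obtain ⟨c, hc⟩ := (Projectivization.mk_eq_mk_iff' F _ _ _ _).1 h
      have key := fun i => (hmv (vec m x y) i).symm.trans (congrFun hc.symm i)
      have e3 := key 3
      have e2 := key 2
      have e1 := key 1
      have e0 := key 0
      simp [vec, c1, c2, c3, z0, z1, z2] at e0 e1 e2 e3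
      rw [e3]
      refine ⟨fun h0 => ?_, x', y', e2, e1, e0⟩
      subst h0
      have hne := (smul_ne_zero_iff_ne g).2 (vec_ne m x y)
      rw [← hc] at hne
      exact hne (zero_smul F _)
  have hd : M 3 3 ≠ 0 := by simpa using (img 0 0).1
  have h31 : M 3 1 = 0 := by
    by_contra h
    exact (img 0 (-(M 3 3) / M 3 1)).1 (by rw [mul_zero, add_zero, mul_div_cancel₀ _ h, neg_add_cancel])
  have h32 : M 3 2 = 0 := by
    by_contra h
    exact (img (-(M 3 3) / M 3 2) 0).1 (by rw [mul_zero, zero_add, mul_div_cancel₀ _ h, neg_add_cancel])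
  set δ := M 3 3 with hδ
  set p := M 2 2 / δ with hp
  set r := M 2 1 / δ with hr
  set u := M 1 2 / δ with hu
  set w := M 1 1 / δ with hw
  set A := M 0 0 / δ with hA
  set P := M 0 2 / δ with hP
  set R := M 0 1 / δ with hR
  have eq : ∀ x y : F, fn m (p * x + r * y) (u * x + w * y) = A * fn m x y + P * x + R * y := by
    intro x y
    obtain ⟨-, x', y', e2, e1, e0⟩ := img x y
    simp only [h31, h32, zero_mul, zero_add] at e0 e1 e2
    have hx : x' = p * x + r * y := by rw [hp, hr]; field_simp; linear_combination -e2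
    have hy : y' = u * x + w * y := by rw [hu, hw]; field_simp; linear_combination -e1
    rw [← hx, ← hy, hA, hP, hR]
    field_simp
    linear_combination -e0
  have hq : ∀ n, n < 2 ^ (m + 1) + 3 → n < Fintype.card F := fun n hn => by omega
  obtain ⟨hPu, hAp, hu0⟩ : P = 0 ∧ p ^ (2 ^ (m + 1) + 2) = A ∧ u = 0 := by
    have key := coeff_zero_of_eval (F := F) ![P, p * u, u ^ (2 ^ (m + 1)), p ^ (2 ^ (m + 1) + 2) + A]
      ![1, 2, 2 ^ (m + 1), 2 ^ (m + 1) + 2]
      (fun i j h => by fin_cases i <;> fin_cases j <;> simp at h ⊢ <;> omega)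
      (fun i => hq _ (by fin_cases i <;> simp <;> omega)) (fun x => by
        have h := eq x 0
        simp only [mul_zero, add_zero, fn, zero_pow hs, mul_pow] at h
        simp only [Fin.sum_univ_four, Matrix.cons_val, pow_one]
        have h2 : (2 : F) = 0 := CharP.cast_eq_zero F 2
        linear_combination h + (A * x ^ (2 ^ (m + 1) + 2) + P * x) * h2)
    have k0 := key 0
    have k2 := key 2
    have k3 := key 3
    simp only [Matrix.cons_val] at k0 k2 k3
    exact ⟨k0, (eq_neg_of_add_eq_zero_left k3).trans (neg_eq Q A), (pow_eq_zero_iff hs).1 k2⟩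
  obtain ⟨hR0, hr0, hwA⟩ : R = 0 ∧ r = 0 ∧ w ^ (2 ^ (m + 1)) = A := by
    have key := coeff_zero_of_eval (F := F) ![R, r * w, w ^ (2 ^ (m + 1)) + A, r ^ (2 ^ (m + 1) + 2)]
      ![1, 2, 2 ^ (m + 1), 2 ^ (m + 1) + 2]
      (fun i j h => by fin_cases i <;> fin_cases j <;> simp at h ⊢ <;> omega)
      (fun i => hq _ (by fin_cases i <;> simp <;> omega)) (fun y => by
        have h := eq 0 y
        simp only [mul_zero, zero_add, fn, zero_pow (show 2 ^ (m + 1) + 2 ≠ 0 by omega), mul_pow] at h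
        simp only [Fin.sum_univ_four, Matrix.cons_val, pow_one]
        have h2 : (2 : F) = 0 := CharP.cast_eq_zero F 2
        linear_combination h + (A * y ^ (2 ^ (m + 1)) + R * y) * h2)
    have k0 := key 0
    have k2 := key 2
    have k3 := key 3
    simp only [Matrix.cons_val] at k0 k2 k3
    exact ⟨k0, (pow_eq_zero_iff (by omega)).1 k3, (eq_neg_of_add_eq_zero_left k2).trans (neg_eq Q A)⟩
  have hpw : p * w = A := by
    have h := eq 1 1
    simp only [mul_one, hr0, hu0, hPu, hR0, add_zero, zero_add, fn, one_pow] at h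
    rw [hAp, hwA] at h
    have h2 : (2 : F) = 0 := CharP.cast_eq_zero F 2
    linear_combination h + (0 : F) * h2
  have hA0 : A ≠ 0 := by
    intro h
    have hM00 : M 0 0 = 0 := by rw [hA] at h; exact (div_eq_zero_iff.1 h).resolve_right hd
    have hne := (smul_ne_zero_iff_ne g).2 (show (![1, 0, 0, 0] : Fin 4 → F) ≠ 0 from fun e => by
      simpa using congrFun e 0)
    refine hne (funext fun i => ?_)
    rw [smul_eq, ← hM, hmv]
    fin_cases i <;> simp [hM00, c1, c2, c3]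
  have hp0 : p ≠ 0 := fun h => hA0 (by rw [← hAp, h, zero_pow (by omega)])
  have hw' : w = p ^ (2 ^ (m + 1) + 1) := by
    have : p * w = p * p ^ (2 ^ (m + 1) + 1) := by rw [hpw, ← pow_succ', hAp]
    exact mul_left_cancel₀ hp0 this
  refine ⟨Units.mk0 p hp0, Subtype.ext ?_⟩
  have hdiag : M = δ • Matrix.diagonal ![p ^ (2 ^ (m + 1) + 2), p ^ (2 ^ (m + 1) + 1), p, 1] := by
    have m00 : M 0 0 = δ * p ^ (2 ^ (m + 1) + 2) := by rw [hAp, hA]; field_simp
    have m11 : M 1 1 = δ * p ^ (2 ^ (m + 1) + 1) := by rw [← hw', hw]; field_simp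
    have m22 : M 2 2 = δ * p := by rw [hp]; field_simp
    have m12 : M 1 2 = 0 := by rw [hu] at hu0; exact (div_eq_zero_iff.1 hu0).resolve_right hd
    have m21 : M 2 1 = 0 := by rw [hr] at hr0; exact (div_eq_zero_iff.1 hr0).resolve_right hd
    have m02 : M 0 2 = 0 := by rw [hP] at hPu; exact (div_eq_zero_iff.1 hPu).resolve_right hd
    have m01 : M 0 1 = 0 := by rw [hR] at hR0; exact (div_eq_zero_iff.1 hR0).resolve_right hd
    ext i j
    fin_cases i <;> fin_cases j <;>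
      simp [m00, m11, m22, m12, m21, m02, m01, c1, c2, c3, z0, z1, z2, h31, h32, ← hδ]
  have hdet : δ ^ 4 * p ^ (2 * 2 ^ (m + 1) + 4) = 1 := by
    have h := g.2
    rw [← hM, hdiag, Matrix.det_smul, Matrix.det_diagonal, Fin.prod_univ_four, Fintype.card_fin] at h
    simp only [Matrix.cons_val] at h
    rw [← h]
    ring
  have hδ' : δ * p ^ (hh m + 1) = 1 := by
    have h4' : (δ * p ^ (hh m + 1)) ^ (2 ^ 2) = 1 ^ (2 ^ 2) := by
      rw [one_pow, ← hdet, show 2 ^ 2 = 4 by norm_num, mul_pow, ← pow_mul, hh, pow_succ]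
      ring_nf
    have : Fact (Nat.Prime 2) := ⟨Nat.prime_two⟩
    exact iterateFrobenius_inj F 2 2 (by simpa [iterateFrobenius_def] using h4')
  rw [← hM, hdiag]
  have hδ2 : δ = (p ^ (hh m + 1))⁻¹ := eq_inv_of_mul_eq_one_left hδ'
  have hs2 : 2 ^ (m + 1) = hh m + hh m := by rw [hh, pow_succ]; ring
  simp only [H, Units.val_pow_eq_pow_val, Units.val_inv_eq_inv_val, Units.val_mk0]
  ext i j
  fin_cases i <;> fin_cases j <;> simp [hδ2, hs2]
  all_goals
    field_simp
    ring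

/-- The unipotent element in the group. -/
noncomputable def tS (a b : F) : ↥(Cfsg.Sz F m) := ⟨T m a b, T_mem Q a b⟩

theorem T_mul (a b c d : F) : T m a b * T m c d = T m (a + c) (b + d + a ^ (2 ^ (m + 1)) * c) := by
  have := charP Q
  have h2 : (2 : F) = 0 := CharP.cast_eq_zero F 2
  refine Subtype.ext ?_
  have hadd := add_pow_s Q a c
  have hf := fn_add Q a b c d
  rw [show c + a = a + c by ring, show d + a ^ (2 ^ (m + 1)) * c + b = b + d + a ^ (2 ^ (m + 1)) * c by ring] at hf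
  show Tmat m a b * Tmat m c d = Tmat m (a + c) (b + d + a ^ (2 ^ (m + 1)) * c)
  simp only [Tmat]
  generalize 2 ^ (m + 1) = s at hadd hf ⊢
  ext i j
  fin_cases i <;> fin_cases j <;> simp [Matrix.mul_apply, Fin.sum_univ_four, hadd, pow_succ, hf]
  all_goals (try ring)
  all_goals first | linear_combination (c * a ^ s) * h2 | linear_combination (-(c * a ^ s)) * h2

theorem T_zero : T m (0 : F) 0 = 1 := by
  refine Subtype.ext ?_
  ext i j
  fin_cases i <;> fin_cases j <;> simp [T, Tmat, fn]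

theorem T_inv (a b : F) : (T m a b)⁻¹ = T m a (b + a ^ (2 ^ (m + 1) + 1)) := by
  refine inv_eq_of_mul_eq_one_right ?_
  rw [T_mul Q, add_self Q a, pow_succ,
    show b + (b + a ^ 2 ^ (m + 1) * a) + a ^ 2 ^ (m + 1) * a = (b + b) + (a ^ 2 ^ (m + 1) * a + a ^ 2 ^ (m + 1) * a) by ring,
    add_self Q, add_self Q, add_zero, T_zero Q]

theorem W_sq : W F * W F = 1 := by
  refine Subtype.ext ?_
  show (W F).1 * (W F).1 = 1
  simp only [W]
  ext i j
  fin_cases i <;> fin_cases j <;> simp [Matrix.mul_apply, Fin.sum_univ_four]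

theorem H_mul (k l : Fˣ) : H m (k * l) = H m k * H m l := by
  refine Subtype.ext ?_
  show (H m (k * l)).1 = (H m k).1 * (H m l).1
  simp only [H, Matrix.diagonal_mul_diagonal]
  congr 1
  funext i
  fin_cases i <;> simp [mul_pow, mul_inv, mul_comm]

theorem T_inj {a b c d : F} (h : T m a b = T m c d) : a = c ∧ b = d := by
  have h' := congrArg Subtype.val h
  exact ⟨by simpa [T, Tmat] using congrFun (congrFun h' 2) 3, by simpa [T, Tmat] using congrFun (congrFun h' 1) 3⟩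

theorem stab_inf {g : SL4 F} (hg : g ∈ Cfsg.Sz F m)
    (h : g • Cfsg.suzukiPointInfinity F = Cfsg.suzukiPointInfinity F) : ∃ a b k, g = T m a b * H m k := by
  rcases mem_ovoid_iff.1 (smul_ovoid Q hg (pt_mem m 0 0)) with h0 | ⟨a, b, h0⟩
  · rw [← h] at h0
    exact absurd (MulAction.injective g h0) (pt_ne_inf _ _ _)
  · obtain ⟨k, hk⟩ := stab_pair Q (g := (T m a b)⁻¹ * g) (mul_mem (inv_mem (T_mem Q a b)) hg)
      (by rw [mul_smul, h, inv_smul_eq_iff, T_inf])
      (by rw [mul_smul, h0, inv_smul_eq_iff, T_pt Q]; simp [zero_pow (pow_ne_zero (m + 1) two_ne_zero)])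
    exact ⟨a, b, k, by rw [← hk, mul_inv_cancel_left]⟩

theorem elt_cases {g : SL4 F} (hg : g ∈ Cfsg.Sz F m) :
    (∃ a b k, g = T m a b * H m k) ∨ ∃ a b c d k, g = T m a b * W F * (T m c d * H m k) := by
  rcases mem_ovoid_iff.1 (smul_ovoid Q hg (inf_mem m)) with h | ⟨a, b, h⟩
  · exact Or.inl (stab_inf Q hg h)
  · obtain ⟨c, d, k, hk⟩ := stab_inf Q (g := W F * (T m a b)⁻¹ * g)
      (mul_mem (mul_mem (W_mem Q) (inv_mem (T_mem Q a b))) hg) (by
        rw [mul_smul, mul_smul, h, show (T m a b)⁻¹ • pt m a b = pt m (0 : F) 0 by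
          rw [inv_smul_eq_iff, T_pt Q]; simp [zero_pow (pow_ne_zero (m + 1) two_ne_zero)], W_zero])
    refine Or.inr ⟨a, b, c, d, k, ?_⟩
    rw [← hk]
    simp only [← mul_assoc]
    rw [mul_assoc (T m a b), W_sq Q]
    group

/-- A subgroup containing the three kinds of elements contains everything. -/
theorem Sz_le {G : Subgroup (SL4 F)} (hT : ∀ a b, T m a b ∈ G) (hH : ∀ k, H m k ∈ G) (hW : W F ∈ G) :
    Cfsg.Sz F m ≤ G := fun g hg => by
  rcases elt_cases Q hg with ⟨a, b, k, rfl⟩ | ⟨a, b, c, d, k, rfl⟩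
  · exact mul_mem (hT _ _) (hH _)
  · exact mul_mem (mul_mem (hT _ _) hW) (mul_mem (hT _ _) (hH _))

theorem H_injective : Function.Injective (H m : Fˣ → SL4 F) := fun k l h => by
  have h0 := congrFun (congrFun (congrArg Subtype.val h) 0) 0
  have h1 := congrFun (congrFun (congrArg Subtype.val h) 1) 1
  simp only [H, Matrix.diagonal_apply_eq, Matrix.cons_val] at h0 h1
  have e0 : k ^ (hh m + 1) = l ^ (hh m + 1) := Units.ext h0
  have e1 : k ^ hh m = l ^ hh m := Units.ext h1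
  rw [pow_succ, pow_succ, e1] at e0
  exact mul_left_cancel e0

theorem stab_inf_card :
    Nat.card (MulAction.stabilizer (Cfsg.Sz F m) (Cfsg.suzukiPointInfinity F)) =
      (2 ^ (2 * m + 1)) ^ 2 * (2 ^ (2 * m + 1) - 1) := by
  let f : (F × F) × Fˣ → MulAction.stabilizer (Cfsg.Sz F m) (Cfsg.suzukiPointInfinity F) := fun p =>
    ⟨⟨T m p.1.1 p.1.2 * H m p.2, mul_mem (T_mem Q _ _) (H_mem Q _)⟩, by
      show (T m p.1.1 p.1.2 * H m p.2) • Cfsg.suzukiPointInfinity F = _
      rw [mul_smul, H_inf, T_inf]⟩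
  have hf : Function.Bijective f := by
    refine ⟨fun ⟨⟨a, b⟩, k⟩ ⟨⟨c, d⟩, l⟩ h => ?_, fun g => ?_⟩
    · have h' : T m a b * H m k = T m c d * H m l := congrArg (fun x => x.1.1) h
      have h0 := congrArg (fun g : SL4 F => g • pt m (0 : F) 0) h'
      simp only [mul_smul, H_pt Q, T_pt Q, mul_zero, zero_add, add_zero] at h0
      obtain ⟨rfl, rfl⟩ := pt_inj h0
      rw [H_injective Q (mul_left_cancel h')]
    · obtain ⟨a, b, k, h⟩ := stab_inf Q g.1.2 g.2
      exact ⟨((a, b), k), Subtype.ext (Subtype.ext h.symm)⟩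
  rw [← Nat.card_eq_of_bijective f hf, Nat.card_prod, Nat.card_prod, Nat.card_units, Nat.card_eq_fintype_card, Q.hF,
    pow_two]

theorem transitive {p r : Projectivization F (Fin 4 → F)} (hp : p ∈ Cfsg.suzukiOvoid F m)
    (hr : r ∈ Cfsg.suzukiOvoid F m) : ∃ g ∈ Cfsg.Sz F m, g • p = r := by
  have h : ∀ r ∈ Cfsg.suzukiOvoid F m, ∃ g ∈ Cfsg.Sz F m, g • Cfsg.suzukiPointInfinity F = r := fun r hr => by
    rcases mem_ovoid_iff.1 hr with rfl | ⟨x, y, rfl⟩
    · exact ⟨1, one_mem _, one_smul _ _⟩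
    · exact ⟨T m x y * W F, mul_mem (T_mem Q _ _) (W_mem Q), by rw [mul_smul, W_inf m, T_pt Q]; simp [zero_pow (pow_ne_zero (m + 1) two_ne_zero)]⟩
  obtain ⟨g, hg, rfl⟩ := h p hp
  obtain ⟨k, hk, rfl⟩ := h r hr
  exact ⟨k * g⁻¹, mul_mem hk (inv_mem hg), by rw [mul_smul, inv_smul_smul]⟩

theorem to_inf_zero {p r : Projectivization F (Fin 4 → F)} (hp : p ∈ Cfsg.suzukiOvoid F m)
    (hr : r ∈ Cfsg.suzukiOvoid F m) (hne : p ≠ r) :
    ∃ g ∈ Cfsg.Sz F m, g • p = Cfsg.suzukiPointInfinity F ∧ g • r = pt m 0 0 := by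
  obtain ⟨g, hg, hgp⟩ := transitive Q hp (inf_mem m)
  rcases mem_ovoid_iff.1 (smul_ovoid Q hg hr) with h | ⟨a, b, h⟩
  · rw [← hgp] at h
    exact absurd (MulAction.injective g h).symm hne
  · refine ⟨(T m a b)⁻¹ * g, mul_mem (inv_mem (T_mem Q a b)) hg, ?_, ?_⟩
    · rw [mul_smul, hgp, inv_smul_eq_iff, T_inf]
    · rw [mul_smul, h, inv_smul_eq_iff, T_pt Q]; simp [zero_pow (pow_ne_zero (m + 1) two_ne_zero)]

theorem card_Sz : Nat.card (Cfsg.Sz F m) =
    (2 ^ (2 * m + 1)) ^ 2 * ((2 ^ (2 * m + 1)) ^ 2 + 1) * (2 ^ (2 * m + 1) - 1) := by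
  rw [← Nat.card_congr (MulAction.orbitProdStabilizerEquivGroup (Cfsg.Sz F m) (Cfsg.suzukiPointInfinity F)),
    Nat.card_prod, stab_inf_card Q,
    show MulAction.orbit (Cfsg.Sz F m) (Cfsg.suzukiPointInfinity F) = Cfsg.suzukiOvoid F m from ?_,
    card_ovoid, Q.hF]
  · ring
  · ext p
    refine ⟨?_, fun hp => ?_⟩
    · rintro ⟨g, rfl⟩
      exact smul_ovoid Q g.2 (inf_mem m)
    · obtain ⟨g, hg, h⟩ := transitive Q (inf_mem m) hp
      exact ⟨⟨g, hg⟩, h⟩

end Cfsg.Lib.Suz
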