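import Cfsg.Agent.Suz.Sylow
import Cfsg.Agent.Suz.Lie
import Cfsg.Prelude.Def_Transfer
import Cfsg.Prelude.Def_Solvable
import Mathlib

/-!
The automorphism group of a Sylow 2-subgroup of a Suzuki group.
-/

set_option autoImplicit false
set_option linter.unusedSectionVars false
set_option linter.style.haveILetI false

namespace Cfsg.Lib.Suz.SylowAut

open Cfsg.Lib.Suz

variable {F : Type*} [Field F] [Fintype F] {m : ℕ} (Q : Par F m)
include Q

theorem charTwo : CharP F 2 := charP Q

theorem pow_two_mod (a : F) (t : ℕ) : a ^ 2 ^ t = a ^ 2 ^ (t % (2 * m + 1)) := by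
  conv_lhs => rw [← Nat.div_add_mod t (2 * m + 1), pow_add, pow_mul, pow_mul, ← Q.hF, FiniteField.pow_card_pow]

/-- The powers of Frobenius indexed cyclically. -/
def fr (i : ZMod (2 * m + 1)) (a : F) : F := a ^ 2 ^ i.val

theorem fr_natCast (t : ℕ) (a : F) : fr (t : ZMod (2 * m + 1)) a = a ^ 2 ^ t := by
  rw [pow_two_mod Q a t, fr, ZMod.val_natCast]

theorem fr_zero' (a : F) : fr (0 : ZMod (2 * m + 1)) a = a := by
  rw [fr, ZMod.val_zero, pow_zero, pow_one]

theorem fr_fr (i j : ZMod (2 * m + 1)) (a : F) : fr i (fr j a) = fr (i + j) a := by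
  rw [← ZMod.natCast_zmod_val i, ← ZMod.natCast_zmod_val j, ← Nat.cast_add, (fr_natCast Q), (fr_natCast Q), (fr_natCast Q),
    ← pow_mul, ← pow_add, add_comm]

theorem fr_s (a : F) : fr ((m + 1 : ℕ) : ZMod (2 * m + 1)) a = a ^ 2 ^ (m + 1) := fr_natCast Q _ a

theorem fr_add (i : ZMod (2 * m + 1)) (a b : F) : fr i (a + b) = fr i a + fr i b := by
  have := charTwo Q
  exact add_pow_char_pow a b 2 _

theorem fr_mul (i : ZMod (2 * m + 1)) (a b : F) : fr i (a * b) = fr i a * fr i b := mul_pow _ _ _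

theorem fr_pow (i : ZMod (2 * m + 1)) (a : F) (t : ℕ) : fr i (a ^ t) = fr i a ^ t := pow_right_comm _ _ _

theorem fr_zero_right (i : ZMod (2 * m + 1)) : fr i (0 : F) = 0 := zero_pow (pow_ne_zero _ two_ne_zero)

theorem fr_injective (i : ZMod (2 * m + 1)) : Function.Injective (fr (F := F) i) := fun a b e => by
  have := congrArg (fr (F := F) (-i)) e
  rwa [(fr_fr Q), (fr_fr Q), neg_add_cancel, (fr_zero' Q), (fr_zero' Q)] at this

theorem fr_uniq (c : ZMod (2 * m + 1) → F) (h : ∀ a : F, ∑ i, c i * fr i a = 0) : ∀ i, c i = 0 := by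
  let e : Fin (2 * m + 1) ≃ ZMod (2 * m + 1) := Equiv.refl _
  have key := coeff_zero_of_eval (F := F) (fun i => c (e i)) (fun i => 2 ^ (e i).val)
    (fun i j h => e.injective (ZMod.val_injective _ (Nat.pow_right_injective le_rfl h)))
    (fun i => by rw [Q.hF]; exact Nat.pow_lt_pow_right one_lt_two (ZMod.val_lt _))
    (fun a => by rw [← h a]; exact Fintype.sum_equiv e _ _ fun i => rfl)
  exact fun i => key (e.symm i)

/-- The additive map of a tuple of coefficients. -/
def lin (c : ZMod (2 * m + 1) → F) : F →+ F where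
  toFun a := ∑ i, c i * fr i a
  map_zero' := by simp [(fr_zero_right Q)]
  map_add' a b := by simp [(fr_add Q), mul_add, Finset.sum_add_distrib]

theorem lin_bijective : Function.Bijective (lin Q) := by
  have := charTwo Q
  let _ : Algebra (ZMod 2) F := ZMod.algebra F 2
  have hinj : Function.Injective (lin Q) := fun c d e => funext fun i => by
    refine sub_eq_zero.1 (fr_uniq Q (fun i => c i - d i) (fun a => ?_) i)
    simp only [sub_mul, Finset.sum_sub_distrib]
    exact sub_eq_zero.2 (DFunLike.congr_fun e a)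
  have hr : Module.finrank (ZMod 2) F = 2 * m + 1 := by
    have h := Module.card_eq_pow_finrank (K := ZMod 2) (V := F)
    rw [Q.hF, ZMod.card] at h
    exact (Nat.pow_right_injective le_rfl h).symm
  let b := Module.finBasisOfFinrankEq (ZMod 2) F hr
  let ev : (F →+ F) → (Fin (2 * m + 1) → F) := fun f i => f (b i)
  have hev : Function.Injective ev := fun f g e => AddMonoidHom.ext fun x => by
    have h := b.ext (f₁ := f.toZModLinearMap 2) (f₂ := g.toZModLinearMap 2) fun i => congrFun e i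
    exact LinearMap.congr_fun h x
  have : Finite (F →+ F) := Finite.of_injective ev hev
  refine hinj.bijective_of_nat_card_le ((Nat.card_le_card_of_injective ev hev).trans (le_of_eq ?_))
  exact Nat.card_congr (Equiv.refl _)

/-- An element of the Sylow subgroup. -/
def u (a b : F) : uSub Q := ⟨uu Q a b, uu_mem Q a b⟩

theorem u_mul (a b c d : F) : u Q a b * u Q c d = u Q (a + c) (b + d + a ^ 2 ^ (m + 1) * c) :=
  Subtype.ext (uu_mul Q a b c d)

theorem u_zero : u Q (0 : F) 0 = 1 := Subtype.ext (uu_zero Q)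

theorem u_inj {a b c d : F} (h : u Q a b = u Q c d) : a = c ∧ b = d := uu_inj Q (congrArg Subtype.val h)

theorem exists_u (x : uSub Q) : ∃ a b, x = u Q a b := by
  obtain ⟨a, b, e⟩ := exists_uu Q x.2
  exact ⟨a, b, Subtype.ext e⟩

/-- First coordinate. -/
noncomputable def fst' (x : uSub Q) : F := (exists_u Q x).choose

/-- Second coordinate. -/
noncomputable def snd' (x : uSub Q) : F := (exists_u Q x).choose_spec.choose

theorem eq_u (x : uSub Q) : x = u Q (fst' Q x) (snd' Q x) := (exists_u Q x).choose_spec.choose_spec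

theorem fst'_u (a b : F) : fst' Q (u Q a b) = a := ((u_inj Q (eq_u Q (u Q a b))).1).symm

theorem snd'_u (a b : F) : snd' Q (u Q a b) = b := ((u_inj Q (eq_u Q (u Q a b))).2).symm

theorem fst'_mul (x y : uSub Q) : fst' Q (x * y) = fst' Q x + fst' Q y := by
  conv_lhs => rw [eq_u Q x, eq_u Q y, (u_mul Q), (fst'_u Q)]

theorem u_split (a b : F) : u Q a b = u Q a 0 * u Q 0 b := by
  rw [(u_mul Q), mul_zero, add_zero, add_zero, zero_add]

theorem sq_u (a b : F) : u Q a b * u Q a b = u Q 0 (a ^ (2 ^ (m + 1) + 1)) := by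
  rw [(u_mul Q), add_self Q a, add_self Q b, zero_add, ← pow_succ]

/-- An automorphism keeps the first coordinate zero. -/
theorem fst'_zero_iff (φ : MulAut (uSub Q)) (x : uSub Q) : fst' Q (φ x) = 0 ↔ fst' Q x = 0 := by
  have key : ∀ y : uSub Q, y * y = 1 ↔ fst' Q y = 0 := fun y => by
    conv_lhs => rw [eq_u Q y, (sq_u Q), ← u_zero Q]
    refine ⟨fun h => ?_, fun h => by rw [h, zero_pow (Nat.succ_ne_zero _)]⟩
    exact eq_zero_of_pow_eq_zero (u_inj Q h).2
  rw [← key, ← key, ← map_mul, MulEquiv.map_eq_one_iff]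

/-- The action on the quotient by the centre. -/
noncomputable def top' (φ : MulAut (uSub Q)) : F →+ F where
  toFun a := fst' Q (φ (u Q a 0))
  map_zero' := by rw [(u_zero Q), map_one, ← u_zero Q, (fst'_u Q)]
  map_add' a c := by
    have h0 : fst' Q (φ (u Q 0 (a ^ 2 ^ (m + 1) * c))) = 0 := (fst'_zero_iff Q φ _).2 (fst'_u Q _ _)
    have e : u Q a 0 * u Q c 0 = u Q (a + c) 0 * u Q 0 (a ^ 2 ^ (m + 1) * c) := by
      rw [(u_mul Q), (u_mul Q)]
      simp
    have := congrArg (fun x => fst' Q (φ x)) e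
    simp only [map_mul, (fst'_mul Q), h0, add_zero] at this
    exact this.symm

/-- The action on the centre. -/
noncomputable def bot' (φ : MulAut (uSub Q)) : F →+ F where
  toFun b := snd' Q (φ (u Q 0 b))
  map_zero' := by rw [(u_zero Q), map_one, ← u_zero Q, (snd'_u Q)]
  map_add' b d := by
    have e : u Q 0 (b + d) = u Q 0 b * u Q 0 d := by
      rw [(u_mul Q), zero_pow (pow_ne_zero _ two_ne_zero), zero_mul, add_zero, add_zero]
    have h : ∀ b, fst' Q (φ (u Q 0 b)) = 0 := fun b => (fst'_zero_iff Q φ _).2 (fst'_u Q _ _)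
    rw [e, map_mul, eq_u Q (φ (u Q 0 b)), eq_u Q (φ (u Q 0 d)), h, h, (u_mul Q), (snd'_u Q), (snd'_u Q), (snd'_u Q),
      zero_pow (pow_ne_zero _ two_ne_zero), zero_mul, add_zero]

theorem bot'_sq (φ : MulAut (uSub Q)) (a : F) :
    bot' Q φ (a ^ (2 ^ (m + 1) + 1)) = top' Q φ a ^ (2 ^ (m + 1) + 1) := by
  show snd' Q (φ (u Q 0 _)) = fst' Q (φ (u Q a 0)) ^ _
  rw [← sq_u Q a 0, map_mul]
  conv_lhs => rw [eq_u Q (φ (u Q a 0)), (sq_u Q), (snd'_u Q)]

theorem top'_eq_zero (φ : MulAut (uSub Q)) {a : F} (h : top' Q φ a = 0) : a = 0 := by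
  rw [← fst'_u Q a 0]
  exact (fst'_zero_iff Q φ _).1 h

/-- Coefficients of the action on the quotient are supported at one power of Frobenius. -/
theorem support_single (c e : ZMod (2 * m + 1) → F)
    (h : ∀ a : F, lin Q e (a ^ (2 ^ (m + 1) + 1)) = lin Q c a ^ (2 ^ (m + 1) + 1)) (i j : ZMod (2 * m + 1))
    (hi : c i ≠ 0) (hj : c j ≠ 0) : i = j := by
  classical
  have := charTwo Q
  set k : ZMod (2 * m + 1) := ((m + 1 : ℕ) : ZMod (2 * m + 1)) with hk
  set s := 2 ^ (m + 1) with hs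
  have hsadd : ∀ a b : F, (a + b) ^ s = a ^ s + b ^ s := fun a b => add_pow_char_pow a b 2 _
  let f : ZMod (2 * m + 1) → ZMod (2 * m + 1) → F := fun i j => c (i - k) ^ s * c j
  let g : ZMod (2 * m + 1) → ZMod (2 * m + 1) → F := fun i j => if i = j + k then e j else 0
  have hA : ∀ a b : F, lin Q c a ^ s * lin Q c b = ∑ i, ∑ j, f i j * (fr i a * fr j b) := by
    intro a b
    show (∑ i, c i * fr i a) ^ s * (∑ j, c j * fr j b) = _
    rw [hs, sum_pow_char_pow, Finset.sum_mul_sum, ← Equiv.sum_comp (Equiv.subRight k)]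
    refine Finset.sum_congr rfl fun i _ => Finset.sum_congr rfl fun j _ => ?_
    rw [Equiv.subRight_apply, mul_pow, ← fr_s Q (fr (i - k) a), (fr_fr Q), add_sub_cancel]
    ring
  have hB : ∀ a b : F, lin Q e (a ^ s * b) = ∑ i, ∑ j, g i j * (fr i a * fr j b) := by
    intro a b
    show ∑ j, e j * fr j (a ^ s * b) = _
    rw [Finset.sum_comm]
    refine Finset.sum_congr rfl fun j _ => ?_
    simp only [g, ite_mul, zero_mul, Finset.sum_ite_eq', Finset.mem_univ, if_true]
    rw [(fr_mul Q), hs, ← fr_s Q a, (fr_fr Q)]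
  have hpol : ∀ a b : F, ∑ i, ∑ j, (f i j + f j i - (g i j + g j i)) * (fr i a * fr j b) = 0 := by
    intro a b
    have sw : ∀ p : ZMod (2 * m + 1) → ZMod (2 * m + 1) → F,
        ∑ i, ∑ j, p j i * (fr i a * fr j b) = ∑ i, ∑ j, p i j * (fr i b * fr j a) := fun p => by
      rw [Finset.sum_comm]
      exact Finset.sum_congr rfl fun i _ => Finset.sum_congr rfl fun j _ => by ring
    simp only [sub_mul, add_mul, Finset.sum_sub_distrib, Finset.sum_add_distrib]
    rw [sw f, sw g, ← hA, ← hA, ← hB, ← hB]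
    have e1 := h (a + b)
    have e2 := h a
    have e3 := h b
    rw [pow_succ, pow_succ, hsadd, map_add (lin Q c), hsadd, show (a ^ s + b ^ s) * (a + b) =
      a ^ s * a + a ^ s * b + (b ^ s * a + b ^ s * b) by ring, map_add, map_add, map_add] at e1
    rw [pow_succ, pow_succ] at e2 e3
    linear_combination e2 + e3 - e1
  have hfg : ∀ i j, f i j + f j i - (g i j + g j i) = 0 := by
    intro i
    refine fr_uniq Q _ fun b => ?_
    refine (fr_uniq Q (fun i => ∑ j, (f i j + f j i - (g i j + g j i)) * fr j b) (fun a => ?_) i)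
    rw [← hpol a b]
    refine Finset.sum_congr rfl fun i _ => ?_
    rw [Finset.sum_mul]
    exact Finset.sum_congr rfl fun j _ => by ring
  have hk0 : k ≠ 0 := by
    rw [hk, Ne, ZMod.natCast_eq_zero_iff]
    intro hd
    have := Nat.le_of_dvd (Nat.succ_pos _) hd
    have := Q.hm
    omega
  have hdiag : ∀ i, c (i - k) * c i = 0 := by
    intro i
    have hz : ∀ x : F, ∑ i, f i i * fr i x = 0 := by
      intro x
      obtain ⟨a, rfl⟩ : ∃ a, a ^ 2 = x := (FiniteField.isSquare_of_char_two (ringChar.eq F 2) x).imp fun a ha => by rw [pow_two]; exact ha.symm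
      have h1 := h a
      rw [pow_succ, pow_succ, hA a a, hB a a] at h1
      have h2 : ∑ p : ZMod (2 * m + 1) × ZMod (2 * m + 1),
          (if p.1 = p.2 then 0 else (f p.1 p.2 - g p.1 p.2) * (fr p.1 a * fr p.2 a)) = 0 := by
        refine Finset.sum_involution (fun p _ => p.swap) (fun p _ => ?_) (fun p _ hp => ?_)
          (fun p _ => Finset.mem_univ _) (fun p _ => Prod.swap_swap p)
        · rcases eq_or_ne p.1 p.2 with hpe | hpe
          · simp [hpe]
          · simp only [Prod.fst_swap, Prod.snd_swap, if_neg hpe, if_neg hpe.symm]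
            linear_combination (fr p.1 a * fr p.2 a) * hfg p.1 p.2
        · intro hsw
          exact hp (if_pos (congrArg Prod.snd hsw))
      have h3 : ∑ p : ZMod (2 * m + 1) × ZMod (2 * m + 1),
          (if p.1 = p.2 then (f p.1 p.2 - g p.1 p.2) * (fr p.1 a * fr p.2 a) else 0) = 0 := by
        have h4 : ∑ p : ZMod (2 * m + 1) × ZMod (2 * m + 1), (f p.1 p.2 - g p.1 p.2) * (fr p.1 a * fr p.2 a) = 0 := by
          rw [Fintype.sum_prod_type]
          simp only [sub_mul, Finset.sum_sub_distrib, h1, sub_self]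
        rw [show (∑ p : ZMod (2 * m + 1) × ZMod (2 * m + 1),
            if p.1 = p.2 then (f p.1 p.2 - g p.1 p.2) * (fr p.1 a * fr p.2 a) else 0) =
            (∑ p : ZMod (2 * m + 1) × ZMod (2 * m + 1), (f p.1 p.2 - g p.1 p.2) * (fr p.1 a * fr p.2 a)) -
            (∑ p : ZMod (2 * m + 1) × ZMod (2 * m + 1),
              if p.1 = p.2 then 0 else (f p.1 p.2 - g p.1 p.2) * (fr p.1 a * fr p.2 a)) from by
          rw [← Finset.sum_sub_distrib]
          exact Finset.sum_congr rfl fun p _ => by split_ifs <;> ring, h4, h2, sub_zero]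
      rw [Fintype.sum_prod_type] at h3
      simp only [Finset.sum_ite_eq, Finset.mem_univ, if_true] at h3
      rw [← h3]
      refine Finset.sum_congr rfl fun i _ => ?_
      rw [pow_two, (fr_mul Q), show g i i = 0 from if_neg fun h => hk0 (left_eq_add.1 h), sub_zero]
    have := fr_uniq Q _ hz i
    rcases mul_eq_zero.1 this with h0 | h0
    · rw [eq_zero_of_pow_eq_zero h0, zero_mul]
    · rw [h0, mul_zero]
  have key : ∀ {i j}, c i ≠ 0 → c j ≠ 0 → i ≠ j → j = i + k + k := by
    intro i j hi hj hij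
    by_contra hne
    have h1 := hfg (i + k) j
    have hb := hdiag (i + k)
    rw [add_sub_cancel_right] at hb
    have hik : c (i + k) = 0 := (mul_eq_zero.1 hb).resolve_left hi
    simp only [f, g, add_sub_cancel_right, hik, mul_zero, add_zero, if_neg (Ne.symm (fun h : j = i + k + k => hne h)).symm,
      if_neg (fun h : i + k = j + k => hij (add_right_cancel h)), sub_zero] at h1
    exact mul_ne_zero (pow_ne_zero _ hi) hj h1
  by_contra hij
  have e1 := key hi hj hij
  have e2 := key hj hi (Ne.symm hij)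
  have h4 : k + k + k + k = 0 := by linear_combination (norm := abel) -(e1 + e2)
  rw [hk, ← Nat.cast_add, ← Nat.cast_add, ← Nat.cast_add, ZMod.natCast_eq_zero_iff] at h4
  have h5 : 2 * m + 1 ∣ 2 := by
    have h6 := Nat.dvd_sub h4 (dvd_mul_left (2 * m + 1) 2)
    rwa [show m + 1 + (m + 1) + (m + 1) + (m + 1) - 2 * (2 * m + 1) = 2 by omega] at h6
  have := Nat.le_of_dvd two_pos h5
  have := Q.hm
  omega

/-- The semilinear automorphisms. -/
noncomputable def semi (p : Fˣ × ZMod (2 * m + 1)) : MulAut (uSub Q) :=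
  MulEquiv.ofBijective (MonoidHom.mk' (fun x => u Q ((p.1 : F) * fr p.2 (fst' Q x))
      ((p.1 : F) ^ (2 ^ (m + 1) + 1) * fr p.2 (snd' Q x))) fun x y => by
    conv_lhs => rw [eq_u Q x, eq_u Q y, (u_mul Q), (fst'_u Q), (snd'_u Q)]
    rw [(u_mul Q)]
    congr 1
    · rw [(fr_add Q)]; ring
    · rw [(fr_add Q), (fr_add Q), (fr_mul Q), (fr_pow Q)]; ring)
    ⟨fun x y h => by
      obtain ⟨h1, h2⟩ := u_inj Q h
      rw [eq_u Q x, eq_u Q y, fr_injective Q p.2 (mul_left_cancel₀ p.1.ne_zero h1),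
        fr_injective Q p.2 (mul_left_cancel₀ (pow_ne_zero _ p.1.ne_zero) h2)], fun y => by
      refine ⟨u Q (fr (-p.2) ((p.1 : F)⁻¹ * fst' Q y))
        (fr (-p.2) (((p.1 : F) ^ (2 ^ (m + 1) + 1))⁻¹ * snd' Q y)), ?_⟩
      show u Q _ _ = y
      rw [(fst'_u Q), (snd'_u Q), (fr_fr Q), (fr_fr Q), add_neg_cancel, (fr_zero' Q), (fr_zero' Q), ← mul_assoc, ← mul_assoc,
        mul_inv_cancel₀ p.1.ne_zero, mul_inv_cancel₀ (pow_ne_zero _ p.1.ne_zero), one_mul, one_mul, ← (eq_u Q)]⟩

theorem semi_apply (p : Fˣ × ZMod (2 * m + 1)) (a b : F) :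
    semi Q p (u Q a b) = u Q ((p.1 : F) * fr p.2 a) ((p.1 : F) ^ (2 ^ (m + 1) + 1) * fr p.2 b) := by
  show u Q _ _ = _
  rw [(fst'_u Q), (snd'_u Q)]

/-- Shearing by an additive map. -/
noncomputable def shear : Multiplicative (F →+ F) →* MulAut (uSub Q) where
  toFun h := MulEquiv.ofBijective (MonoidHom.mk' (fun x => x * u Q 0 (h.toAdd (fst' Q x))) fun x y => by
      conv_lhs => rw [eq_u Q x, eq_u Q y, (u_mul Q), (fst'_u Q), (u_mul Q)]
      conv_rhs => rw [eq_u Q x, eq_u Q y, (fst'_u Q), (fst'_u Q), (u_mul Q), (u_mul Q), (u_mul Q)]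
      rw [map_add]
      congr 1 <;> ring)
    ⟨fun x y e => by
      have e1 := congrArg (fst' Q) e
      simp only [MonoidHom.mk'_apply, (fst'_mul Q), (fst'_u Q), add_zero] at e1
      simp only [MonoidHom.mk'_apply, e1, mul_left_inj] at e
      exact e, fun y => ⟨y * (u Q 0 (h.toAdd (fst' Q y)))⁻¹, by
      have h0 : ∀ b, fst' Q (u Q 0 b)⁻¹ = 0 := fun b => by
        have := fst'_mul Q (u Q 0 b) (u Q 0 b)⁻¹
        rwa [mul_inv_cancel, ← u_zero Q, (fst'_u Q), (fst'_u Q), zero_add, eq_comm] at this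
      show _ * u Q 0 (h.toAdd (fst' Q (_ * _))) = y
      rw [(fst'_mul Q), h0, add_zero, inv_mul_cancel_right]⟩⟩
  map_one' := MulEquiv.ext fun x => by
    show x * u Q 0 0 = x
    rw [(u_zero Q), mul_one]
  map_mul' h k := MulEquiv.ext fun x => by
    show x * u Q 0 (h.toAdd (fst' Q x) + k.toAdd (fst' Q x)) =
      x * u Q 0 (k.toAdd (fst' Q x)) * u Q 0 (h.toAdd (fst' Q (x * u Q 0 (k.toAdd (fst' Q x)))))
    rw [(fst'_mul Q), (fst'_u Q), add_zero, mul_assoc, (u_mul Q), zero_pow (pow_ne_zero _ two_ne_zero), zero_mul, add_zero,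
      add_zero, add_comm]

theorem shear_apply (h : F →+ F) (a b : F) : shear Q (Multiplicative.ofAdd h) (u Q a b) = u Q a (b + h a) := by
  show u Q a b * u Q 0 (h (fst' Q (u Q a b))) = _
  rw [(fst'_u Q), (u_mul Q), mul_zero, add_zero, add_zero]

/-- The automorphisms trivial on the quotient by the centre. -/
noncomputable def flat : Subgroup (MulAut (uSub Q)) where
  carrier := {φ | ∀ x, fst' Q (φ x) = fst' Q x}
  one_mem' := fun _ => rfl
  mul_mem' := fun {φ ψ} hφ hψ x => by rw [MulAut.mul_apply, hφ, hψ]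
  inv_mem' := fun {φ} hφ x => by
    conv_rhs => rw [← MulAut.apply_inv_self _ φ x, hφ]

theorem flat_normal : (flat Q).Normal := ⟨fun φ hφ ψ x => by
  set y := ψ⁻¹ x with hy
  have e1 : ψ y = x := MulAut.apply_inv_self _ ψ x
  show fst' Q (ψ (φ y)) = fst' Q x
  have e2 : fst' Q (y⁻¹ * φ y) = 0 := by
    have := fst'_mul Q y (y⁻¹ * φ y)
    rw [mul_inv_cancel_left, hφ] at this
    exact left_eq_add.1 this
  have e3 := fst'_mul Q (ψ y) (ψ (y⁻¹ * φ y))
  rwa [← map_mul, mul_inv_cancel_left, (fst'_zero_iff Q ψ _).2 e2, add_zero, e1] at e3⟩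

theorem param_bijective : Function.Bijective
    (fun p : (Fˣ × ZMod (2 * m + 1)) × (F →+ F) => semi Q p.1 * shear Q (Multiplicative.ofAdd p.2)) := by
  have := charTwo Q
  have happ : ∀ (p : (Fˣ × ZMod (2 * m + 1))) (h : F →+ F) (a b : F),
      (semi Q p * shear Q (Multiplicative.ofAdd h)) (u Q a b) =
        u Q ((p.1 : F) * fr p.2 a) ((p.1 : F) ^ (2 ^ (m + 1) + 1) * fr p.2 (b + h a)) := fun p h a b => by
    rw [MulAut.mul_apply, (shear_apply Q), (semi_apply Q)]
  constructor
  · rintro ⟨⟨c, i⟩, h⟩ ⟨⟨d, j⟩, k⟩ e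
    have e1 := fun a b => ((happ _ h a b).symm.trans (DFunLike.congr_fun e (u Q a b))).trans (happ _ k a b)
    have e2 : ∀ a, (c : F) * fr i a = (d : F) * fr j a := fun a => (u_inj Q (e1 a 0)).1
    have hcd : c = d := Units.ext (by simpa [fr] using e2 1)
    subst hcd
    have hij : i = j := by
      by_contra hne
      have := fr_uniq Q (fun l => (if l = i then (1 : F) else 0) - if l = j then 1 else 0) (fun a => by
        simp [sub_mul, Finset.sum_sub_distrib, mul_left_cancel₀ c.ne_zero (e2 a)]) i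
      simp [hne] at this
    subst hij
    refine Prod.ext rfl (AddMonoidHom.ext fun a => ?_)
    simpa using fr_injective Q i (mul_left_cancel₀ (pow_ne_zero _ c.ne_zero) (u_inj Q (e1 a 0)).2)
  · intro φ
    obtain ⟨c, hc⟩ := (lin_bijective Q).2 (top' Q φ)
    obtain ⟨e, he⟩ := (lin_bijective Q).2 (bot' Q φ)
    have hsingle := support_single Q c e fun a => by rw [hc, he]; exact bot'_sq Q φ a
    obtain ⟨i, hi⟩ : ∃ i, c i ≠ 0 := by
      by_contra hall
      push Not at hall
      refine one_ne_zero (α := F) (top'_eq_zero Q φ ?_)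
      rw [← hc]
      show ∑ j, c j * fr j 1 = 0
      simp [hall]
    have htop : ∀ a, fst' Q (φ (u Q a 0)) = c i * fr i a := by
      intro a
      change top' Q φ a = _
      rw [← hc]
      show ∑ j, c j * fr j a = _
      exact Finset.sum_eq_single i (fun j _ hji => by
        rw [show c j = 0 from by_contra fun h => hji (hsingle j i h hi), zero_mul]) (by simp)
    let p : Fˣ × ZMod (2 * m + 1) := (Units.mk0 _ hi, i)
    have hbot : ∀ b, bot' Q φ b = (c i) ^ (2 ^ (m + 1) + 1) * fr i b := by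
      intro b
      rcases eq_or_ne b 0 with rfl | hb
      · rw [map_zero, (fr_zero_right Q), mul_zero]
      obtain ⟨k, hk⟩ := exists_s1_root Q (Units.mk0 b hb)
      have hkb : (k : F) ^ (2 ^ (m + 1) + 1) = b := by
        rw [← Units.val_pow_eq_pow_val, hk]; rfl
      rw [← hkb, bot'_sq, (fr_pow Q), ← mul_pow]
      congr 1
      exact htop _
    have hfull : ∀ a b, fst' Q (φ (u Q a b)) = c i * fr i a := fun a b => by
      rw [(u_split Q), map_mul, (fst'_mul Q), (fst'_zero_iff Q φ _).2 (fst'_u Q _ _), add_zero, htop]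
    set ψ := (semi Q p)⁻¹ * φ with hψ
    have hψx : ∀ x, semi Q p (ψ x) = φ x := fun x => MulAut.apply_inv_self _ (semi Q p) (φ x)
    have h1 : ∀ a b, fst' Q (ψ (u Q a b)) = a := fun a b => by
      have := congrArg (fst' Q) (hψx (u Q a b))
      rw [eq_u Q (ψ (u Q a b)), (semi_apply Q), (fst'_u Q), hfull] at this
      exact fr_injective Q i (mul_left_cancel₀ hi this)
    have h2 : ∀ b, ψ (u Q 0 b) = u Q 0 b := fun b => by
      refine (semi Q p).injective ?_
      rw [hψx, (semi_apply Q), eq_u Q (φ (u Q 0 b)), hfull]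
      congr 1
      exact hbot b
    have h3 : ∀ a, ψ (u Q a 0) = u Q a (snd' Q (ψ (u Q a 0))) := fun a => by
      conv_lhs => rw [eq_u Q (ψ (u Q a 0)), h1]
    have hadd : ∀ a d, snd' Q (ψ (u Q (a + d) 0)) = snd' Q (ψ (u Q a 0)) + snd' Q (ψ (u Q d 0)) := by
      intro a d
      have e : u Q a 0 * u Q d 0 = u Q (a + d) 0 * u Q 0 (a ^ 2 ^ (m + 1) * d) := by
        rw [(u_mul Q), (u_mul Q)]
        simp
      have e' := congrArg ψ e
      rw [map_mul, map_mul, h3 a, h3 d, h3 (a + d), h2, (u_mul Q), (u_mul Q), mul_zero, add_zero] at e'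
      exact (add_right_cancel ((u_inj Q e').2.trans (add_zero _))).symm
    refine ⟨⟨p, AddMonoidHom.mk' (fun a => snd' Q (ψ (u Q a 0))) hadd⟩, ?_⟩
    show semi Q p * shear Q _ = φ
    rw [← eq_inv_mul_iff_mul_eq]
    refine MulEquiv.ext fun x => ?_
    obtain ⟨a, b, rfl⟩ := exists_u Q x
    rw [(shear_apply Q), ← hψ]
    conv_rhs => rw [(u_split Q), map_mul, h2, h3, (u_mul Q), mul_zero, add_zero, add_zero]
    rw [add_comm]
    rfl

theorem card_addHom : Nat.card (F →+ F) = 2 ^ ((2 * m + 1) ^ 2) := by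
  rw [← Nat.card_congr (Equiv.ofBijective _ (lin_bijective Q)), Nat.card_fun, Nat.card_zmod,
    Nat.card_eq_fintype_card, Q.hF, ← pow_mul, pow_two]

theorem card_aut : Nat.card (MulAut (uSub Q)) =
    2 ^ ((2 * m + 1) ^ 2) * ((2 * m + 1) * (2 ^ (2 * m + 1) - 1)) := by
  rw [← Nat.card_congr (Equiv.ofBijective _ (param_bijective Q)), Nat.card_prod, Nat.card_prod, card_addHom Q,
    Nat.card_units, Nat.card_zmod, Nat.card_eq_fintype_card, Q.hF]
  ring

theorem flat_eq_range : flat Q = (shear Q).range := by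
  refine le_antisymm (fun φ hφ => ?_) ?_
  · obtain ⟨⟨p, h⟩, hp⟩ := (param_bijective Q).2 φ
    have hp1 : p = (1, 0) := by
      have e : ∀ a, (p.1 : F) * fr p.2 a = a := fun a => by
        have := hφ (u Q a 0)
        rw [← hp] at this
        simp only [MulAut.mul_apply, (shear_apply Q), (semi_apply Q), (fst'_u Q)] at this
        exact this
      have h1 : p.1 = 1 := Units.ext (by simpa [fr] using e 1)
      refine Prod.ext h1 ?_
      by_contra hne
      have := fr_uniq Q (fun l => (if l = p.2 then (1 : F) else 0) - if l = 0 then 1 else 0) (fun a => by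
        have ea := e a
        rw [h1, Units.val_one, one_mul] at ea
        simp [sub_mul, Finset.sum_sub_distrib, ea, (fr_zero' Q)]) p.2
      simp [show p.2 ≠ 0 from hne] at this
    refine ⟨Multiplicative.ofAdd h, ?_⟩
    rw [← hp, hp1]
    refine MulEquiv.ext fun x => ?_
    obtain ⟨a, b, rfl⟩ := exists_u Q x
    simp [MulAut.mul_apply, (shear_apply Q), (semi_apply Q), (fr_zero' Q)]
  · rintro _ ⟨h, rfl⟩ x
    show fst' Q (x * u Q 0 _) = fst' Q x
    rw [(fst'_mul Q), (fst'_u Q), add_zero]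

theorem shear_injective : Function.Injective (shear Q) := fun h k e => by
  have := (param_bijective Q).1 (a₁ := ((1, 0), h.toAdd)) (a₂ := ((1, 0), k.toAdd))
    (by show semi Q _ * shear Q h = semi Q _ * shear Q k; rw [e])
  exact congrArg Prod.snd this

theorem pCore_aut : Cfsg.pCore 2 (MulAut (uSub Q)) = flat Q := by
  have : Fact (Nat.Prime 2) := ⟨Nat.prime_two⟩
  have := flat_normal Q
  have : Finite (F →+ F) := Finite.of_equiv _ (Equiv.ofBijective _ (lin_bijective Q))
  have : Finite (MulAut (uSub Q)) := Finite.of_equiv _ (Equiv.ofBijective _ (param_bijective Q))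
  have hc : Nat.card (flat Q) = 2 ^ ((2 * m + 1) ^ 2) := by
    rw [flat_eq_range, ← card_addHom Q]
    exact (Nat.card_congr (MonoidHom.ofInjective (shear_injective Q)).toEquiv).symm
  refine le_antisymm (sSup_le ?_) (le_sSup ⟨flat_normal Q, IsPGroup.of_card hc⟩)
  rintro N ⟨-, hN⟩
  have hidx : ¬ 2 ∣ (flat Q).index := by
    have h := (flat Q).card_mul_index
    rw [card_aut Q, hc] at h
    rw [Nat.eq_of_mul_eq_mul_left (pow_pos two_pos _) h, Nat.prime_two.dvd_mul]
    have h1 : 2 ^ (2 * m + 1) = 2 * 2 ^ (2 * m) := by rw [pow_succ, mul_comm]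
    have : 0 < 2 ^ (2 * m) := pow_pos two_pos _
    omega
  intro x hx
  obtain ⟨k, hk⟩ := hN ⟨x, hx⟩
  rw [← QuotientGroup.eq_one_iff]
  have h1 : orderOf (x : MulAut (uSub Q) ⧸ flat Q) ∣ 2 ^ k := by
    rw [orderOf_dvd_iff_pow_eq_one, ← QuotientGroup.mk_pow, show x ^ 2 ^ k = 1 from congrArg Subtype.val hk]
    rfl
  have h2 : orderOf (x : MulAut (uSub Q) ⧸ flat Q) ∣ (flat Q).index := orderOf_dvd_natCard _
  obtain ⟨j, -, hj⟩ := (Nat.dvd_prime_pow Nat.prime_two).1 h1
  rcases Nat.eq_zero_or_pos j with rfl | hj0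
  · exact orderOf_eq_one_iff.1 hj
  · exact absurd ((dvd_pow_self 2 hj0.ne').trans (hj ▸ h2)) hidx

/-- The automorphism group of a copy of the Sylow 2-subgroup. -/
theorem aut_sylow {S : Type*} [Group S] [Finite S] (e : S ≃* uSub Q) :
    Cfsg.IsElementaryAbelian 2 (Cfsg.pCore 2 (MulAut S)) ∧
      Nat.card ↥(Cfsg.pCore 2 (MulAut S)) = 2 ^ ((2 * m + 1) ^ 2) ∧
      Nat.card (MulAut S) = 2 ^ ((2 * m + 1) ^ 2) * ((2 * m + 1) * (2 ^ (2 * m + 1) - 1)) := by
  have := charTwo Q
  let ee : MulAut S ≃* MulAut (uSub Q) := MulAut.congr e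
  have hmap : Cfsg.pCore 2 (MulAut S) = (flat Q).comap ee.toMonoidHom := by
    rw [← pCore_aut Q]
    refine le_antisymm (sSup_le ?_) ?_
    · rintro N ⟨hN, hp⟩
      rw [← Subgroup.map_le_iff_le_comap]
      exact le_sSup ⟨hN.map _ ee.surjective, hp.map _⟩
    · rw [Subgroup.comap_equiv_eq_map_symm', Subgroup.map_le_iff_le_comap]
      refine sSup_le ?_
      rintro N ⟨hN, hp⟩
      rw [← Subgroup.map_le_iff_le_comap]
      exact le_sSup ⟨hN.map _ ee.symm.surjective, hp.map _⟩
  have hc : Nat.card (flat Q) = 2 ^ ((2 * m + 1) ^ 2) := by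
    rw [flat_eq_range, ← card_addHom Q]
    exact (Nat.card_congr (MonoidHom.ofInjective (shear_injective Q)).toEquiv).symm
  refine ⟨⟨⟨⟨fun x y => Subtype.ext (ee.injective ?_)⟩⟩, fun a ha => ee.injective ?_⟩, ?_, ?_⟩
  · have hx := hmap.le x.2
    have hy := hmap.le y.2
    rw [Subgroup.mem_comap, flat_eq_range, MonoidHom.mem_range] at hx hy
    obtain ⟨h, hh⟩ := hx
    obtain ⟨k, hk⟩ := hy
    change ee (x.1 * y.1) = ee (y.1 * x.1)
    rw [map_mul, map_mul]
    change ee.toMonoidHom x.1 * ee.toMonoidHom y.1 = ee.toMonoidHom y.1 * ee.toMonoidHom x.1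
    rw [← hh, ← hk, ← map_mul, ← map_mul, mul_comm]
  · rw [hmap, Subgroup.mem_comap, flat_eq_range, MonoidHom.mem_range] at ha
    obtain ⟨h, hh⟩ := ha
    rw [map_pow, map_one]
    change ee.toMonoidHom a ^ 2 = 1
    rw [← hh, ← map_pow, pow_two, show h * h = 1 from Multiplicative.toAdd.injective
      (AddMonoidHom.ext fun a => add_self Q (h.toAdd a)), map_one]
  · rw [hmap, ← hc]
    refine Nat.card_congr ⟨fun x => ⟨ee x.1, x.2⟩, fun y => ⟨ee.symm y.1, ?_⟩, fun x => ?_, fun y => ?_⟩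
    · show ee (ee.symm y.1) ∈ flat Q
      rw [ee.apply_symm_apply]; exact y.2
    · exact Subtype.ext (ee.symm_apply_apply _)
    · exact Subtype.ext (ee.apply_symm_apply _)
  · rw [Nat.card_congr ee.toEquiv, card_aut Q]

end Cfsg.Lib.Suz.SylowAut
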