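import Cfsg.Agent.Suz.Torus

/-! The fixed-point-free tori of the Suzuki groups and the resulting partition. -/

set_option autoImplicit false

namespace Cfsg.Lib.Suz

theorem map_conj_mem {G : Type*} [Group G] (A : Subgroup G) (c x : G) :
    x ∈ A.map (MulAut.conj c).toMonoidHom ↔ c⁻¹ * x * c ∈ A := by
  rw [Subgroup.mem_map_equiv]
  simp [mul_assoc]

theorem map_conj_centralizer {G : Type*} [Group G] (g c : G) :
    (Subgroup.centralizer ({g} : Set G)).map (MulAut.conj c).toMonoidHom =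
      Subgroup.centralizer ({c * g * c⁻¹} : Set G) := by
  ext x
  rw [map_conj_mem, Subgroup.mem_centralizer_singleton_iff, Subgroup.mem_centralizer_singleton_iff]
  constructor
  · intro h
    calc x * (c * g * c⁻¹) = c * ((c⁻¹ * x * c) * g) * c⁻¹ := by group
      _ = c * (g * (c⁻¹ * x * c)) * c⁻¹ := by rw [h]
      _ = c * g * c⁻¹ * x := by group
  · intro h
    calc c⁻¹ * x * c * g = c⁻¹ * (x * (c * g * c⁻¹)) * c := by group
      _ = c⁻¹ * (c * g * c⁻¹ * x) * c := by rw [h]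
      _ = g * (c⁻¹ * x * c) := by group

theorem map_conj_map {G : Type*} [Group G] (A : Subgroup G) (c d : G) :
    (A.map (MulAut.conj d).toMonoidHom).map (MulAut.conj c).toMonoidHom = A.map (MulAut.conj (c * d)).toMonoidHom := by
  ext x
  rw [map_conj_mem, map_conj_mem, map_conj_mem]
  simp [mul_assoc]

theorem mem_normalizer_of_map {G : Type*} [Group G] {A : Subgroup G} {n : G}
    (h : A.map (MulAut.conj n).toMonoidHom = A) : n ∈ Subgroup.normalizer (A : Set G) := by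
  rw [Subgroup.mem_normalizer_iff]
  intro x
  conv_rhs => rw [← h, map_conj_mem]
  simp [mul_assoc]

variable {F : Type*} [Field F] [Fintype F] {m : ℕ} (Q : Par F m)
include Q

/-- The centraliser of an element. -/
abbrev tor (g : Cfsg.Sz F m) : Subgroup (Cfsg.Sz F m) := Subgroup.centralizer ({g} : Set (Cfsg.Sz F m))

omit [Fintype F] Q in
theorem mem_tor {g x : Cfsg.Sz F m} : x ∈ tor g ↔ Commute x g := Subgroup.mem_centralizer_singleton_iff

theorem free_conj {g : Cfsg.Sz F m} (c : Cfsg.Sz F m) (hg : Free Q g) : Free Q (c * g * c⁻¹) := by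
  intro p hp e
  refine hg _ (smul_ovoid Q (inv_mem c.2) hp) ?_
  have e' : (c.1 * g.1 * c.1⁻¹) • p = p := e
  conv_rhs => rw [← e']
  rw [mul_smul, mul_smul, inv_smul_smul]

theorem prime_power {g : Cfsg.Sz F m} (hg : Free Q g) : ∃ h p, p.Prime ∧ orderOf h = p ∧
    p ∣ (2 ^ (2 * m + 1)) ^ 2 + 1 ∧ h ≠ 1 ∧ Free Q h ∧ ∀ x, Commute x g → Commute x h := by
  obtain ⟨p, hp, hpd⟩ := Nat.exists_prime_and_dvd (fun e => free_ne_one Q hg (orderOf_eq_one_iff.1 e))
  have ho : orderOf (g ^ (orderOf g / p)) = p := orderOf_pow_orderOf_div (orderOf_pos g).ne' hpd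
  have h1 : g ^ (orderOf g / p) ≠ 1 := fun h => hp.ne_one (by rw [← ho, h, orderOf_one])
  exact ⟨_, p, hp, ho, free_dvd Q hg hp hpd, h1, free_comm Q hg h1 (Commute.self_pow g _),
    fun x hx => hx.pow_right _⟩

theorem tor_spec {g : Cfsg.Sz F m} (hg : Free Q g) :
    IsCyclic (tor g) ∧ (∀ x ∈ tor g, x ≠ 1 → Free Q x ∧ tor x = tor g) ∧
      ∃ h p, p.Prime ∧ orderOf h = p ∧ p ∣ (2 ^ (2 * m + 1)) ^ 2 + 1 ∧ Free Q h ∧ tor g = tor h := by
  obtain ⟨h, p, hp, ho, hd, h1, hfh, hsub⟩ := prime_power Q hg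
  have hcy := (matrix_data Q hp ho hd).1
  have hab : ∀ x ∈ tor h, ∀ y ∈ tor h, Commute x y := fun x hx y hy => by
    let := hcy.commGroup
    exact congrArg Subtype.val (mul_comm (⟨x, hx⟩ : tor h) ⟨y, hy⟩)
  have main : ∀ x ∈ tor h, x ≠ 1 → Free Q x ∧ tor x = tor h := by
    intro x hx hx1
    have hfx := free_comm Q hfh hx1 (mem_tor.1 hx).symm
    refine ⟨hfx, le_antisymm (fun y hy => ?_) (fun y hy => mem_tor.2 (hab y hy x hx))⟩
    obtain ⟨x', p', hp', ho', hd', -, -, hsub'⟩ := prime_power Q hfx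
    have hh' : h ∈ tor x' := mem_tor.2 (hsub' h (mem_tor.1 hx).symm)
    have hy' : y ∈ tor x' := mem_tor.2 (hsub' y (mem_tor.1 hy))
    have hcy' := (matrix_data Q hp' ho' hd').1
    let := hcy'.commGroup
    exact mem_tor.2 (congrArg Subtype.val (mul_comm (⟨y, hy'⟩ : tor x') ⟨h, hh'⟩))
  have e : tor g = tor h := (main g (mem_tor.2 (hsub g (Commute.refl g))) (free_ne_one Q hg)).2
  exact ⟨e ▸ hcy, fun x hx hx1 => e ▸ main x (e ▸ hx) hx1, h, p, hp, ho, hd, hfh, e⟩

theorem tor_sylow {g : Cfsg.Sz F m} (hg : Free Q g) {p : ℕ} (hp : p.Prime) (hd : p ∣ Nat.card (tor g)) :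
    ∃ P : Sylow p (Cfsg.Sz F m), (P : Subgroup (Cfsg.Sz F m)) ≤ tor g := by
  have : Fact p.Prime := ⟨hp⟩
  obtain ⟨x, hx⟩ := exists_prime_orderOf_dvd_card' (G := tor g) p hd
  have hxo : orderOf (x : Cfsg.Sz F m) = p := by rw [Subgroup.orderOf_coe]; exact hx
  have hx1 : (x : Cfsg.Sz F m) ≠ 1 := fun h => hp.ne_one (by rw [← hxo, h, orderOf_one])
  have hpg : IsPGroup p (Subgroup.zpowers (x : Cfsg.Sz F m)) :=
    IsPGroup.of_card (n := 1) (by rw [Nat.card_zpowers, hxo, pow_one])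
  obtain ⟨P, hP⟩ := hpg.exists_le_sylow
  refine ⟨P, ?_⟩
  have hxP : (x : Cfsg.Sz F m) ∈ P := hP (Subgroup.mem_zpowers _)
  have : Nontrivial (P : Subgroup (Cfsg.Sz F m)) :=
    ⟨⟨⟨x, hxP⟩, 1, fun h => hx1 (congrArg Subtype.val h)⟩⟩
  have := P.isPGroup'.center_nontrivial
  obtain ⟨z, hz⟩ := exists_ne (1 : Subgroup.center (P : Subgroup (Cfsg.Sz F m)))
  have hz1 : (z.1 : Cfsg.Sz F m) ≠ 1 := fun h => hz (Subtype.ext (Subtype.ext h))
  have hzc : ∀ y ∈ (P : Subgroup (Cfsg.Sz F m)), Commute y (z.1 : Cfsg.Sz F m) := fun y hy =>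
    congrArg Subtype.val (Subgroup.mem_center_iff.1 z.2 ⟨y, hy⟩)
  obtain ⟨-, hall, -⟩ := tor_spec Q hg
  have hzmem : (z.1 : Cfsg.Sz F m) ∈ tor g :=
    (hall x x.2 hx1).2 ▸ mem_tor.2 (hzc x hxP).symm
  exact fun y hy => (hall _ hzmem hz1).2 ▸ mem_tor.2 (hzc y hy)

theorem card_tor {g : Cfsg.Sz F m} (hg : Free Q g) :
    Nat.card (tor g) ∣ (2 ^ (2 * m + 1)) ^ 2 + 1 ∧ 5 ≤ Nat.card (tor g) ∧
      Nat.Coprime (Nat.card (tor g)) (tor g).index := by
  have hpr : ∀ p : ℕ, p.Prime → p ∣ Nat.card (tor g) → p ∣ (2 ^ (2 * m + 1)) ^ 2 + 1 := fun p hp hd => by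
    have : Fact p.Prime := ⟨hp⟩
    obtain ⟨x, hx⟩ := exists_prime_orderOf_dvd_card' (G := tor g) p hd
    have hxo : orderOf (x : Cfsg.Sz F m) = p := by rw [Subgroup.orderOf_coe]; exact hx
    exact free_prime Q ((tor_spec Q hg).2.1 x x.2 (fun h => hp.ne_one (by rw [← hxo, h, orderOf_one]))).1 hp hxo
  refine ⟨?_, ?_, ?_⟩
  · have h := Subgroup.card_subgroup_dvd_card (tor g)
    rw [card_Sz Q, mul_comm ((2 ^ (2 * m + 1)) ^ 2) ((2 ^ (2 * m + 1)) ^ 2 + 1), mul_assoc] at h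
    refine Nat.Coprime.dvd_of_dvd_mul_right (Nat.coprime_of_dvd fun p hp h1 h2 => ?_) h
    exact Nat.not_coprime_of_dvd_of_dvd hp.one_lt (hpr p hp h1) h2 (coprime_orders Q)
  · obtain ⟨p, hp, hpd⟩ := Nat.exists_prime_and_dvd (n := Nat.card (tor g)) (fun h => free_ne_one Q hg (by
      have := (Subgroup.eq_bot_of_card_eq _ h)
      have hm : g ∈ tor g := mem_tor.2 (Commute.refl g)
      rwa [this, Subgroup.mem_bot] at hm))
    have h5 : 5 ≤ p := by
      have hd := hpr p hp hpd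
      have h2 : p ≠ 2 := by
        rintro rfl
        rw [← pow_mul, show (2 * m + 1) * 2 = (4 * m + 1) + 1 by ring, pow_succ] at hd
        omega
      have h3 : p ≠ 3 := by
        rintro rfl
        have h := (ZMod.natCast_eq_zero_iff _ _).2 hd
        revert h
        push_cast
        generalize (2 : ZMod 3) ^ (2 * m + 1) = x
        revert x
        decide
      by_contra h5
      have := hp.two_le
      interval_cases p <;> simp_all (config := { decide := true })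
    exact h5.trans (Nat.le_of_dvd Nat.card_pos hpd)
  · refine Nat.coprime_of_dvd fun p hp h1 h2 => ?_
    have : Fact p.Prime := ⟨hp⟩
    obtain ⟨P, hP⟩ := tor_sylow Q hg hp h1
    exact P.not_dvd_index (h2.trans (Subgroup.index_dvd_of_le hP))

theorem weyl {g : Cfsg.Sz F m} (hg : Free Q g) :
    ∃ w, (w = 1 ∨ w = 2 ∨ w = 4) ∧ Nat.card (Subgroup.normalizer (tor g : Set (Cfsg.Sz F m))) = w * Nat.card (tor g) := by
  obtain ⟨-, hall, h, p, hp, ho, hd, hfh, e⟩ := tor_spec Q hg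
  have hbound := (matrix_data Q hp ho hd).2
  rw [e]
  have hidx := e ▸ (card_tor Q hg).2.2
  set N := Subgroup.normalizer (tor h : Set (Cfsg.Sz F m)) with hN
  refine ⟨((tor h).subgroupOf N).index, ?_, ?_⟩
  swap
  · rw [← Nat.card_congr (Subgroup.subgroupOfEquivOfLe (Subgroup.le_normalizer (H := tor h))).toEquiv, mul_comm,
      Subgroup.card_mul_index]
  set w := ((tor h).subgroupOf N).index
  have hw4 : w ≤ 4 := by
    let f : N ⧸ (tor h).subgroupOf N →
        {x : Cfsg.Sz F m // x ∈ Subgroup.centralizer ({h} : Set (Cfsg.Sz F m)) ∧ IsConj h x} := fun c =>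
      ⟨c.out.1 * h * c.out.1⁻¹, (Subgroup.mem_normalizer_iff.1 c.out.2 h).1 (mem_tor.2 (Commute.refl h)),
        isConj_iff.2 ⟨_, rfl⟩⟩
    refine le_trans (Nat.card_le_card_of_injective f fun a b hab => ?_) hbound
    have hab' : a.out.1 * h * a.out.1⁻¹ = b.out.1 * h * b.out.1⁻¹ := congrArg Subtype.val hab
    rw [← QuotientGroup.out_eq' a, ← QuotientGroup.out_eq' b, QuotientGroup.eq, Subgroup.mem_subgroupOf]
    show a.out.1⁻¹ * b.out.1 ∈ tor h
    refine mem_tor.2 ?_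
    show _ = _
    calc a.out.1⁻¹ * b.out.1 * h = a.out.1⁻¹ * (b.out.1 * h * b.out.1⁻¹) * b.out.1 := by group
      _ = a.out.1⁻¹ * (a.out.1 * h * a.out.1⁻¹) * b.out.1 := by rw [hab']
      _ = h * (a.out.1⁻¹ * b.out.1) := by group
  have hw0 : w ≠ 0 := Subgroup.index_ne_zero_of_finite
  have hw3 : w ≠ 3 := by
    intro h3
    have h1 : w ∣ Nat.card (Cfsg.Sz F m) := by
      refine dvd_trans ?_ (Subgroup.card_subgroup_dvd_card N)
      exact Subgroup.index_dvd_card _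
    rw [h3, card_Sz Q] at h1
    have h := (ZMod.natCast_eq_zero_iff _ _).2 h1
    rw [Nat.cast_mul, Nat.cast_mul, Nat.cast_sub (Nat.one_le_pow _ _ two_pos)] at h
    push_cast at h
    have e2 : (2 : ZMod 3) ^ (2 * m + 1) = 2 := by rw [pow_succ, pow_mul, show (2 : ZMod 3) ^ 2 = 1 from rfl, one_pow, one_mul]
    rw [e2] at h
    exact absurd h (by decide)
  omega

/-- The free elements whose torus is conjugate to a given one. -/
def cls (g : Cfsg.Sz F m) : Set (Cfsg.Sz F m) :=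
  {x | Free Q x ∧ ∃ c : Cfsg.Sz F m, tor x = (tor g).map (MulAut.conj c).toMonoidHom}

theorem cls_card {g : Cfsg.Sz F m} (hg : Free Q g) :
    ∃ w, (w = 1 ∨ w = 2 ∨ w = 4) ∧ Nat.card (Subgroup.normalizer (tor g : Set (Cfsg.Sz F m))) = w * Nat.card (tor g) ∧
      Nat.card (cls Q g) * (w * Nat.card (tor g)) = Nat.card (Cfsg.Sz F m) * (Nat.card (tor g) - 1) := by
  obtain ⟨w, hw, hN⟩ := weyl Q hg
  refine ⟨w, hw, hN, ?_⟩
  obtain ⟨-, hall, -⟩ := tor_spec Q hg
  set A := tor g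
  set N := Subgroup.normalizer (A : Set (Cfsg.Sz F m)) with hNdef
  have tconj : ∀ (c : Cfsg.Sz F m) (x : A), x.1 ≠ 1 →
      tor (c * x.1 * c⁻¹) = A.map (MulAut.conj c).toMonoidHom := fun c x hx => by
    exact (map_conj_centralizer _ _).symm.trans (congrArg (fun B : Subgroup (Cfsg.Sz F m) => B.map (MulAut.conj c).toMonoidHom) (hall x.1 x.2 hx).2)
  have hne : ∀ x : {x : A // x ≠ 1}, x.1.1 ≠ 1 := fun x h => x.2 (Subtype.ext h)
  let f : (Cfsg.Sz F m ⧸ N) × {x : A // x ≠ 1} → cls Q g := fun z =>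
    ⟨z.1.out * z.2.1.1 * z.1.out⁻¹, free_conj Q _ (hall _ z.2.1.2 (hne z.2)).1, z.1.out, tconj _ _ (hne z.2)⟩
  have hf : Function.Bijective f := by
    refine ⟨fun ⟨a, x⟩ ⟨b, y⟩ hab => ?_, fun z => ?_⟩
    · have h : a.out * x.1.1 * a.out⁻¹ = b.out * y.1.1 * b.out⁻¹ := congrArg Subtype.val hab
      have h2 := congrArg tor h
      rw [tconj _ _ (hne x), tconj _ _ (hne y)] at h2
      have h3 : a = b := by
        rw [← QuotientGroup.out_eq' a, ← QuotientGroup.out_eq' b, QuotientGroup.eq]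
        refine mem_normalizer_of_map ?_
        rw [← map_conj_map, ← h2, map_conj_map, inv_mul_cancel]
        ext y; simp [map_conj_mem]
      subst h3
      exact Prod.ext rfl (Subtype.ext (Subtype.ext (mul_left_cancel (mul_right_cancel h))))
    · obtain ⟨hz, c, hc⟩ := z.2
      set q : Cfsg.Sz F m ⧸ N := QuotientGroup.mk c with hq
      have hn : c⁻¹ * q.out ∈ N := QuotientGroup.eq.1 (QuotientGroup.out_eq' q).symm
      have hm : z.1 ∈ tor z.1 := mem_tor.2 (Commute.refl _)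
      rw [hc, map_conj_mem] at hm
      have hx : q.out⁻¹ * z.1 * q.out ∈ A := by
        have := (Subgroup.mem_normalizer_iff.1 (N.inv_mem hn) _).1 hm
        simpa [mul_assoc] using this
      refine ⟨(q, ⟨⟨_, hx⟩, fun h => free_ne_one Q hz ?_⟩), Subtype.ext ?_⟩
      · have h' : q.out⁻¹ * z.1 * q.out = 1 := congrArg Subtype.val h
        have e : z.1 = q.out * (q.out⁻¹ * z.1 * q.out) * q.out⁻¹ := by group
        rw [e, h']; group
      · show q.out * (q.out⁻¹ * z.1 * q.out) * q.out⁻¹ = z.1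
        group
  classical
  let : Fintype A := Fintype.ofFinite _
  rw [← Nat.card_eq_of_bijective f hf, Nat.card_prod, ← hN,
    show Nat.card {x : A // x ≠ 1} = Nat.card A - 1 by simp [Nat.card_eq_fintype_card],
    ← N.index_mul_card]
  show N.index * _ * _ = N.index * _ * _
  ring

theorem hI_fix {k : Fˣ} (hk : k ≠ 1) {p : Projectivization F (Fin 4 → F)} (hp : p ∈ Cfsg.suzukiOvoid F m) :
    H m k • p = p ↔ p = Cfsg.suzukiPointInfinity F ∨ p = pt m 0 0 := by
  constructor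
  · intro h
    rcases mem_ovoid_iff.1 hp with e | ⟨x, y, rfl⟩
    · exact Or.inl e
    · rw [H_pt Q] at h
      obtain ⟨hx, hy⟩ := pt_inj h
      refine Or.inr ?_
      have hx0 : x = 0 := by
        by_contra h0
        exact hk (Units.ext ((mul_eq_right₀ h0).1 hx))
      have hy0 : y = 0 := by
        by_contra h0
        exact hk (units_s1 Q ((mul_eq_right₀ h0).1 hy))
      rw [hx0, hy0]
  · rintro (rfl | rfl)
    · exact H_inf m k
    · rw [H_pt Q, mul_zero, mul_zero]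

theorem free_count :
    2 * Nat.card {g : Cfsg.Sz F m // Free Q g} = (2 ^ (2 * m + 1)) ^ 3 * (2 ^ (2 * m + 1) - 1) ^ 2 := by
  classical
  let : Fintype (Cfsg.Sz F m) := Fintype.ofFinite _
  let : Fintype (Cfsg.suzukiOvoid F m) := Fintype.ofFinite _
  let One : Cfsg.Sz F m → Prop := fun g => g ≠ 1 ∧ ∃ c, c * g * c⁻¹ ∈ uSub Q
  let Two : Cfsg.Sz F m → Prop := fun g => ∃ c k, k ≠ 1 ∧ c * g * c⁻¹ = hI Q k
  let fx : Cfsg.Sz F m → ℕ := fun g => (Finset.univ.filter fun p : Cfsg.suzukiOvoid F m => g • p = p).card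
  have hsmul : ∀ (c g : Cfsg.Sz F m) (p : Cfsg.suzukiOvoid F m),
      (c * g * c⁻¹) • c • p = c • p ↔ g • p = p := fun c g p => by
    rw [mul_smul, mul_smul, inv_smul_smul, smul_left_cancel_iff]
  have hfx : ∀ c g, fx (c * g * c⁻¹) = fx g := fun c g => by
    refine (Finset.card_equiv (MulAction.toPerm c) fun p => ?_).symm
    simp only [Finset.mem_filter, Finset.mem_univ, true_and, MulAction.toPerm_apply, hsmul]
  let pi : Cfsg.suzukiOvoid F m := ⟨_, inf_mem m⟩
  let p0 : Cfsg.suzukiOvoid F m := ⟨_, pt_mem m 0 0⟩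
  have hOne : ∀ g, One g → fx g = 1 := by
    rintro g ⟨hg, c, hc⟩
    rw [← hfx c g, Finset.card_eq_one]
    refine ⟨pi, ?_⟩
    obtain ⟨a, b, e⟩ := hc
    ext p
    simp only [Finset.mem_filter, Finset.mem_univ, true_and, Finset.mem_singleton]
    refine ⟨fun h => Subtype.ext (fixes_only Q (fun hab => hg ?_) p.2
      (by rw [← e]; exact congrArg Subtype.val h)), fun h => ?_⟩
    · rw [hab.1, hab.2, T_zero Q] at e
      have e' : c * g * c⁻¹ = 1 := Subtype.ext e
      rwa [mul_inv_eq_one, mul_eq_left] at e'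
    · subst h
      refine Subtype.ext ?_
      show (c * g * c⁻¹).1 • Cfsg.suzukiPointInfinity F = Cfsg.suzukiPointInfinity F
      rw [e]; exact T_inf m a b
  have hTwo : ∀ g, Two g → fx g = 2 := by
    rintro g ⟨c, k, hk, e⟩
    rw [← hfx c g, e, Finset.card_eq_two]
    refine ⟨pi, p0, fun h => pt_ne_inf m 0 0 (congrArg Subtype.val h).symm, ?_⟩
    ext p
    simp only [Finset.mem_filter, Finset.mem_univ, true_and, Finset.mem_insert, Finset.mem_singleton]
    rw [Subtype.ext_iff, Subtype.ext_iff (a2 := pi), Subtype.ext_iff (a2 := p0)]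
    exact hI_fix Q hk p.2
  have hFree : ∀ g, Free Q g → fx g = 0 := fun g hg => by
    rw [Finset.card_eq_zero, Finset.filter_eq_empty_iff]
    exact fun p _ h => hg p.1 p.2 (congrArg Subtype.val h)
  have h1 : fx 1 = (2 ^ (2 * m + 1)) ^ 2 + 1 := by
    rw [Finset.card_eq_iff_eq_univ _ |>.2 (by ext p; simp) |> fun e => show fx 1 = Fintype.card (Cfsg.suzukiOvoid F m) from e,
      ← Nat.card_eq_fintype_card, card_ovoid, Q.hF]
  have hsplit : ∀ g, (fx g + (if g = 1 then 1 else 0) + 2 * (if Free Q g then 1 else 0) + (if One g then 1 else 0)) =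
      2 + (if g = 1 then (2 ^ (2 * m + 1)) ^ 2 else 0) := by
    intro g
    rcases eq_or_ne g 1 with rfl | hg
    · rw [h1, if_pos rfl, if_pos rfl, if_neg (fun h => free_ne_one Q h rfl), if_neg (fun h => h.1 rfl)]
      omega
    rw [if_neg hg, if_neg hg]
    rcases elt_split Q hg with h | h | h
    · have hO : One g := ⟨hg, h⟩
      have := hOne g hO
      rw [this, if_pos hO, if_neg (fun hf => by have := hFree g hf; omega)]
    · have := hTwo g h
      rw [this, if_neg (fun hf => by have := hFree g hf; omega), if_neg (fun hO => by have := hOne g hO; omega)]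
    · have := hFree g h
      rw [this, if_pos h, if_neg (fun hO => by have := hOne g hO; omega)]
  have hsum := Finset.sum_congr rfl (fun g (_ : g ∈ (Finset.univ : Finset (Cfsg.Sz F m))) => hsplit g)
  simp only [Finset.sum_add_distrib, ← Finset.mul_sum, Finset.sum_ite_eq', Finset.mem_univ, if_true,
    Finset.sum_boole, Nat.cast_id, Finset.sum_const, Finset.card_univ, smul_eq_mul] at hsum
  have hburn : ∑ g, fx g = Fintype.card (Cfsg.Sz F m) := by
    have e1 : ∑ g, fx g = ∑ p : Cfsg.suzukiOvoid F m, Nat.card (MulAction.stabilizer (Cfsg.Sz F m) p) := by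
      simp only [fx, Finset.card_filter]
      rw [Finset.sum_comm]
      refine Finset.sum_congr rfl fun p _ => ?_
      rw [Finset.sum_boole, Nat.cast_id, Nat.card_eq_fintype_card, Fintype.card_subtype]
      rfl
    have e2 : ∀ p : Cfsg.suzukiOvoid F m, Nat.card (MulAction.stabilizer (Cfsg.Sz F m) p) =
        (2 ^ (2 * m + 1)) ^ 2 * (2 ^ (2 * m + 1) - 1) := fun p => by
      obtain ⟨c, hc, hcp⟩ := transitive Q (inf_mem m) p.2
      have e : p = (⟨c, hc⟩ : Cfsg.Sz F m) • pi := Subtype.ext hcp.symm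
      rw [e, Nat.card_congr (MulAction.stabilizerEquivStabilizer (rfl : (⟨c, hc⟩ : Cfsg.Sz F m) • pi = _)).symm.toEquiv,
        ← stab_inf_card Q]
      exact Nat.card_congr (Equiv.subtypeEquivRight fun g => Subtype.ext_iff)
    rw [e1, Finset.sum_congr rfl fun p _ => e2 p, Finset.sum_const, Finset.card_univ, ← Nat.card_eq_fintype_card,
      card_ovoid, Q.hF, ← Nat.card_eq_fintype_card, card_Sz Q, smul_eq_mul]
    ring
  have hn1 : (Finset.univ.filter One).card = ((2 ^ (2 * m + 1)) ^ 2 + 1) * ((2 ^ (2 * m + 1)) ^ 2 - 1) := by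
    have hc : ∀ p : Cfsg.suzukiOvoid F m, ∃ c : Cfsg.Sz F m, c • pi = p := fun p => by
      obtain ⟨c, hc, hcp⟩ := transitive Q (inf_mem m) p.2
      exact ⟨⟨c, hc⟩, Subtype.ext hcp⟩
    choose c hc using hc
    let f : Cfsg.suzukiOvoid F m × {u : uSub Q // u ≠ 1} → {g // One g} := fun z =>
      ⟨c z.1 * z.2.1.1 * (c z.1)⁻¹, fun h => z.2.2 (Subtype.ext (by rwa [mul_inv_eq_one, mul_eq_left] at h)),
        (c z.1)⁻¹, by
          rw [inv_inv, show (c z.1)⁻¹ * (c z.1 * z.2.1.1 * (c z.1)⁻¹) * c z.1 = z.2.1.1 by group]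
          exact z.2.1.2⟩
    have hfix : ∀ (p : Cfsg.suzukiOvoid F m) (u : {u : uSub Q // u ≠ 1}) (r : Cfsg.suzukiOvoid F m),
        (c p * u.1.1 * (c p)⁻¹) • r = r ↔ r = p := by
      intro p u r
      obtain ⟨a, b, e⟩ := exists_uu Q u.1.2
      obtain ⟨r, rfl⟩ : ∃ r', r = c p • r' := ⟨(c p)⁻¹ • r, (smul_inv_smul _ _).symm⟩
      rw [hsmul]
      conv_rhs => rhs; rw [← hc p]
      rw [smul_left_cancel_iff, e]
      refine ⟨fun h => Subtype.ext (fixes_only Q (fun hab => u.2 (Subtype.ext ?_)) r.2 (congrArg Subtype.val h)),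
        fun h => h ▸ Subtype.ext (T_inf m a b)⟩
      rw [e, hab.1, hab.2, uu_zero]; rfl
    have hf : Function.Bijective f := by
      refine ⟨fun ⟨p, u⟩ ⟨p', u'⟩ h => ?_, fun ⟨g, hg, d, hd⟩ => ?_⟩
      · have h' : c p * u.1.1 * (c p)⁻¹ = c p' * u'.1.1 * (c p')⁻¹ := congrArg Subtype.val h
        have h2 := (hfix p u p).2 rfl
        rw [h'] at h2
        obtain rfl := (hfix p' u' p).1 h2
        exact Prod.ext rfl (Subtype.ext (Subtype.ext (mul_left_cancel (mul_right_cancel h'))))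
      · set p : Cfsg.suzukiOvoid F m := d⁻¹ • pi
        set n := d * c p
        have hn : n ∈ Subgroup.normalizer (uSub Q : Set (Cfsg.Sz F m)) := by
          rw [normalizer_uSub Q]
          have h2 : n • pi = pi := by rw [mul_smul, hc, smul_inv_smul]
          exact congrArg Subtype.val h2
        have hu : (c p)⁻¹ * g * c p ∈ uSub Q := by
          have := (Subgroup.mem_normalizer_iff.1 (Subgroup.inv_mem _ hn) _).1 hd
          simpa [n, mul_assoc] using this
        refine ⟨(p, ⟨⟨_, hu⟩, fun h => hg ?_⟩), Subtype.ext ?_⟩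
        · have h' : (c p)⁻¹ * g * c p = 1 := congrArg Subtype.val h
          have e : g = c p * ((c p)⁻¹ * g * c p) * (c p)⁻¹ := by group
          rw [e, h']; group
        · show c p * ((c p)⁻¹ * g * c p) * (c p)⁻¹ = g
          group
    let : Fintype (uSub Q) := Fintype.ofFinite _
    rw [← Fintype.card_subtype, ← Nat.card_eq_fintype_card, ← Nat.card_eq_of_bijective f hf, Nat.card_prod, card_ovoid,
      Q.hF, show Nat.card {u : uSub Q // u ≠ 1} = Nat.card (uSub Q) - 1 by simp [Nat.card_eq_fintype_card],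
      card_uSub Q]
  rw [Nat.card_eq_fintype_card, Fintype.card_subtype]
  rw [Finset.sum_boole, Nat.cast_id, hburn, hn1, ← Nat.card_eq_fintype_card, card_Sz Q] at hsum
  generalize hR : (Finset.univ.filter fun g => Free Q g).card = R at hsum ⊢
  obtain ⟨r, hr⟩ : ∃ r, 2 ^ (2 * m + 1) = r + 1 := ⟨_, (Nat.sub_add_cancel (Nat.one_le_pow _ _ two_pos)).symm⟩
  simp only [hr, Nat.add_sub_cancel] at hsum ⊢
  have e : (r + 1) ^ 2 - 1 = r ^ 2 + 2 * r := by rw [show (r + 1) ^ 2 = r ^ 2 + 2 * r + 1 by ring, Nat.add_sub_cancel]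
  rw [e] at hsum
  zify at hsum ⊢
  linear_combination hsum

theorem cls_disjoint {a b : Cfsg.Sz F m} (hab : ¬ ∃ c : Cfsg.Sz F m, tor b = (tor a).map (MulAut.conj c).toMonoidHom) :
    Disjoint (cls Q a) (cls Q b) := by
  rw [Set.disjoint_left]
  rintro x ⟨-, c, hc⟩ ⟨-, d, hd⟩
  refine hab ⟨d⁻¹ * c, ?_⟩
  rw [← map_conj_map, ← hc, hd, map_conj_map, inv_mul_cancel]
  ext y; simp [map_conj_mem]

theorem card_free_lt : 2 * Nat.card {g : Cfsg.Sz F m // Free Q g} < Nat.card (Cfsg.Sz F m) := by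
  rw [free_count Q, card_Sz Q]
  obtain ⟨r, hr⟩ : ∃ r, 2 ^ (2 * m + 1) = r + 1 := ⟨_, (Nat.sub_add_cancel (Nat.one_le_pow _ _ two_pos)).symm⟩
  have : 0 < r := by
    have h2 : 2 ≤ 2 ^ (2 * m + 1) := Nat.le_self_pow (by omega) 2
    omega
  rw [hr, Nat.add_sub_cancel]
  nlinarith [pow_pos this 2, pow_pos this 3, pow_pos this 4]

theorem two_tori : ∃ a b : Cfsg.Sz F m, Free Q a ∧ Free Q b ∧
    Nat.card (tor a) = 2 ^ (2 * m + 1) + 2 ^ (m + 1) + 1 ∧
    Nat.card (tor b) = 2 ^ (2 * m + 1) - 2 ^ (m + 1) + 1 ∧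
    Nat.card (Subgroup.normalizer (tor a : Set (Cfsg.Sz F m))) = 4 * Nat.card (tor a) ∧
    Nat.card (Subgroup.normalizer (tor b : Set (Cfsg.Sz F m))) = 4 * Nat.card (tor b) ∧
    ∀ g, Free Q g → Nat.card (tor g) = 2 ^ (2 * m + 1) + 2 ^ (m + 1) + 1 ∨
      Nat.card (tor g) = 2 ^ (2 * m + 1) - 2 ^ (m + 1) + 1 := by
  classical
  set q := 2 ^ (2 * m + 1) with hq
  have hq8 : 8 ≤ q := by
    calc 8 = 2 ^ (2 * 1 + 1) := rfl
      _ ≤ q := Nat.pow_le_pow_right two_pos (by have := Q.hm; omega)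
  have hR := free_count Q
  have hlt := card_free_lt Q
  set R := Nat.card {g : Cfsg.Sz F m // Free Q g} with hRdef
  have hR' : R = ({g | Free Q g} : Set (Cfsg.Sz F m)).ncard := by rw [← Nat.card_coe_set_eq]; rfl
  obtain ⟨a, ha⟩ : ∃ a, Free Q a := by
    by_contra h
    push Not at h
    have : IsEmpty {g : Cfsg.Sz F m // Free Q g} := ⟨fun g => h g.1 g.2⟩
    rw [hRdef, Nat.card_of_isEmpty] at hR
    have h0 : 0 < q ^ 3 * (q - 1) ^ 2 := Nat.mul_pos (pow_pos (by omega) 3) (pow_pos (by omega) 2)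
    rw [mul_zero] at hR
    rw [hq, ← hR] at h0
    exact absurd h0 (lt_irrefl 0)
  have hG := card_Sz Q
  rw [← hq] at hG
  set G := Nat.card (Cfsg.Sz F m)
  obtain ⟨w, hw, hNa, hca⟩ := cls_card Q ha
  obtain ⟨ud, u5, -⟩ := card_tor Q ha
  rw [← hq] at ud
  set u := Nat.card (tor a) with hu
  rw [Nat.card_coe_set_eq] at hca
  have hsub : ∀ x, cls Q x ⊆ {g | Free Q g} := fun x g hg => hg.1
  obtain ⟨b, hb, hab⟩ : ∃ b, Free Q b ∧ ¬ ∃ c : Cfsg.Sz F m, tor b = (tor a).map (MulAut.conj c).toMonoidHom := by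
    by_contra h
    push Not at h
    have he : cls Q a = {g | Free Q g} := Set.Subset.antisymm (hsub a) fun g hg => ⟨hg, h g hg⟩
    rw [he, ← hR', show Nat.card (Cfsg.Sz F m) = G from rfl, hG] at hca
    have h1 : q ^ 3 * (q - 1) ^ 2 * (w * u) = 2 * (q ^ 2 * (q ^ 2 + 1) * (q - 1) * (u - 1)) := by
      rw [← hR, ← hca]; ring
    obtain ⟨r, hr⟩ : ∃ r, q = r + 1 := ⟨q - 1, by omega⟩
    rw [hr, Nat.add_sub_cancel] at h1
    have h2 : (r + 1) * r * (w * u) = 2 * (((r + 1) ^ 2 + 1) * (u - 1)) := by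
      refine Nat.eq_of_mul_eq_mul_left (show 0 < (r + 1) ^ 2 * r from Nat.mul_pos (by positivity) (by omega)) ?_
      linear_combination h1
    have hco := coprime_orders Q
    rw [← hq, hr, Nat.add_sub_cancel] at hco
    have c1 : Nat.Coprime ((r + 1) ^ 2 + 1) (r + 1) :=
      Nat.Coprime.coprime_dvd_right (Dvd.dvd.mul_right (dvd_pow_self _ two_ne_zero) r) hco
    have c2 : Nat.Coprime ((r + 1) ^ 2 + 1) r := Nat.Coprime.coprime_dvd_right (Dvd.intro_left _ rfl) hco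
    have c3 : Nat.Coprime ((r + 1) ^ 2 + 1) w := by
      rcases hw with rfl | rfl | rfl
      · exact Nat.coprime_one_right _
      all_goals
        have h2c : Nat.Coprime ((r + 1) ^ 2 + 1) 2 := by
          refine Nat.Coprime.coprime_dvd_right ?_ c1
          rw [← hr, hq]; exact dvd_pow_self 2 (by omega)
      · exact h2c
      · exact Nat.Coprime.pow_right 2 h2c
    have h3 : (r + 1) ^ 2 + 1 ∣ (r + 1) * r * (w * u) := h2 ▸ Dvd.intro (2 * (u - 1)) (by ring)
    have h4 : (r + 1) ^ 2 + 1 ∣ u := by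
      rw [← mul_assoc] at h3
      exact ((c1.mul_right c2).mul_right c3).dvd_of_dvd_mul_left h3
    have hue : u = (r + 1) ^ 2 + 1 := Nat.dvd_antisymm (hr ▸ ud) h4
    rw [hue, Nat.add_sub_cancel] at h2
    have h5 : r * w = 2 * (r + 1) := by
      refine Nat.eq_of_mul_eq_mul_left (show 0 < (r + 1) * ((r + 1) ^ 2 + 1) by positivity) ?_
      linear_combination h2
    rcases hw with rfl | rfl | rfl <;> omega
  obtain ⟨w', hw', hNb, hcb⟩ := cls_card Q hb
  obtain ⟨vd, v5, -⟩ := card_tor Q hb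
  rw [← hq] at vd
  set v := Nat.card (tor b) with hv
  rw [Nat.card_coe_set_eq] at hcb
  have lower : ∀ S w u : ℕ, 5 ≤ u → S * (w * u) = G * (u - 1) → 4 * G ≤ 5 * w * S := by
    intro S w u hu h
    obtain ⟨t, rfl⟩ : ∃ t, u = t + 5 := ⟨u - 5, by omega⟩
    rw [show t + 5 - 1 = t + 4 by omega] at h
    by_contra hc
    push Not at hc
    have := Nat.mul_lt_mul_of_pos_right hc (show 0 < t + 5 by omega)
    nlinarith
  have hla := lower _ _ _ u5 hca
  have hlb := lower _ _ _ v5 hcb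
  have hdis := cls_disjoint Q hab
  have hcover : cls Q a ∪ cls Q b = {g | Free Q g} := by
    refine Set.Subset.antisymm (Set.union_subset (hsub a) (hsub b)) fun g hg => ?_
    by_contra hn
    rw [Set.mem_union, not_or] at hn
    obtain ⟨w3, hw3, -, hcg⟩ := cls_card Q hg
    rw [Nat.card_coe_set_eq] at hcg
    have hlg := lower _ _ _ (card_tor Q hg).2.1 hcg
    have hd1 : Disjoint (cls Q a) (cls Q g) := cls_disjoint Q fun h => hn.1 ⟨hg, h⟩
    have hd2 : Disjoint (cls Q b) (cls Q g) := cls_disjoint Q fun h => hn.2 ⟨hg, h⟩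
    have hle := Set.ncard_le_ncard (Set.union_subset (Set.union_subset (hsub a) (hsub b)) (hsub g))
    rw [Set.ncard_union_eq (Set.disjoint_union_left.2 ⟨hd1, hd2⟩), Set.ncard_union_eq hdis, ← hR'] at hle
    rcases hw with rfl | rfl | rfl <;> rcases hw' with rfl | rfl | rfl <;> rcases hw3 with rfl | rfl | rfl <;> omega
  have hsumR : (cls Q a).ncard + (cls Q b).ncard = R := by rw [← Set.ncard_union_eq hdis, hcover, hR']
  have hw44 : w = 4 ∧ w' = 4 := by
    rcases hw with rfl | rfl | rfl <;> rcases hw' with rfl | rfl | rfl <;> omega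
  obtain ⟨rfl, rfl⟩ := hw44
  have hcop : Nat.Coprime u v := by
    refine Nat.coprime_of_dvd fun p hp h1 h2 => hab ?_
    have : Fact p.Prime := ⟨hp⟩
    obtain ⟨P, hP⟩ := tor_sylow Q ha hp h1
    obtain ⟨P', hP'⟩ := tor_sylow Q hb hp h2
    obtain ⟨c, hc⟩ := MulAction.exists_smul_eq (Cfsg.Sz F m) P P'
    obtain ⟨x, hx⟩ := exists_prime_orderOf_dvd_card' (G := tor a) p h1
    have : Nontrivial (P : Subgroup (Cfsg.Sz F m)) := by
      rw [← Finite.one_lt_card_iff_nontrivial]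
      have hpG : p ∣ Nat.card (Cfsg.Sz F m) := h1.trans (Subgroup.card_subgroup_dvd_card _)
      have := P.dvd_card_of_dvd_card hpG
      exact hp.one_lt.trans_le (Nat.le_of_dvd Nat.card_pos this)
    obtain ⟨y, hy⟩ := exists_ne (1 : (P : Subgroup (Cfsg.Sz F m)))
    have hy1 : (y : Cfsg.Sz F m) ≠ 1 := fun h => hy (Subtype.ext h)
    have hmem : c * y.1 * c⁻¹ ∈ (P' : Subgroup (Cfsg.Sz F m)) := by
      rw [← hc]
      exact ⟨y.1, y.2, rfl⟩
    refine ⟨c, ?_⟩
    rw [← ((tor_spec Q hb).2.1 _ (hP' hmem) (fun h => hy1 (by rwa [mul_inv_eq_one, mul_eq_left] at h))).2,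
      ← ((tor_spec Q ha).2.1 _ (hP y.2) hy1).2]
    exact (map_conj_centralizer _ _).symm
  have key : q ^ 3 * (q - 1) ^ 2 * (4 * u * v) = 2 * G * ((u - 1) * v + (v - 1) * u) := by
    rw [← hR, ← hsumR]
    linear_combination (2 * v) * hca + (2 * u) * hcb
  obtain ⟨M, hM⟩ : u * v ∣ q ^ 2 + 1 := hcop.mul_dvd_of_dvd_of_dvd ud vd
  obtain ⟨r, hr⟩ : ∃ r, q = r + 1 := ⟨q - 1, by omega⟩
  obtain ⟨u', hu'⟩ : ∃ u', u = u' + 1 := ⟨u - 1, by omega⟩
  obtain ⟨v', hv'⟩ : ∃ v', v = v' + 1 := ⟨v - 1, by omega⟩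
  rw [hG, hr, hu', hv', Nat.add_sub_cancel, Nat.add_sub_cancel, Nat.add_sub_cancel] at key
  have key2 : 2 * ((u' + 1) * (v' + 1)) * (r + 2) = ((r + 1) ^ 2 + 1) * ((u' + 1) + (v' + 1)) := by
    have h' : (r + 1) * r * (2 * ((u' + 1) * (v' + 1))) = ((r + 1) ^ 2 + 1) * (u' * (v' + 1) + v' * (u' + 1)) := by
      refine Nat.eq_of_mul_eq_mul_left (show 0 < 2 * ((r + 1) ^ 2 * r) from
        Nat.mul_pos two_pos (Nat.mul_pos (by positivity) (by omega))) ?_
      linear_combination key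
    zify at h' ⊢
    linear_combination -h'
  rw [hr, hu', hv'] at hM
  have hM1 : M ∣ r + 2 := by
    have h2 : 2 * (r + 2) = M * ((u' + 1) + (v' + 1)) := by
      rw [hM] at key2
      refine Nat.eq_of_mul_eq_mul_left (show 0 < (u' + 1) * (v' + 1) by positivity) ?_
      linear_combination key2
    have hodd : Nat.Coprime M 2 := by
      refine Nat.Coprime.coprime_dvd_left ⟨(u' + 1) * (v' + 1), by rw [mul_comm]⟩ ?_
      rw [← hM, ← hr, hq, Nat.coprime_two_right, Nat.odd_iff, ← pow_mul,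
        show (2 * m + 1) * 2 = (4 * m + 1) + 1 by ring, pow_succ]
      omega
    exact hodd.dvd_of_dvd_mul_left ⟨_, h2⟩
  have hM2 : M = 1 := by
    have h1 : M ∣ (r + 1) ^ 2 + 1 := ⟨(u' + 1) * (v' + 1), by rw [hM]; ring⟩
    have h2 : M ∣ 2 := by
      have h3 : M ∣ (r + 2) * r + 2 := (show (r + 2) * r + 2 = (r + 1) ^ 2 + 1 by ring) ▸ h1
      exact (Nat.dvd_add_right (hM1.mul_right r)).1 h3
    rcases (Nat.dvd_prime Nat.prime_two).1 h2 with h | h
    · exact h
    · exfalso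
      have hodd : Odd ((r + 1) ^ 2 + 1) := by
        rw [← hr, hq, Nat.odd_iff, ← pow_mul, show (2 * m + 1) * 2 = (4 * m + 1) + 1 by ring, pow_succ]
        omega
      exact Nat.not_even_iff_odd.2 hodd ((even_iff_two_dvd).2 (h ▸ h1))
  rw [hM2, mul_one] at hM
  rw [← hM] at key2
  have hsum : u + v = 2 * (q + 1) := by
    have := Nat.eq_of_mul_eq_mul_left (show 0 < (r + 1) ^ 2 + 1 by positivity)
      (key2.symm.trans (show 2 * ((r + 1) ^ 2 + 1) * (r + 2) = ((r + 1) ^ 2 + 1) * (2 * (r + 2)) by ring))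
    omega
  have hprod : u * v = q ^ 2 + 1 := by rw [hu', hv', hr]; exact hM.symm
  set s := 2 ^ (m + 1) with hsdef
  have hs : s * s = 2 * q := by rw [hsdef, hq, ← pow_add, ← pow_succ']; congr 1; ring
  have hsq : s ≤ q := Nat.pow_le_pow_right two_pos (by omega)
  have hsol : u = q + s + 1 ∧ v = q - s + 1 ∨ v = q + s + 1 ∧ u = q - s + 1 := by
    have h : ((u : ℤ) - (q + 1) - s) * ((u : ℤ) - (q + 1) + s) = 0 := by
      have e1 : (u : ℤ) + v = 2 * (q + 1) := by exact_mod_cast hsum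
      have e2 : (u : ℤ) * v = q ^ 2 + 1 := by exact_mod_cast hprod
      have e3 : (s : ℤ) * s = 2 * q := by exact_mod_cast hs
      linear_combination (u : ℤ) * e1 - e2 - e3
    rcases mul_eq_zero.1 h with h | h
    · left; omega
    · right; omega
  have hall : ∀ g, Free Q g → Nat.card (tor g) = u ∨ Nat.card (tor g) = v := by
    intro g hg
    have hmem : g ∈ cls Q a ∪ cls Q b := by rw [hcover]; exact hg
    rcases hmem with ⟨-, c, hc⟩ | ⟨-, c, hc⟩
    · left; rw [hc, Subgroup.card_map_of_injective (MulAut.conj c).injective]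
    · right; rw [hc, Subgroup.card_map_of_injective (MulAut.conj c).injective]
  rcases hsol with ⟨e1, e2⟩ | ⟨e1, e2⟩
  · exact ⟨a, b, ha, hb, e1, e2, hNa, hNb, fun g hg => by rw [← e1, ← e2]; exact hall g hg⟩
  · exact ⟨b, a, hb, ha, e1, e2, hNb, hNa, fun g hg => by rw [← e1, ← e2]; exact (hall g hg).symm⟩

theorem cent_hI_eq {k : Fˣ} (hk : k ≠ 1) : tor (hI Q k) = (hHom Q).range := by
  refine le_antisymm (fun g hg => cent_hI Q hk (mem_tor.1 hg)) ?_
  rintro _ ⟨l, rfl⟩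
  refine mem_tor.2 ?_
  show hHom Q l * hHom Q k = hHom Q k * hHom Q l
  rw [← map_mul, mul_comm, map_mul]

theorem range_data : IsCyclic (hHom Q).range ∧ Nat.card (hHom Q).range = 2 ^ (2 * m + 1) - 1 := by
  have e : Fˣ ≃* (hHom Q).range := MonoidHom.ofInjective (hHom_injective Q)
  refine ⟨isCyclic_of_surjective e.toMonoidHom e.surjective, ?_⟩
  rw [← Nat.card_congr e.toEquiv, Nat.card_units, Nat.card_eq_fintype_card, Q.hF]

/-- The centraliser of a non-identity element. -/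
theorem cent_cases {g : Cfsg.Sz F m} (hg : g ≠ 1) :
    (IsPGroup 2 (tor g) ∧ ∃ c, c * g * c⁻¹ ∈ uSub Q) ∨
      (IsCyclic (tor g) ∧ Nat.card (tor g) ∈ ({2 ^ (2 * m + 1) - 1, 2 ^ (2 * m + 1) + 2 ^ (m + 1) + 1,
        2 ^ (2 * m + 1) - 2 ^ (m + 1) + 1} : Set ℕ)) := by
  rcases elt_split Q hg with ⟨c, hc⟩ | ⟨c, k, hk, e⟩ | hf
  · refine Or.inl ⟨fun x => ?_, c, hc⟩
    have hx : c * x.1 * c⁻¹ ∈ uSub Q := by
      refine cent_uu Q hc (fun h => hg (by rwa [mul_inv_eq_one, mul_eq_left] at h)) ?_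
      show _ = _
      calc c * x.1 * c⁻¹ * (c * g * c⁻¹) = c * (x.1 * g) * c⁻¹ := by group
        _ = c * (g * x.1) * c⁻¹ := by rw [(mem_tor.1 x.2).eq]
        _ = c * g * c⁻¹ * (c * x.1 * c⁻¹) := by group
    refine ⟨2, Subtype.ext ?_⟩
    obtain ⟨a, b, e⟩ := exists_uu Q hx
    have h4 : (c * x.1 * c⁻¹) ^ 2 ^ 2 = 1 := by rw [e]; exact uu_four Q a b
    rw [conj_pow, mul_inv_eq_one, mul_eq_left] at h4
    exact h4
  · right
    have hmap : (tor g).map (MulAut.conj c).toMonoidHom = (hHom Q).range := by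
      rw [map_conj_centralizer, e, ← cent_hI_eq Q hk]
    let e' := (tor g).equivMapOfInjective (MulAut.conj c).toMonoidHom (MulAut.conj c).injective
    rw [hmap] at e'
    obtain ⟨h1, h2⟩ := range_data Q
    refine ⟨isCyclic_of_surjective e'.symm.toMonoidHom e'.symm.surjective, ?_⟩
    rw [Nat.card_congr e'.toEquiv, h2]
    exact Or.inl rfl
  · right
    refine ⟨(tor_spec Q hf).1, ?_⟩
    obtain ⟨-, -, -, -, -, -, -, -, hall⟩ := two_tori Q
    rcases hall g hf with h | h <;> rw [h]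
    · exact Or.inr (Or.inl rfl)
    · exact Or.inr (Or.inr rfl)

theorem isCN : Cfsg.IsCNGroup (Cfsg.Sz F m) := fun g hg => by
  have : Fact (Nat.Prime 2) := ⟨Nat.prime_two⟩
  rcases cent_cases Q hg with ⟨h, -⟩ | ⟨h, -⟩
  · exact h.isNilpotent
  · let := h.commGroup
    exact CommGroup.isNilpotent

theorem sylow_odd {p : ℕ} [Fact p.Prime] (hp : p ≠ 2) (P : Sylow p (Cfsg.Sz F m)) : IsCyclic P := by
  rcases subsingleton_or_nontrivial (P : Subgroup (Cfsg.Sz F m)) with h | h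
  · exact isCyclic_of_subsingleton
  have := P.isPGroup'.center_nontrivial
  obtain ⟨z, hz⟩ := exists_ne (1 : Subgroup.center (P : Subgroup (Cfsg.Sz F m)))
  have hz1 : (z.1 : Cfsg.Sz F m) ≠ 1 := fun h => hz (Subtype.ext (Subtype.ext h))
  have hle : (P : Subgroup (Cfsg.Sz F m)) ≤ tor (z.1 : Cfsg.Sz F m) := fun y hy =>
    mem_tor.2 (congrArg Subtype.val (Subgroup.mem_center_iff.1 z.2 ⟨y, hy⟩))
  rcases cent_cases Q hz1 with ⟨h2, -⟩ | ⟨hc, -⟩
  · exfalso
    have := (h2.to_le hle).card_eq_or_dvd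
    obtain ⟨n, hn⟩ := IsPGroup.iff_card.1 P.isPGroup'
    rcases this with h1 | h1
    · exact (Finite.one_lt_card_iff_nontrivial.2 h).ne' h1
    · rw [hn] at h1
      exact hp ((Nat.prime_dvd_prime_iff_eq Nat.prime_two (Fact.out : p.Prime)).1 (Nat.prime_two.dvd_of_dvd_pow h1)).symm
  · exact isCyclic_of_injective _ (Subgroup.inclusion_injective hle)

theorem tori (k : ℕ) (hk : k ∈ ({2 ^ (2 * m + 1) + 2 ^ (m + 1) + 1, 2 ^ (2 * m + 1) - 2 ^ (m + 1) + 1} : Set ℕ)) :
    ∃ U : Subgroup (Cfsg.Sz F m), IsCyclic U ∧ Nat.card U = k ∧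
      (∀ u ∈ U, u ≠ 1 → Subgroup.centralizer {u} = U) ∧
      Nat.card (Subgroup.normalizer (U : Set (Cfsg.Sz F m))) = 4 * k := by
  obtain ⟨a, b, ha, hb, ea, eb, na, nb, -⟩ := two_tori Q
  rcases hk with rfl | rfl
  · exact ⟨tor a, (tor_spec Q ha).1, ea, fun u hu h1 => ((tor_spec Q ha).2.1 u hu h1).2, by rw [na, ea]⟩
  · exact ⟨tor b, (tor_spec Q hb).1, eb, fun u hu h1 => ((tor_spec Q hb).2.1 u hu h1).2, by rw [nb, eb]⟩

theorem partition (g : Cfsg.Sz F m) (hg : g ≠ 1) :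
    ∃! U : Subgroup (Cfsg.Sz F m), ((∃ P : Sylow 2 (Cfsg.Sz F m), U = (P : Subgroup (Cfsg.Sz F m))) ∨
      (IsCyclic U ∧ Nat.card U ∈ ({2 ^ (2 * m + 1) - 1, 2 ^ (2 * m + 1) + 2 ^ (m + 1) + 1,
        2 ^ (2 * m + 1) - 2 ^ (m + 1) + 1} : Set ℕ))) ∧ g ∈ U := by
  have : Fact (Nat.Prime 2) := ⟨Nat.prime_two⟩
  set q := 2 ^ (2 * m + 1) with hq
  set s := 2 ^ (m + 1) with hs
  have hqe : 2 ∣ q := dvd_pow_self 2 (Nat.succ_ne_zero _)
  have hse : 2 ∣ s := dvd_pow_self 2 (Nat.succ_ne_zero _)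
  have hs4 := (exp_lt Q).2
  rw [← hs] at hs4
  have hsq : 2 * s ≤ q := by rw [hs, hq, ← pow_succ']; exact Nat.pow_le_pow_right two_pos (by have := Q.hm; omega)
  have hgt : g ∈ tor g := mem_tor.2 (Commute.refl g)
  rcases cent_cases Q hg with ⟨h2, c, hc⟩ | ⟨hcy, hmem⟩
  · obtain ⟨P, hP⟩ := h2.exists_le_sylow
    refine ⟨P, ⟨Or.inl ⟨P, rfl⟩, hP hgt⟩, ?_⟩
    rintro U ⟨hU, hgU⟩
    rcases hU with ⟨P', rfl⟩ | ⟨hcU, hk⟩
    · obtain ⟨d, hd⟩ := exists_conj Q P
      obtain ⟨d', hd'⟩ := exists_conj Q P'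
      have h1 := (hd g).1 (hP hgt)
      have h1' := (hd' g).1 hgU
      have hn := ti Q h1 (fun h => hg (by rwa [mul_inv_eq_one, mul_eq_left] at h)) (g := d' * d⁻¹)
        (by rw [show d' * d⁻¹ * (d * g * d⁻¹) * (d' * d⁻¹)⁻¹ = d' * g * d'⁻¹ by group]; exact h1')
      have hn' : d' * d⁻¹ ∈ Subgroup.normalizer (uSub Q : Set (Cfsg.Sz F m)) := by rw [normalizer_uSub Q]; exact hn
      ext x
      rw [hd', hd, Subgroup.mem_normalizer_iff.1 hn' (d * x * d⁻¹)]
      simp [mul_assoc]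
    · exfalso
      have h1 : orderOf (⟨g, hgU⟩ : U) ∣ Nat.card U := orderOf_dvd_natCard _
      obtain ⟨i, hi⟩ := h2 ⟨g, hgt⟩
      have hi' : g ^ 2 ^ i = 1 := congrArg Subtype.val hi
      obtain ⟨j, -, hj⟩ := (Nat.dvd_prime_pow Nat.prime_two).1 (orderOf_dvd_of_pow_eq_one hi')
      have hj0 : j ≠ 0 := fun h => hg (orderOf_eq_one_iff.1 (by rw [hj, h, pow_zero]))
      rw [Subgroup.orderOf_mk, hj] at h1
      have h2' : 2 ∣ Nat.card U := (dvd_pow_self 2 hj0).trans h1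
      simp only [Set.mem_insert_iff, Set.mem_singleton_iff] at hk
      omega
  · refine ⟨tor g, ⟨Or.inr ⟨hcy, hmem⟩, hgt⟩, ?_⟩
    rintro U ⟨hU, hgU⟩
    rcases hU with ⟨P', rfl⟩ | ⟨hcU, hk⟩
    · exfalso
      obtain ⟨i, hi⟩ := P'.isPGroup' ⟨g, hgU⟩
      have h1 : orderOf g ∣ 2 ^ i := orderOf_dvd_of_pow_eq_one (congrArg Subtype.val hi)
      obtain ⟨j, -, hj⟩ := (Nat.dvd_prime_pow Nat.prime_two).1 h1
      have hj0 : j ≠ 0 := fun h => hg (orderOf_eq_one_iff.1 (by rw [hj, h, pow_zero]))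
      have h2' : 2 ∣ Nat.card (tor g) :=
        (dvd_pow_self 2 hj0).trans (hj ▸ Subgroup.orderOf_dvd_natCard _ hgt)
      simp only [Set.mem_insert_iff, Set.mem_singleton_iff] at hmem
      omega
    · have hle : U ≤ tor g := fun x hx => by
        let := hcU.commGroup
        exact mem_tor.2 (congrArg Subtype.val (mul_comm (⟨x, hx⟩ : U) ⟨g, hgU⟩))
      refine Subgroup.eq_of_le_of_card_ge hle (le_of_not_gt fun hlt => ?_)
      obtain ⟨j, hj⟩ := Subgroup.card_dvd_of_le hle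
      simp only [Set.mem_insert_iff, Set.mem_singleton_iff] at hk hmem
      rw [← hq, ← hs] at hmem
      have hj3 : 3 ≤ j := by
        have : j ≠ 0 := fun h => by rw [h, mul_zero] at hj; exact absurd hj Nat.card_pos.ne'
        have : j ≠ 1 := fun h => by rw [h, mul_one] at hj; omega
        have : j ≠ 2 := fun h => by rw [h] at hj; omega
        omega
      have := Nat.mul_le_mul_left (Nat.card U) hj3
      have hsv : s * s = 2 * q := by rw [hs, hq, ← pow_add, ← pow_succ']; congr 1; ring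
      rcases eq_or_ne q 8 with h8 | h8
      · rw [h8] at hsv hsq hk hmem
        have : s = 4 := by nlinarith
        omega
      · have : 4 * s ≤ q := by
          rw [hs, hq, show (4 : ℕ) = 2 ^ 2 from rfl, ← pow_add]
          refine Nat.pow_le_pow_right two_pos ?_
          have : m ≠ 1 := fun h => h8 (by rw [hq, h]; rfl)
          have := Q.hm
          omega
        omega

end Cfsg.Lib.Suz
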