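import Cfsg.Agent.Suz.Lie
import Cfsg.Agent.Suz.Partition
import Cfsg.Agent.Schur.SylowTransfer

/-!
The multiplier of the Suzuki groups over fields with at least 32 elements is trivial.
-/

set_option autoImplicit false

open scoped commutatorElement

namespace Cfsg.Lib.Schur

universe u v

/-- A prime with cyclic Sylow subgroups. -/
theorem exists_sylow_of_isCyclic {Γ : Type u} {Q : Type v} [Group Γ] [Group Q] [Finite Γ] [Finite Q] {σ : Γ →* Q}
    {p : ℕ} [Fact p.Prime] (hσ : Cfsg.IsStemExtension σ) (h : ∀ P : Sylow p Q, IsCyclic P) :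
    ∃ S : Sylow p Γ, ∀ z ∈ σ.ker, z ∈ ⁅(S : Subgroup Γ), (S : Subgroup Γ)⁆ → z = 1 := by
  let P : Sylow p Q := default
  haveI := h P
  obtain ⟨g, hg⟩ := IsCyclic.exists_generator (α := (P : Subgroup Q))
  have hx : (P : Subgroup Q) ≤ Subgroup.zpowers (g : Q) := fun y hy => by
    obtain ⟨k, hk⟩ := Subgroup.mem_zpowers_iff.mp (hg ⟨y, hy⟩)
    exact Subgroup.mem_zpowers_iff.mpr ⟨k, congrArg Subtype.val hk⟩
  obtain ⟨S, hS⟩ := exists_sylow_map_le hσ.1 (P : Subgroup Q) P.card_eq_multiplicity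
  obtain ⟨X, hX⟩ := hσ.1 (g : Q)
  refine ⟨S, fun z _ hzS => eq_one_of_commuting hσ.2.1 (T := {X}) ?_ (by simp) hzS⟩
  rw [Set.image_singleton, ← Subgroup.zpowers_eq_closure, hX]
  exact hS.trans hx

end Cfsg.Lib.Schur

namespace Cfsg.Lib.Suz

variable {F : Type*} [Field F] [Fintype F] {m : ℕ} (Q : Par F m)
include Q

theorem hI_conj_uu (k : Fˣ) (a b : F) :
    hI Q k * uu Q a b * (hI Q k)⁻¹ = uu Q ((k : F) * a) ((k : F) ^ (2 ^ (m + 1) + 1) * b) :=
  Subtype.ext (H_conj_T Q k a b)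

/-- An invariant pairing with a weight whose inverse is not additive vanishes. -/
theorem pairing_trivial {K : Type*} [Group K] (e : ℕ) {x y : F} (hx : x ≠ 0) (hy : y ≠ 0) (hxy : x + y ≠ 0)
    (hne : ((x + y) ^ e)⁻¹ ≠ (x ^ e)⁻¹ + (y ^ e)⁻¹) (B : F → F → K)
    (hl : ∀ a a' c, B (a + a') c = B a c * B a' c) (hr : ∀ a c c', B a (c + c') = B a c * B a c')
    (hinv : ∀ (l : Fˣ) (a c : F), B ((l : F) * a) ((l : F) ^ e * c) = B a c) : ∀ a c, B a c = 1 := by
  have r0 : ∀ a, B a 0 = 1 := fun a => by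
    have h := hr a 0 0; rw [add_zero] at h; exact mul_eq_left.mp h.symm
  have l0 : ∀ c, B 0 c = 1 := fun c => by
    have h := hl 0 0 c; rw [add_zero] at h; exact mul_eq_left.mp h.symm
  have red : ∀ a, a ≠ 0 → ∀ b, B a b = B 1 (b * (a ^ e)⁻¹) := by
    intro a ha b
    have h := hinv (Units.mk0 a ha) 1 (b * (a ^ e)⁻¹)
    rwa [Units.val_mk0, mul_one, mul_left_comm, mul_inv_cancel₀ (pow_ne_zero e ha), mul_one] at h
  set d := ((x + y) ^ e)⁻¹ + ((x ^ e)⁻¹ + (y ^ e)⁻¹) with hd
  have hd0 : d ≠ 0 := fun h => hne ((eq_neg_of_add_eq_zero_left h).trans (neg_eq Q _))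
  have hL : ∀ z, B 1 z = 1 := by
    intro z
    have hz : z = z * d⁻¹ * ((x + y) ^ e)⁻¹ + (z * d⁻¹ * (x ^ e)⁻¹ + z * d⁻¹ * (y ^ e)⁻¹) := by
      rw [← mul_add, ← mul_add, ← hd, mul_assoc, inv_mul_cancel₀ hd0, mul_one]
    rw [hz, hr, hr, ← red _ hxy, ← red x hx, ← red y hy, ← hl, ← hr, add_self Q, r0]
  intro a c
  rcases eq_or_ne a 0 with rfl | ha
  · exact l0 c
  · rw [red a ha, hL]

theorem exists_pair_one : ∃ x y : F, x ≠ 0 ∧ y ≠ 0 ∧ x + y ≠ 0 ∧ ((x + y) ^ 1)⁻¹ ≠ (x ^ 1)⁻¹ + (y ^ 1)⁻¹ := by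
  classical
  have hcard : 8 ≤ Fintype.card F := by
    rw [Q.hF]
    calc 8 = 2 ^ 3 := by norm_num
      _ ≤ 2 ^ (2 * m + 1) := Nat.pow_le_pow_right (by norm_num) (by have := Q.hm; omega)
  let P : Polynomial F := Polynomial.X ^ 2 + Polynomial.X + Polynomial.C 1
  have hP : P.natDegree ≤ 2 := by simp only [P]; compute_degree
  have hP0 : P ≠ 0 := fun h => by
    have := congrArg (fun p : Polynomial F => p.coeff 0) h
    simp [P] at this
  obtain ⟨y, hy⟩ : ∃ y : F, y ∉ ({0, 1} : Finset F) ∪ P.roots.toFinset := by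
    by_contra h
    push Not at h
    have h1 : (Finset.univ : Finset F).card ≤ (({0, 1} : Finset F) ∪ P.roots.toFinset).card :=
      Finset.card_le_card fun z _ => h z
    have h2 := Finset.card_union_le ({0, 1} : Finset F) P.roots.toFinset
    have h3 : ({0, 1} : Finset F).card ≤ 2 := Finset.card_le_two
    have h4 := (P.roots.toFinset_card_le.trans (Polynomial.card_roots' P)).trans hP
    rw [Finset.card_univ] at h1
    omega
  simp only [Finset.mem_union, Finset.mem_insert, Finset.mem_singleton, Multiset.mem_toFinset, not_or] at hy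
  obtain ⟨⟨hy0, hy1⟩, hroot⟩ := hy
  have h1y : (1 : F) + y ≠ 0 := fun h => hy1 ((eq_neg_of_add_eq_zero_right h).trans (neg_eq Q 1))
  refine ⟨1, y, one_ne_zero, hy0, h1y, fun h => hroot ((Polynomial.mem_roots hP0).mpr ?_)⟩
  simp only [pow_one, inv_one] at h
  show Polynomial.eval y P = 0
  simp only [P, Polynomial.eval_add, Polynomial.eval_pow, Polynomial.eval_X, Polynomial.eval_C]
  field_simp at h
  have h2 : (2 : F) = 0 := by haveI := charP Q; exact CharP.cast_eq_zero F 2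
  linear_combination -1 * h + 0 * h2

theorem exists_pair_s (hm2 : 2 ≤ m) : ∃ x y : F, x ≠ 0 ∧ y ≠ 0 ∧ x + y ≠ 0 ∧
    ((x + y) ^ (2 ^ (m + 1) + 1))⁻¹ ≠ (x ^ (2 ^ (m + 1) + 1))⁻¹ + (y ^ (2 ^ (m + 1) + 1))⁻¹ := by
  classical
  set s := 2 ^ (m + 1) with hs
  have hs8 : 8 ≤ s := by
    calc 8 = 2 ^ 3 := by norm_num
      _ ≤ s := Nat.pow_le_pow_right (by norm_num) (by omega)
  have hcard : 2 * s + 4 < Fintype.card F := by
    have : 2 ^ (m + 3) ≤ 2 ^ (2 * m + 1) := Nat.pow_le_pow_right (by norm_num) (by omega)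
    rw [Q.hF]
    have e : 2 ^ (m + 3) = 4 * s := by rw [hs]; ring
    omega
  let P : Polynomial F := Polynomial.X ^ (2 * s + 2) + (Polynomial.X ^ (2 * s + 1) + Polynomial.X ^ (s + 2) +
    Polynomial.X ^ (s + 1) + Polynomial.X ^ s + Polynomial.X + Polynomial.C 1)
  have hP : P.natDegree ≤ 2 * s + 2 := by
    refine (Polynomial.natDegree_add_le _ _).trans (max_le (Polynomial.natDegree_X_pow_le _) ?_)
    refine (Polynomial.natDegree_add_le _ _).trans (max_le ?_ (by rw [Polynomial.natDegree_C]; omega))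
    refine (Polynomial.natDegree_add_le _ _).trans (max_le ?_ (Polynomial.natDegree_X_le.trans (by omega)))
    refine (Polynomial.natDegree_add_le _ _).trans (max_le ?_ ((Polynomial.natDegree_X_pow_le _).trans (by omega)))
    refine (Polynomial.natDegree_add_le _ _).trans (max_le ?_ ((Polynomial.natDegree_X_pow_le _).trans (by omega)))
    exact (Polynomial.natDegree_add_le _ _).trans (max_le ((Polynomial.natDegree_X_pow_le _).trans (by omega))
      ((Polynomial.natDegree_X_pow_le _).trans (by omega)))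
  have hP0 : P ≠ 0 := fun h => by
    have := congrArg (fun p : Polynomial F => p.coeff 0) h
    simp [P, Polynomial.coeff_X_pow, show ¬ 0 = s from by omega] at this
  obtain ⟨y, hy⟩ : ∃ y : F, y ∉ ({0, 1} : Finset F) ∪ P.roots.toFinset := by
    by_contra h
    push Not at h
    have h1 : (Finset.univ : Finset F).card ≤ (({0, 1} : Finset F) ∪ P.roots.toFinset).card :=
      Finset.card_le_card fun z _ => h z
    have h2 := Finset.card_union_le ({0, 1} : Finset F) P.roots.toFinset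
    have h3 : ({0, 1} : Finset F).card ≤ 2 := Finset.card_le_two
    have h4 := (P.roots.toFinset_card_le.trans (Polynomial.card_roots' P)).trans hP
    rw [Finset.card_univ] at h1
    omega
  simp only [Finset.mem_union, Finset.mem_insert, Finset.mem_singleton, Multiset.mem_toFinset, not_or] at hy
  obtain ⟨⟨hy0, hy1⟩, hroot⟩ := hy
  have hy1' : y + 1 ≠ 0 := fun h => hy1 ((eq_neg_of_add_eq_zero_left h).trans (neg_eq Q 1))
  refine ⟨y, 1, hy0, one_ne_zero, hy1', fun h => hroot ((Polynomial.mem_roots hP0).mpr ?_)⟩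
  rw [one_pow, inv_one] at h
  have hy2 := pow_ne_zero (s + 1) hy0
  have hy3 := pow_ne_zero (s + 1) hy1'
  field_simp at h
  have hexp : (y + 1) ^ (s + 1) = y ^ (s + 1) + y ^ s + y + 1 := by
    rw [pow_succ, hs, add_pow_s Q, one_pow, ← hs]; ring
  rw [hexp] at h
  have h2 : (2 : F) = 0 := by haveI := charP Q; exact CharP.cast_eq_zero F 2
  show Polynomial.eval y P = 0
  simp only [P, Polynomial.eval_add, Polynomial.eval_pow, Polynomial.eval_X, Polynomial.eval_C]
  linear_combination -1 * h + 0 * h2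

/-- A stem extension of a Suzuki group in which the centre of a Sylow 2-subgroup commutes with
lifts of the subgroup has trivial kernel. -/
theorem ker_eq_bot_of {Γ : Type*} [Group Γ] [Finite Γ] {σ : Γ →* Cfsg.Sz F m}
    (hσ : Cfsg.IsStemExtension σ)
    (hczc : ∀ (X Y : Γ) (c b : F), σ X = uu Q c 0 → σ Y = uu Q 0 b → X * Y = Y * X) : σ.ker = ⊥ := by
  classical
  refine Cfsg.Lib.Schur.ker_eq_bot_of_sylow hσ fun p hp => ?_
  haveI := hp
  by_cases hp2 : p = 2
  swap
  · exact Cfsg.Lib.Schur.exists_sylow_of_isCyclic hσ fun P => sylow_odd Q hp2 P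
  subst hp2
  obtain ⟨S, hS⟩ := Cfsg.Lib.Schur.exists_sylow_map_le hσ.1 (uSub Q)
    (by rw [← syl_coe Q]; exact (syl Q).card_eq_multiplicity)
  refine ⟨S, fun z hz hzS => ?_⟩
  have hcen : ∀ w, σ w = 1 → ∀ g, g * w = w * g := fun w hw => Subgroup.mem_center_iff.mp (hσ.2.1 hw)
  choose lift hlift using hσ.1
  -- the commutator of two lifts
  let C : Cfsg.Sz F m → Cfsg.Sz F m → Γ := fun g h => ⁅lift g, lift h⁆
  have hC : ∀ (g h : Γ), ⁅g, h⁆ = C (σ g) (σ h) := fun g h =>
    Cfsg.Lib.Schur.comm_congr σ hσ.2.1 (hlift _).symm (hlift _).symm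
  have hker : ∀ g h, g * h = h * g → σ (C g h) = 1 := fun g h e => by
    simp only [C, map_commutatorElement, hlift]; exact commutatorElement_eq_one_iff_mul_comm.mpr e
  have mulL : ∀ g g' h, (σ (C g' h) = 1) → C (g * g') h = C g h * C g' h := by
    intro g g' h hk
    have := hC (lift g * lift g') (lift h)
    rw [map_mul, hlift, hlift, hlift] at this
    rw [← this, show ⁅lift g * lift g', lift h⁆ = lift g * C g' h * (lift g)⁻¹ * C g h by
      simp only [C, commutatorElement_def]; group, hcen _ hk, mul_inv_cancel_right, hcen _ hk]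
  have conj : ∀ (t g h : Cfsg.Sz F m), σ (C g h) = 1 → C (t * g * t⁻¹) (t * h * t⁻¹) = C g h := by
    intro t g h hk
    have := hC (lift t * lift g * (lift t)⁻¹) (lift t * lift h * (lift t)⁻¹)
    simp only [map_mul, map_inv, hlift] at this
    rw [← this, show ⁅lift t * lift g * (lift t)⁻¹, lift t * lift h * (lift t)⁻¹⁆ = lift t * C g h * (lift t)⁻¹ by
      simp only [C, commutatorElement_def]; group, hcen _ hk, mul_inv_cancel_right]
  -- the central part commutes with the preimage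
  have cz : ∀ b c d, uu Q 0 b * uu Q c d = uu Q c d * uu Q 0 b := fun b c d => by
    rw [uu_mul, uu_mul]
    simp [zero_pow (pow_ne_zero (m + 1) two_ne_zero), add_comm]
  have swap' : ∀ g h, C h g = (C g h)⁻¹ := fun g h => by simp only [C, commutatorElement_inv]
  have mulR : ∀ g h h', σ (C g h') = 1 → σ (C g h) = 1 → C g (h * h') = C g h * C g h' := by
    intro g h h' hk hk'
    have e := mulL h h' g (by rw [swap', map_inv, hk, inv_one])
    rw [swap' g (h * h'), swap' g h, swap' g h', ← mul_inv_rev, inv_inj] at e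
    rw [e, hcen _ hk']
  obtain ⟨x1, y1, hx1, hy1, hxy1, hne1⟩ := exists_pair_one Q
  have czz : ∀ b d, C (uu Q 0 b) (uu Q 0 d) = 1 := by
    refine pairing_trivial Q 1 hx1 hy1 hxy1 hne1 (fun b d => C (uu Q 0 b) (uu Q 0 d)) ?_ ?_ ?_
    · intro a a' c
      rw [show uu Q 0 (a + a') = uu Q 0 a * uu Q 0 a' by rw [uu_mul]; simp]
      exact mulL _ _ _ (hker _ _ (cz _ _ _))
    · intro a c c'
      rw [show uu Q 0 (c + c') = uu Q 0 c * uu Q 0 c' by rw [uu_mul]; simp]
      exact mulR _ _ _ (hker _ _ (cz _ _ _)) (hker _ _ (cz _ _ _))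
    · intro l a c
      obtain ⟨k, hk⟩ := exists_s1_root Q l
      have hk' : (k : F) ^ (2 ^ (m + 1) + 1) = (l : F) := by rw [← hk, Units.val_pow_eq_pow_val]
      have := conj (hI Q k) (uu Q 0 a) (uu Q 0 c) (hker _ _ (cz _ _ _))
      simpa only [hI_conj_uu, mul_zero, hk', pow_one] using this
  have czc : ∀ c b, C (uu Q c 0) (uu Q 0 b) = 1 := fun c b =>
    commutatorElement_eq_one_iff_mul_comm.mpr (hczc _ _ c b (hlift _) (hlift _))
  have cz1 : ∀ b c d, C (uu Q 0 b) (uu Q c d) = 1 := by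
    intro b c d
    have e : uu Q c d = uu Q c 0 * uu Q 0 d := by rw [uu_mul]; simp
    rw [e, mulR _ _ _ (hker _ _ (cz _ _ _)) (hker _ _ (cz _ _ _)), czz, swap', czc]; simp
  -- a homomorphic section over the central part
  obtain ⟨k0, hk0⟩ := exists_unit_ne_one Q
  have hμ : (k0 : F) ^ (2 ^ (m + 1) + 1) + 1 ≠ 0 := fun h =>
    hk0 (units_s1 Q ((eq_neg_of_add_eq_zero_left h).trans (neg_eq Q 1)))
  set μ := (k0 : F) ^ (2 ^ (m + 1) + 1) with hμd
  let sec : F → Γ := fun b => C (hI Q k0) (uu Q 0 (b / (μ + 1)))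
  have hsecσ : ∀ b, σ (sec b) = uu Q 0 b := by
    intro b
    show σ ⁅lift _, lift _⁆ = _
    rw [map_commutatorElement, hlift, hlift, commutatorElement_def, hI_conj_uu, mul_zero]
    rw [show (uu Q 0 (b / (μ + 1)))⁻¹ = uu Q 0 (b / (μ + 1)) from inv_eq_of_mul_eq_one_right (by
      rw [uu_mul]; simp [add_self Q, uu_zero]), uu_mul]
    congr 1
    · simp
    · rw [← hμd]; simp [zero_pow (pow_ne_zero (m + 1) two_ne_zero)]
      field_simp
  have hcomm : ∀ b, ∀ g : Γ, σ g ∈ uSub Q → g * sec b = sec b * g := by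
    intro b g hg
    obtain ⟨c, d, e⟩ := exists_uu Q hg
    refine (commutatorElement_eq_one_iff_mul_comm.mp ?_).symm
    rw [hC, hsecσ, e, cz1]
  have hsec_add : ∀ b b', sec (b + b') = sec b * sec b' := by
    intro b b'
    have e : uu Q 0 ((b + b') / (μ + 1)) = uu Q 0 (b / (μ + 1)) * uu Q 0 (b' / (μ + 1)) := by
      rw [uu_mul, add_div]; simp
    show C _ _ = _
    have h := hC (lift (hI Q k0)) (lift (uu Q 0 (b / (μ + 1))) * lift (uu Q 0 (b' / (μ + 1))))
    rw [map_mul, hlift, hlift, hlift, ← e] at h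
    rw [← h, show ⁅lift (hI Q k0), lift (uu Q 0 (b / (μ + 1))) * lift (uu Q 0 (b' / (μ + 1)))⁆ =
      sec b * (lift (uu Q 0 (b / (μ + 1))) * sec b' * (lift (uu Q 0 (b / (μ + 1))))⁻¹) by
      simp only [sec, C, commutatorElement_def]; group,
      hcomm b' _ (by rw [hlift]; exact uu_mem Q _ _), mul_inv_cancel_right]
  have hsec0 : sec 0 = 1 := by
    have h := hsec_add 0 0; rw [add_zero] at h; exact mul_eq_left.mp h.symm
  have hsec_sq : ∀ b, (sec b)⁻¹ = sec b := fun b => inv_eq_of_mul_eq_one_right (by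
    rw [← hsec_add, add_self Q, hsec0])
  -- the deviation of commutators from the section
  let w : F → F → F := fun a c => a ^ (2 ^ (m + 1)) * c + c ^ (2 ^ (m + 1)) * a
  have hσC : ∀ a c, σ (C (uu Q a 0) (uu Q c 0)) = uu Q 0 (w a c) := by
    intro a c
    show σ ⁅lift _, lift _⁆ = _
    rw [map_commutatorElement, hlift, hlift, commutatorElement_def]
    rw [mul_inv_eq_iff_eq_mul, mul_inv_eq_iff_eq_mul, uu_mul, uu_mul, uu_mul]
    congr 1
    · simp [add_comm]
    · simp only [w, zero_add, add_zero, zero_pow (pow_ne_zero (m + 1) two_ne_zero), zero_mul]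
      linear_combination -1 * add_self Q (c ^ 2 ^ (m + 1) * a)
  have hdev : ∀ a c, C (uu Q a 0) (uu Q c 0) * sec (w a c) = 1 := by
    have split : ∀ a a', uu Q (a + a') 0 = uu Q 0 (a ^ (2 ^ (m + 1)) * a') * (uu Q a 0 * uu Q a' 0) := fun a a' => by
      rw [uu_mul, uu_mul]; simp [zero_pow (pow_ne_zero (m + 1) two_ne_zero), add_self Q]
    have cc : ∀ a c g, σ g ∈ uSub Q → g * C (uu Q a 0) (uu Q c 0) = C (uu Q a 0) (uu Q c 0) * g := by
      intro a c g hg
      obtain ⟨e, f, hef⟩ := exists_uu Q hg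
      refine (commutatorElement_eq_one_iff_mul_comm.mp ?_).symm
      rw [hC, hσC, hef, cz1]
    have addL : ∀ a a' c, C (uu Q (a + a') 0) (uu Q c 0) = C (uu Q a 0) (uu Q c 0) * C (uu Q a' 0) (uu Q c 0) := by
      intro a a' c
      have h := hC (lift (uu Q 0 (a ^ (2 ^ (m + 1)) * a')) * (lift (uu Q a 0) * lift (uu Q a' 0))) (lift (uu Q c 0))
      rw [map_mul, map_mul, hlift, hlift, hlift, hlift, ← split] at h
      rw [← h]
      set P := lift (uu Q a 0) * lift (uu Q a' 0) with hP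
      set L := lift (uu Q 0 (a ^ (2 ^ (m + 1)) * a')) with hL'
      have hLc : L * lift (uu Q c 0) = lift (uu Q c 0) * L := commutatorElement_eq_one_iff_mul_comm.mp (cz1 _ _ _)
      rw [show ⁅L * P, lift (uu Q c 0)⁆ = L * ⁅P, lift (uu Q c 0)⁆ * L⁻¹ * ⁅L, lift (uu Q c 0)⁆ by
        simp only [commutatorElement_def]; group, commutatorElement_eq_one_iff_mul_comm.mpr hLc, mul_one,
        show ⁅P, lift (uu Q c 0)⁆ = lift (uu Q a 0) * C (uu Q a' 0) (uu Q c 0) * (lift (uu Q a 0))⁻¹ *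
          C (uu Q a 0) (uu Q c 0) by simp only [hP, C, commutatorElement_def]; group,
        cc a' c _ (by rw [hlift]; exact uu_mem Q _ _), mul_inv_cancel_right, ← mul_assoc L,
        cc a' c _ (by rw [hL', hlift]; exact uu_mem Q _ _), mul_assoc (C (uu Q a' 0) (uu Q c 0)) L,
        cc a c _ (by rw [hL', hlift]; exact uu_mem Q _ _), ← mul_assoc, mul_inv_cancel_right,
        cc a c _ (by rw [hσC]; exact uu_mem Q _ _)]
    have hwadd : ∀ a a' c, w (a + a') c = w a c + w a' c := fun a a' c => by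
      simp only [w, add_pow_s Q]; ring
    have hwsymm : ∀ a c, w a c = w c a := fun a c => by simp only [w]; ring
    let D : F → F → Γ := fun a c => C (uu Q a 0) (uu Q c 0) * sec (w a c)
    have Dker : ∀ a c, σ (D a c) = 1 := fun a c => by
      show σ (_ * _) = 1
      rw [map_mul, hσC, hsecσ, uu_mul]; simp [add_self Q, uu_zero]
    have DL : ∀ a a' c, D (a + a') c = D a c * D a' c := by
      intro a a' c
      show C _ _ * sec _ = C _ _ * sec _ * (C _ _ * sec _)
      rw [addL, hwadd, hsec_add]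
      exact Commute.mul_mul_mul_comm (hcomm (w a c) (C (uu Q a' 0) (uu Q c 0)) (by rw [hσC]; exact uu_mem Q _ _)) _ _
    have Dsymm : ∀ a c, D c a = (D a c)⁻¹ := by
      intro a c
      show C _ _ * sec _ = (C _ _ * sec _)⁻¹
      rw [mul_inv_rev, hsec_sq, ← swap', hwsymm c a]
      exact (hcomm _ _ (by rw [hσC]; exact uu_mem Q _ _))
    refine pairing_trivial Q 1 hx1 hy1 hxy1 hne1 D DL ?_ ?_
    · intro a c c'
      rw [Dsymm (c + c') a, DL, mul_inv_rev, ← Dsymm, ← Dsymm, hcen _ (Dker a c)]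
    · intro l a c
      rw [pow_one]
      have hk := Dker a c
      have hmove : lift (hI Q l) * D a c * (lift (hI Q l))⁻¹ = D a c := by
        rw [hcen _ hk, mul_inv_cancel_right]
      rw [← hmove]
      show C _ _ * sec _ = lift (hI Q l) * (C _ _ * sec _) * (lift (hI Q l))⁻¹
      have h1 : C (uu Q ((l : F) * a) 0) (uu Q ((l : F) * c) 0) =
          lift (hI Q l) * C (uu Q a 0) (uu Q c 0) * (lift (hI Q l))⁻¹ := by
        have := hC (lift (hI Q l) * lift (uu Q a 0) * (lift (hI Q l))⁻¹) (lift (hI Q l) * lift (uu Q c 0) * (lift (hI Q l))⁻¹)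
        simp only [map_mul, map_inv, hlift, hI_conj_uu, mul_zero] at this
        rw [← this]
        simp only [C, commutatorElement_def]; group
      have h2 : sec (w ((l : F) * a) ((l : F) * c)) = lift (hI Q l) * sec (w a c) * (lift (hI Q l))⁻¹ := by
        have hw : w ((l : F) * a) ((l : F) * c) = (l : F) ^ (2 ^ (m + 1) + 1) * w a c := by
          simp only [w, mul_pow, pow_succ]; ring
        have := hC (lift (hI Q l) * lift (hI Q k0) * (lift (hI Q l))⁻¹)
          (lift (hI Q l) * lift (uu Q 0 (w a c / (μ + 1))) * (lift (hI Q l))⁻¹)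
        simp only [map_mul, map_inv, hlift, hI_conj_uu, mul_zero] at this
        rw [hw]
        show C _ (uu Q 0 ((l : F) ^ (2 ^ (m + 1) + 1) * w a c / (μ + 1))) = _
        have hcom : hI Q l * hI Q k0 * (hI Q l)⁻¹ = hI Q k0 := by
          have : hHom Q l * hHom Q k0 = hHom Q k0 * hHom Q l := by rw [← map_mul, mul_comm, map_mul]
          rw [show hI Q l * hI Q k0 = hI Q k0 * hI Q l from this, mul_inv_cancel_right]
        rw [hcom, ← mul_div_assoc] at this
        rw [← this]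
        simp only [sec, C, commutatorElement_def]; group
      rw [h1, h2]; group
  -- conclusion
  have hN : ∀ g h : Γ, σ g ∈ uSub Q → σ h ∈ uSub Q → ∃ b, ⁅g, h⁆ = sec b := by
    intro g h hg hh
    obtain ⟨a, b, e⟩ := exists_uu Q hg
    obtain ⟨c, d, e'⟩ := exists_uu Q hh
    refine ⟨w a c, ?_⟩
    have h0 := eq_inv_of_mul_eq_one_left (hdev a c)
    rw [hsec_sq] at h0
    rw [hC, e, e', ← h0]
    have eg : uu Q a b = uu Q 0 b * uu Q a 0 := by rw [uu_mul]; simp [zero_pow (pow_ne_zero (m + 1) two_ne_zero)]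
    have eh : uu Q c d = uu Q 0 d * uu Q c 0 := by rw [uu_mul]; simp [zero_pow (pow_ne_zero (m + 1) two_ne_zero)]
    have q := hC (lift (uu Q 0 b) * lift (uu Q a 0)) (lift (uu Q 0 d) * lift (uu Q c 0))
    rw [map_mul, map_mul, hlift, hlift, hlift, hlift, ← eg, ← eh] at q
    rw [← q]
    have c1 : ∀ x c' d', lift (uu Q 0 x) * lift (uu Q c' d') = lift (uu Q c' d') * lift (uu Q 0 x) :=
      fun x c' d' => commutatorElement_eq_one_iff_mul_comm.mp (cz1 x c' d')
    set A := lift (uu Q a 0)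
    set B := lift (uu Q c 0)
    set P := lift (uu Q 0 b)
    set R := lift (uu Q 0 d)
    have p1 : P * A = A * P := c1 b a 0
    have p2 : P * B = B * P := c1 b c 0
    have p3 : P * R = R * P := c1 b 0 d
    have r1 : R * A = A * R := c1 d a 0
    have r2 : R * B = B * R := c1 d c 0
    show ⁅P * A, R * B⁆ = ⁅A, B⁆
    have hP : Commute P (A * B * A⁻¹ * B⁻¹) :=
      (((show Commute P A from p1).mul_right p2).mul_right (show Commute P A from p1).inv_right).mul_right
        (show Commute P B from p2).inv_right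
    have hR : Commute R (A * B * A⁻¹ * B⁻¹) :=
      (((show Commute R A from r1).mul_right r2).mul_right (show Commute R A from r1).inv_right).mul_right
        (show Commute R B from r2).inv_right
    rw [show ⁅P * A, R * B⁆ = P * (⁅A, R⁆ * (R * ⁅A, B⁆ * R⁻¹)) * P⁻¹ * (⁅P, R⁆ * (R * ⁅P, B⁆ * R⁻¹)) by
      simp only [commutatorElement_def]; group,
      commutatorElement_eq_one_iff_mul_comm.mpr r1.symm, commutatorElement_eq_one_iff_mul_comm.mpr p3,
      commutatorElement_eq_one_iff_mul_comm.mpr p2, mul_one, mul_inv_cancel, mul_one, mul_one, one_mul,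
      commutatorElement_def, hR.eq, mul_inv_cancel_right, hP.eq, mul_inv_cancel_right]
  let Nsub : Subgroup Γ :=
    { carrier := Set.range sec
      one_mem' := ⟨0, hsec0⟩
      mul_mem' := by rintro _ _ ⟨b, rfl⟩ ⟨b', rfl⟩; exact ⟨b + b', hsec_add b b'⟩
      inv_mem' := by rintro _ ⟨b, rfl⟩; exact ⟨b, (hsec_sq b).symm⟩ }
  have hle : ⁅(S : Subgroup Γ), (S : Subgroup Γ)⁆ ≤ Nsub := by
    rw [Subgroup.commutator_le]
    intro g hg h hh
    obtain ⟨b, hb⟩ := hN g h (hS ⟨g, hg, rfl⟩) (hS ⟨h, hh, rfl⟩)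
    exact ⟨b, hb.symm⟩
  obtain ⟨b, rfl⟩ := hle hzS
  have hb : b = 0 := (uu_inj Q ((hsecσ b).symm.trans ((MonoidHom.mem_ker.mp hz).trans (uu_zero Q).symm))).2
  rw [hb, hsec0]

/-- A stem extension of a Suzuki group has trivial kernel. -/
theorem ker_eq_bot (hm2 : 2 ≤ m) {Γ : Type*} [Group Γ] [Finite Γ] {σ : Γ →* Cfsg.Sz F m}
    (hσ : Cfsg.IsStemExtension σ) : σ.ker = ⊥ := by
  classical
  refine ker_eq_bot_of Q hσ fun X Y c0 b0 hX hY => ?_
  have hcen : ∀ w, σ w = 1 → ∀ g, g * w = w * g := fun w hw => Subgroup.mem_center_iff.mp (hσ.2.1 hw)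
  choose lift hlift using hσ.1
  -- the commutator of two lifts
  let C : Cfsg.Sz F m → Cfsg.Sz F m → Γ := fun g h => ⁅lift g, lift h⁆
  have hC : ∀ (g h : Γ), ⁅g, h⁆ = C (σ g) (σ h) := fun g h =>
    Cfsg.Lib.Schur.comm_congr σ hσ.2.1 (hlift _).symm (hlift _).symm
  have hker : ∀ g h, g * h = h * g → σ (C g h) = 1 := fun g h e => by
    simp only [C, map_commutatorElement, hlift]; exact commutatorElement_eq_one_iff_mul_comm.mpr e
  have mulL : ∀ g g' h, (σ (C g' h) = 1) → C (g * g') h = C g h * C g' h := by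
    intro g g' h hk
    have := hC (lift g * lift g') (lift h)
    rw [map_mul, hlift, hlift, hlift] at this
    rw [← this, show ⁅lift g * lift g', lift h⁆ = lift g * C g' h * (lift g)⁻¹ * C g h by
      simp only [C, commutatorElement_def]; group, hcen _ hk, mul_inv_cancel_right, hcen _ hk]
  have conj : ∀ (t g h : Cfsg.Sz F m), σ (C g h) = 1 → C (t * g * t⁻¹) (t * h * t⁻¹) = C g h := by
    intro t g h hk
    have := hC (lift t * lift g * (lift t)⁻¹) (lift t * lift h * (lift t)⁻¹)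
    simp only [map_mul, map_inv, hlift] at this
    rw [← this, show ⁅lift t * lift g * (lift t)⁻¹, lift t * lift h * (lift t)⁻¹⁆ = lift t * C g h * (lift t)⁻¹ by
      simp only [C, commutatorElement_def]; group, hcen _ hk, mul_inv_cancel_right]
  -- the central part commutes with the preimage
  have cz : ∀ b c d, uu Q 0 b * uu Q c d = uu Q c d * uu Q 0 b := fun b c d => by
    rw [uu_mul, uu_mul]
    simp [zero_pow (pow_ne_zero (m + 1) two_ne_zero), add_comm]
  have swap' : ∀ g h, C h g = (C g h)⁻¹ := fun g h => by simp only [C, commutatorElement_inv]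
  have mulR : ∀ g h h', σ (C g h') = 1 → σ (C g h) = 1 → C g (h * h') = C g h * C g h' := by
    intro g h h' hk hk'
    have e := mulL h h' g (by rw [swap', map_inv, hk, inv_one])
    rw [swap' g (h * h'), swap' g h, swap' g h', ← mul_inv_rev, inv_inj] at e
    rw [e, hcen _ hk']
  obtain ⟨x1, y1, hx1, hy1, hxy1, hne1⟩ := exists_pair_one Q
  obtain ⟨x2, y2, hx2, hy2, hxy2, hne2⟩ := exists_pair_s Q hm2
  have czz : ∀ b d, C (uu Q 0 b) (uu Q 0 d) = 1 := by
    refine pairing_trivial Q 1 hx1 hy1 hxy1 hne1 (fun b d => C (uu Q 0 b) (uu Q 0 d)) ?_ ?_ ?_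
    · intro a a' c
      rw [show uu Q 0 (a + a') = uu Q 0 a * uu Q 0 a' by rw [uu_mul]; simp]
      exact mulL _ _ _ (hker _ _ (cz _ _ _))
    · intro a c c'
      rw [show uu Q 0 (c + c') = uu Q 0 c * uu Q 0 c' by rw [uu_mul]; simp]
      exact mulR _ _ _ (hker _ _ (cz _ _ _)) (hker _ _ (cz _ _ _))
    · intro l a c
      obtain ⟨k, hk⟩ := exists_s1_root Q l
      have hk' : (k : F) ^ (2 ^ (m + 1) + 1) = (l : F) := by rw [← hk, Units.val_pow_eq_pow_val]
      have := conj (hI Q k) (uu Q 0 a) (uu Q 0 c) (hker _ _ (cz _ _ _))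
      simpa only [hI_conj_uu, mul_zero, hk', pow_one] using this
  have czc : ∀ c b, C (uu Q c 0) (uu Q 0 b) = 1 := by
    refine pairing_trivial Q (2 ^ (m + 1) + 1) hx2 hy2 hxy2 hne2 (fun c b => C (uu Q c 0) (uu Q 0 b)) ?_ ?_ ?_
    · intro a a' c
      have e : uu Q (a + a') 0 = uu Q 0 (a ^ (2 ^ (m + 1)) * a') * (uu Q a 0 * uu Q a' 0) := by
        rw [uu_mul, uu_mul]; simp [zero_pow (pow_ne_zero (m + 1) two_ne_zero), add_self Q]
      rw [e]
      have h1 := hker _ _ ((cz c a 0).symm)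
      have h2 := hker _ _ ((cz c a' 0).symm)
      rw [mulL _ _ _ (by rw [mulL _ _ _ h2, map_mul, h1, h2, one_mul]), czz, one_mul, mulL _ _ _ h2]
    · intro a c c'
      rw [show uu Q 0 (c + c') = uu Q 0 c * uu Q 0 c' by rw [uu_mul]; simp]
      exact mulR _ _ _ (hker _ _ ((cz _ _ _).symm)) (hker _ _ ((cz _ _ _).symm))
    · intro l a c
      have := conj (hI Q l) (uu Q a 0) (uu Q 0 c) (hker _ _ ((cz _ _ _).symm))
      rwa [hI_conj_uu, hI_conj_uu, mul_zero, mul_zero] at this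
  refine commutatorElement_eq_one_iff_mul_comm.mp ?_
  rw [hC, hX, hY, czc]

/-- The multiplier of a Suzuki group is trivial. -/
theorem multiplier_lie (hm2 : 2 ≤ m) :
    Cfsg.HasCyclicSchurMultiplier ↥(Cfsg.Lie.Sz F (2 ^ (m + 1))) 1 := by
  haveI : Finite ↥(Cfsg.Lie.Sz F (2 ^ (m + 1))) := Finite.of_equiv _ (lieEquiv Q).toEquiv
  refine Cfsg.Lib.Schur.hasCyclicSchurMultiplier_one_of fun Γ _ _ σ hσ => ?_
  let τ : Γ →* Cfsg.Sz F m := (lieEquiv Q).symm.toMonoidHom.comp σ
  have hk : τ.ker = σ.ker := by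
    ext x
    simp [τ, MonoidHom.mem_ker]
  rw [← hk]
  refine ker_eq_bot Q hm2 ⟨(lieEquiv Q).symm.surjective.comp hσ.1, ?_, ?_⟩
  · rw [hk]; exact hσ.2.1
  · rw [hk]; exact hσ.2.2

end Cfsg.Lib.Suz
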