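import Cfsg.Agent.Suz.Props

/-! The Sylow 2-subgroups of the Suzuki groups. -/

set_option autoImplicit false

open scoped commutatorElement Pointwise

namespace Cfsg.Lib.Suz

variable {F : Type*} [Field F] [Fintype F] {m : ℕ} (Q : Par F m)
include Q

/-- The unipotent subgroup. -/
def uSub : Subgroup (Cfsg.Sz F m) where
  carrier := {g | ∃ a b, g.1 = T m a b}
  one_mem' := ⟨0, 0, (T_zero Q).symm⟩
  mul_mem' := fun ⟨a, b, e⟩ ⟨c, d, e'⟩ => ⟨_, _, by rw [Subgroup.coe_mul, e, e', T_mul Q]⟩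
  inv_mem' := fun ⟨a, b, e⟩ => ⟨_, _, by rw [Subgroup.coe_inv, e, T_inv Q]⟩

/-- The unipotent element with parameters. -/
def uu (a b : F) : Cfsg.Sz F m := ⟨T m a b, T_mem Q a b⟩

theorem uu_mem (a b : F) : uu Q a b ∈ uSub Q := ⟨a, b, rfl⟩

theorem exists_uu {g : Cfsg.Sz F m} (hg : g ∈ uSub Q) : ∃ a b, g = uu Q a b := by
  obtain ⟨a, b, e⟩ := hg
  exact ⟨a, b, Subtype.ext e⟩

theorem uu_mul (a b c d : F) : uu Q a b * uu Q c d = uu Q (a + c) (b + d + a ^ (2 ^ (m + 1)) * c) :=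
  Subtype.ext (T_mul Q a b c d)

theorem uu_inj {a b c d : F} (h : uu Q a b = uu Q c d) : a = c ∧ b = d := T_inj Q (congrArg Subtype.val h)

theorem uu_zero : uu Q (0 : F) 0 = 1 := Subtype.ext (T_zero Q)

theorem uu_sq (a b : F) : uu Q a b ^ 2 = uu Q 0 (a ^ (2 ^ (m + 1) + 1)) := by
  rw [pow_two, uu_mul, add_self Q a, add_self Q b, zero_add, ← pow_succ]

theorem uu_four (a b : F) : uu Q a b ^ 4 = 1 := by
  refine (pow_mul (uu Q a b) 2 2).trans ?_
  rw [uu_sq, uu_sq, zero_pow (Nat.succ_ne_zero _), uu_zero]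

theorem card_uSub : Nat.card (uSub Q) = (2 ^ (2 * m + 1)) ^ 2 := by
  rw [← Nat.card_eq_of_bijective (fun p : F × F => (⟨uu Q p.1 p.2, uu_mem Q _ _⟩ : uSub Q))
    ⟨fun p r h => by
      obtain ⟨h1, h2⟩ := uu_inj Q (congrArg Subtype.val h)
      exact Prod.ext h1 h2, fun g => by
      obtain ⟨a, b, e⟩ := exists_uu Q g.2
      exact ⟨(a, b), Subtype.ext e.symm⟩⟩, Nat.card_prod, Nat.card_eq_fintype_card, Q.hF, pow_two]

theorem not_dvd_index : ¬ 2 ∣ (uSub Q).index := by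
  have h := (uSub Q).card_mul_index
  rw [card_Sz Q, card_uSub Q, mul_assoc] at h
  have h' := Nat.eq_of_mul_eq_mul_left (pow_pos (pow_pos two_pos _) _) h
  rw [h']
  have h1 : ¬ 2 ∣ (2 ^ (2 * m + 1)) ^ 2 + 1 := by
    rw [← pow_mul, show (2 * m + 1) * 2 = (4 * m + 1) + 1 by ring, pow_succ]; omega
  have h2 : ¬ 2 ∣ 2 ^ (2 * m + 1) - 1 := by
    rw [pow_succ]
    have : 0 < 2 ^ (2 * m) := pow_pos two_pos _
    omega
  exact fun hd => ((Nat.Prime.dvd_mul Nat.prime_two).1 hd).elim h1 h2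

theorem isPGroup_uSub : IsPGroup 2 (uSub Q) :=
  IsPGroup.of_card (n := (2 * m + 1) * 2) (by rw [card_uSub, ← pow_mul])

/-- The unipotent subgroup as a Sylow subgroup. -/
noncomputable def syl : Sylow 2 (Cfsg.Sz F m) :=
  haveI : Fact (Nat.Prime 2) := ⟨Nat.prime_two⟩
  (isPGroup_uSub Q).toSylow (not_dvd_index Q)

theorem syl_coe : (syl Q : Subgroup (Cfsg.Sz F m)) = uSub Q := rfl

theorem exists_conj (P : Sylow 2 (Cfsg.Sz F m)) :
    ∃ c : Cfsg.Sz F m, ∀ x, x ∈ (P : Subgroup (Cfsg.Sz F m)) ↔ c * x * c⁻¹ ∈ uSub Q := by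
  have : Fact (Nat.Prime 2) := ⟨Nat.prime_two⟩
  obtain ⟨c, hc⟩ := MulAction.exists_smul_eq (Cfsg.Sz F m) P (syl Q)
  refine ⟨c, fun x => ?_⟩
  rw [← syl_coe, ← hc, Sylow.coe_subgroup_smul, Subgroup.mem_pointwise_smul_iff_inv_smul_mem]
  show x ∈ (P : Subgroup (Cfsg.Sz F m)) ↔ (MulAut.conj c)⁻¹ (c * x * c⁻¹) ∈ (P : Subgroup (Cfsg.Sz F m))
  rw [← map_inv, MulAut.conj_apply]
  simp [mul_assoc]

theorem fixes_only {a b : F} (h : ¬(a = 0 ∧ b = 0)) {p : Projectivization F (Fin 4 → F)}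
    (hp : p ∈ Cfsg.suzukiOvoid F m) (hfix : T m a b • p = p) : p = Cfsg.suzukiPointInfinity F := by
  rcases mem_ovoid_iff.1 hp with rfl | ⟨x, y, rfl⟩
  · rfl
  · exfalso
    rw [T_pt Q] at hfix
    obtain ⟨h1, h2⟩ := pt_inj hfix
    have ha : a = 0 := add_eq_left.1 h1
    subst ha
    exact h ⟨rfl, by simpa [zero_pow (pow_ne_zero (m + 1) two_ne_zero)] using h2⟩

theorem ti {x g : Cfsg.Sz F m} (hx : x ∈ uSub Q) (hx1 : x ≠ 1) (h : g * x * g⁻¹ ∈ uSub Q) :
    g.1 • Cfsg.suzukiPointInfinity F = Cfsg.suzukiPointInfinity F := by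
  obtain ⟨a, b, rfl⟩ := exists_uu Q hx
  obtain ⟨c, d, e⟩ := h
  have hne : ¬(c = 0 ∧ d = 0) := fun ⟨hc, hd⟩ => hx1 (by
    rw [hc, hd, T_zero Q] at e
    have e' : g * uu Q a b * g⁻¹ = 1 := Subtype.ext e
    rw [mul_inv_eq_one, mul_eq_left] at e'
    exact e')
  refine fixes_only Q hne (smul_ovoid Q g.2 (inf_mem m)) ?_
  rw [← e]
  show (g.1 * T m a b * g.1⁻¹) • g.1 • Cfsg.suzukiPointInfinity F = _
  rw [mul_smul, mul_smul, inv_smul_smul, T_inf]

theorem normalizer_uSub :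
    Subgroup.normalizer (uSub Q : Set (Cfsg.Sz F m)) =
      MulAction.stabilizer (Cfsg.Sz F m) (Cfsg.suzukiPointInfinity F) := by
  refine le_antisymm (fun g hg => ?_) (fun g hg => ?_)
  · refine ti Q (uu_mem Q 1 0) (fun h => ?_) ((Subgroup.mem_normalizer_iff.1 hg _).1 (uu_mem Q 1 0))
    rw [← uu_zero Q] at h
    exact one_ne_zero (uu_inj Q h).1
  · obtain ⟨a, b, k, e⟩ := stab_inf Q g.2 hg
    let hk : Cfsg.Sz F m := ⟨H m k, H_mem Q k⟩
    have eg : g = uu Q a b * hk := Subtype.ext e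
    rw [eg]
    refine mul_mem (Subgroup.le_normalizer (uu_mem Q a b)) ?_
    have key : ∀ (k : Fˣ) (x : Cfsg.Sz F m), x ∈ uSub Q →
        (⟨H m k, H_mem Q k⟩ : Cfsg.Sz F m) * x * (⟨H m k, H_mem Q k⟩ : Cfsg.Sz F m)⁻¹ ∈ uSub Q := fun k x hx => by
      obtain ⟨c, d, rfl⟩ := exists_uu Q hx
      exact ⟨_, _, H_conj_T Q k c d⟩
    rw [Subgroup.mem_normalizer_iff]
    refine fun x => ⟨key k x, fun hx => ?_⟩
    have h2 := key k⁻¹ _ hx
    have e2 : (⟨H m k⁻¹, H_mem Q k⁻¹⟩ : Cfsg.Sz F m) * hk = 1 := Subtype.ext (by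
      show H m k⁻¹ * H m k = 1
      rw [← H_mul Q, inv_mul_cancel, H_one Q])
    have e3 : (⟨H m k⁻¹, H_mem Q k⁻¹⟩ : Cfsg.Sz F m) = hk⁻¹ := eq_inv_of_mul_eq_one_left e2
    rw [e3] at h2
    simpa [hk, mul_assoc] using h2

theorem exists_s_ne : ∃ c : F, c ^ (2 ^ (m + 1)) ≠ c := by
  obtain ⟨k, hk⟩ := exists_unit_ne_one Q
  refine ⟨k, fun h => ?_⟩
  have h2 := pow_ss Q (k : F)
  rw [h, h, pow_two] at h2
  exact hk (Units.ext ((mul_eq_left₀ k.ne_zero).1 h2.symm))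

theorem s_fixed {c : F} (h : c ^ (2 ^ (m + 1)) = c) : c = 0 ∨ c = 1 := by
  have h2 := pow_ss Q c
  rw [h, h, pow_two] at h2
  rcases eq_or_ne c 0 with hc | hc
  · exact Or.inl hc
  · exact Or.inr ((mul_eq_left₀ hc).1 h2.symm)

/-- Scaling by `σ + 1` powers is surjective. -/
theorem exists_s1_root (c : Fˣ) : ∃ k : Fˣ, k ^ (2 ^ (m + 1) + 1) = c := by
  let f : Fˣ →* Fˣ := powMonoidHom (2 ^ (m + 1) + 1)
  have hf : Function.Injective f := (injective_iff_map_eq_one f).2 fun k hk => units_s1 Q (by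
    have := congrArg Units.val hk
    simpa [f] using this)
  exact (Finite.injective_iff_surjective.1 hf) c

theorem mem_center_iff {a b : F} :
    (⟨uu Q a b, uu_mem Q a b⟩ : uSub Q) ∈ Subgroup.center (uSub Q) ↔ a = 0 := by
  constructor
  · intro h
    have hc : ∀ c : F, a ^ (2 ^ (m + 1)) * c = c ^ (2 ^ (m + 1)) * a := fun c => by
      have h1 := congrArg Subtype.val ((Subgroup.mem_center_iff.1 h) ⟨uu Q c 0, uu_mem Q c 0⟩)
      rw [Subgroup.coe_mul, Subgroup.coe_mul, uu_mul, uu_mul] at h1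
      have h2 := (uu_inj Q h1).2
      rw [zero_add, add_zero] at h2
      exact (add_left_cancel h2).symm
    by_contra ha
    obtain ⟨c, hc'⟩ := exists_s_ne Q
    have h1 := hc 1
    simp only [mul_one, one_pow, one_mul] at h1
    have h2 := hc c
    rw [h1, mul_comm] at h2
    exact hc' (mul_right_cancel₀ ha h2).symm
  · rintro rfl
    refine Subgroup.mem_center_iff.2 fun g => ?_
    obtain ⟨c, d, e⟩ := exists_uu Q g.2
    refine Subtype.ext ?_
    rw [Subgroup.coe_mul, Subgroup.coe_mul, e, uu_mul, uu_mul]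
    simp [zero_pow (pow_ne_zero (m + 1) two_ne_zero), add_comm]

theorem center_eq : Subgroup.center (uSub Q) = commutator (uSub Q) ∧
    Nat.card (Subgroup.center (uSub Q)) = 2 ^ (2 * m + 1) := by
  constructor
  · refine le_antisymm ?_ ?_
    · intro x hx
      obtain ⟨a, b, e⟩ := exists_uu Q x.2
      obtain rfl : x = ⟨uu Q a b, uu_mem Q a b⟩ := Subtype.ext e
      obtain rfl := (mem_center_iff Q).1 hx
      obtain ⟨c, hc⟩ := exists_s_ne Q
      have hw : c + c ^ (2 ^ (m + 1)) ≠ 0 := fun h => hc ((eq_neg_of_add_eq_zero_right h).trans (neg_eq Q c))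
      rcases eq_or_ne b 0 with rfl | hb
      · exact (commutator (uSub Q)).one_mem |> fun h => by
          convert h using 1; exact Subtype.ext (uu_zero Q)
      obtain ⟨k, hk⟩ := exists_s1_root Q (Units.mk0 (b / (c + c ^ (2 ^ (m + 1)))) (div_ne_zero hb hw))
      have hk' : (k : F) ^ (2 ^ (m + 1) + 1) * (c + c ^ (2 ^ (m + 1))) = b := by
        have := congrArg Units.val hk
        rw [Units.val_pow_eq_pow_val, Units.val_mk0] at this
        rw [this, div_mul_cancel₀ _ hw]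
      have hcomm : ⁅(⟨uu Q (k : F) 0, uu_mem Q _ _⟩ : uSub Q), (⟨uu Q ((k : F) * c) 0, uu_mem Q _ _⟩ : uSub Q)⁆ ∈
          commutator (uSub Q) := by
        rw [commutator_def]
        exact Subgroup.commutator_mem_commutator (Subgroup.mem_top _) (Subgroup.mem_top _)
      convert hcomm using 1
      rw [commutatorElement_def, eq_mul_inv_iff_mul_eq, eq_mul_inv_iff_mul_eq]
      refine Subtype.ext ?_
      simp only [Subgroup.coe_mul]
      rw [uu_mul, uu_mul, uu_mul]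
      have := charP Q
      have h2 : (2 : F) = 0 := CharP.cast_eq_zero F 2
      congr 1
      · ring
      · simp only [add_zero, zero_add, zero_pow (pow_ne_zero (m + 1) two_ne_zero), zero_mul, mul_pow, mul_one]
        rw [← hk', pow_succ]
        linear_combination ((k : F) ^ (2 ^ (m + 1)) * (k : F) * c ^ (2 ^ (m + 1))) * h2
    · rw [commutator_def, Subgroup.commutator_le]
      intro x _ y _
      obtain ⟨a, b, e⟩ := exists_uu Q x.2
      obtain ⟨c, d, e'⟩ := exists_uu Q y.2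
      obtain ⟨u, v, e''⟩ := exists_uu Q (⁅x, y⁆ : uSub Q).2
      obtain h : ⁅x, y⁆ = ⟨uu Q u v, uu_mem Q u v⟩ := Subtype.ext e''
      rw [h]
      refine (mem_center_iff Q).2 ?_
      have h3 := congrArg Subtype.val (show ⁅x, y⁆ * (y * x) = x * y by rw [commutatorElement_def]; group)
      rw [Subgroup.coe_mul, Subgroup.coe_mul, Subgroup.coe_mul, e'', e, e', uu_mul, uu_mul, uu_mul] at h3
      have h4 := (uu_inj Q h3).1
      linear_combination h4
  · let f : F → Subgroup.center (uSub Q) := fun b => ⟨⟨uu Q 0 b, uu_mem Q 0 b⟩, (mem_center_iff Q).2 rfl⟩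
    rw [← Nat.card_eq_of_bijective f ⟨fun b b' h => (uu_inj Q (congrArg (fun z => z.1.1) h)).2, fun x => ?_⟩,
      Nat.card_eq_fintype_card, Q.hF]
    obtain ⟨a, b, e⟩ := exists_uu Q x.1.2
    have hx : x.1 = ⟨uu Q a b, uu_mem Q a b⟩ := Subtype.ext e
    obtain rfl := (mem_center_iff Q).1 (hx ▸ x.2)
    exact ⟨b, Subtype.ext hx.symm⟩

theorem exponent_eq : Monoid.exponent (uSub Q) = 4 := by
  have h4 : Monoid.exponent (uSub Q) ∣ 2 ^ 2 := by
    refine Monoid.exponent_dvd_of_forall_pow_eq_one fun x => ?_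
    obtain ⟨a, b, e⟩ := exists_uu Q x.2
    exact Subtype.ext (by rw [SubmonoidClass.coe_pow, e]; exact uu_four Q a b)
  obtain ⟨i, hi, e⟩ := (Nat.dvd_prime_pow Nat.prime_two).1 h4
  have h := Monoid.pow_exponent_eq_one (⟨uu Q 1 0, uu_mem Q 1 0⟩ : uSub Q)
  rw [e] at h ⊢
  have h' := congrArg Subtype.val h
  rw [SubmonoidClass.coe_pow, OneMemClass.coe_one] at h'
  interval_cases i
  · rw [pow_zero, pow_one, ← uu_zero Q] at h'
    exact absurd (uu_inj Q h').1 one_ne_zero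
  · rw [pow_one, uu_sq, one_pow, ← uu_zero Q] at h'
    exact absurd (uu_inj Q h').2 one_ne_zero
  · rfl

theorem sylow_props (P : Sylow 2 (Cfsg.Sz F m)) :
    Nat.card P = (2 ^ (2 * m + 1)) ^ 2 ∧ Monoid.exponent P = 4 ∧
      Subgroup.center P = commutator P ∧ Nat.card (Subgroup.center P) = 2 ^ (2 * m + 1) := by
  have : Fact (Nat.Prime 2) := ⟨Nat.prime_two⟩
  have e : P ≃* uSub Q := P.equiv (syl Q)
  obtain ⟨h1, h2⟩ := center_eq Q
  refine ⟨(Nat.card_congr e.toEquiv).trans (card_uSub Q), (Monoid.exponent_eq_of_mulEquiv e).trans (exponent_eq Q),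
    ?_, (Nat.card_congr (Subgroup.centerCongr e).toEquiv).trans h2⟩
  refine Subgroup.map_injective (f := e.toMonoidHom) e.injective ?_
  rw [commutator_def (G := ↥(P : Subgroup (Cfsg.Sz F m))), Subgroup.map_commutator, Subgroup.map_top_of_surjective _ e.surjective, ← commutator_def, ← h1]
  ext x
  simp only [Subgroup.mem_map, Subgroup.mem_center_iff, MulEquiv.coe_toMonoidHom]
  refine ⟨?_, fun hx => ⟨e.symm x, fun g => e.injective ?_, e.apply_symm_apply x⟩⟩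
  · rintro ⟨y, hy, rfl⟩ g
    obtain ⟨g', rfl⟩ := e.surjective g
    rw [← map_mul, ← map_mul, hy g']
  · rw [map_mul, map_mul, e.apply_symm_apply]
    exact hx (e g)

theorem real_iff (P : Sylow 2 (Cfsg.Sz F m)) (g : Cfsg.Sz F m) (hg : g ∈ (P : Subgroup (Cfsg.Sz F m))) (h1 : g ≠ 1) :
    IsConj g g⁻¹ ↔ orderOf g = 2 := by
  have : Fact (Nat.Prime 2) := ⟨Nat.prime_two⟩
  constructor
  swap
  · intro h
    have : g⁻¹ = g := inv_eq_of_mul_eq_one_right (by rw [← pow_two, ← h, pow_orderOf_eq_one])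
    rw [this]
  intro hconj
  obtain ⟨c, hc⟩ := exists_conj Q P
  obtain ⟨d, hd⟩ := isConj_iff.1 hconj
  refine orderOf_eq_prime ?_ h1
  have hx := (hc g).1 hg
  set x := c * g * c⁻¹ with hxdef
  have hx1 : x ≠ 1 := fun h => h1 (by rw [hxdef, mul_inv_eq_one, mul_eq_left] at h; exact h)
  set z := c * d * c⁻¹ with hzdef
  have hz : z * x * z⁻¹ = x⁻¹ := by
    rw [hzdef, hxdef, show c * d * c⁻¹ * (c * g * c⁻¹) * (c * d * c⁻¹)⁻¹ = c * (d * g * d⁻¹) * c⁻¹ by group, hd]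
    group
  have hst := ti Q hx hx1 (g := z) (by rw [hz]; exact (uSub Q).inv_mem hx)
  obtain ⟨u, v, k, ez⟩ := stab_inf Q z.2 hst
  obtain ⟨a, b, ex⟩ := exists_uu Q hx
  have hgx : g = c⁻¹ * x * c := by rw [hxdef]; group
  suffices ha : a = 0 by
    rw [hgx, ex, ha, show (c⁻¹ * uu Q 0 b * c) ^ 2 = c⁻¹ * uu Q 0 b ^ 2 * c by rw [pow_two, pow_two]; group,
      uu_sq, zero_pow (Nat.succ_ne_zero _), uu_zero]
    group
  have h3' : z * x = x⁻¹ * z := by rw [← hz, inv_mul_cancel_right]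
  have h3 : z.1 * x.1 = x⁻¹.1 * z.1 := by rw [← Subgroup.coe_mul, h3', Subgroup.coe_mul]
  rw [ez, ex, Subgroup.coe_inv, show (uu Q a b).1 = T m a b from rfl, T_inv Q, mul_assoc,
    show H m k * T m a b = T m ((k : F) * a) ((k : F) ^ (2 ^ (m + 1) + 1) * b) * H m k by
      rw [← H_conj_T Q, inv_mul_cancel_right], ← mul_assoc, ← mul_assoc, T_mul Q, T_mul Q] at h3
  obtain ⟨e1, e2⟩ := T_inj Q (mul_right_cancel h3)
  by_contra ha
  have hk : k = 1 := Units.ext ((mul_eq_right₀ ha).1 (show (k : F) * a = a by linear_combination e1))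
  subst hk
  simp only [Units.val_one, one_mul, one_pow] at e2
  set w := u / a with hw
  have hu : u = w * a := (div_mul_cancel₀ u ha).symm
  rw [hu, mul_pow, pow_succ] at e2
  refine no_fix Q w ?_
  have hne : a ^ (2 ^ (m + 1)) * a ≠ 0 := mul_ne_zero (pow_ne_zero _ ha) ha
  refine mul_right_cancel₀ hne ?_
  linear_combination e2

theorem maximal (P : Sylow 2 (Cfsg.Sz F m)) :
    IsCoatom (Subgroup.normalizer ((P : Subgroup (Cfsg.Sz F m)) : Set (Cfsg.Sz F m))) ∧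
    ∀ M : Subgroup (Cfsg.Sz F m), IsCoatom M → (P : Subgroup (Cfsg.Sz F m)) ≤ M →
      M = Subgroup.normalizer ((P : Subgroup (Cfsg.Sz F m)) : Set (Cfsg.Sz F m)) := by
  set S := MulAction.stabilizer (Cfsg.Sz F m) (Cfsg.suzukiPointInfinity F) with hS
  have huS : uSub Q ≤ S := fun x hx => by
    obtain ⟨a, b, rfl⟩ := exists_uu Q hx
    exact T_inf m a b
  -- a subgroup containing `U` and moving the distinguished point is everything
  have big : ∀ M : Subgroup (Cfsg.Sz F m), uSub Q ≤ M → ¬ M ≤ S → M = ⊤ := by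
    intro M hUM hMS
    obtain ⟨g, hgM, hgS⟩ := SetLike.not_le_iff_exists.1 hMS
    obtain ⟨z, hzM, hz1, hz0⟩ : ∃ z ∈ M, z.1 • Cfsg.suzukiPointInfinity F = pt m (0 : F) 0 ∧
        z.1 • pt m (0 : F) 0 = Cfsg.suzukiPointInfinity F := by
      rcases mem_ovoid_iff.1 (smul_ovoid Q g.2 (inf_mem m)) with h | ⟨x, y, h⟩
      · exact absurd h hgS
      set g1 := (uu Q x y)⁻¹ * g with hg1
      have hg1M : g1 ∈ M := M.mul_mem (M.inv_mem (hUM (uu_mem Q x y))) hgM
      have hg1i : g1.1 • Cfsg.suzukiPointInfinity F = pt m (0 : F) 0 := by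
        show ((T m x y)⁻¹ * g.1) • _ = _
        rw [mul_smul, h, inv_smul_eq_iff, T_pt Q]
        simp [zero_pow (pow_ne_zero (m + 1) two_ne_zero)]
      rcases mem_ovoid_iff.1 (smul_ovoid Q (inv_mem g1.2) (inf_mem m)) with h' | ⟨x', y', h'⟩
      · rw [inv_smul_eq_iff, hg1i] at h'
        exact absurd h'.symm (pt_ne_inf m 0 0)
      · refine ⟨g1 * uu Q x' y', M.mul_mem hg1M (hUM (uu_mem Q _ _)), ?_, ?_⟩
        · show (g1.1 * T m x' y') • _ = _
          rw [mul_smul, T_inf, hg1i]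
        · show (g1.1 * T m x' y') • _ = _
          rw [mul_smul, T_pt Q]
          simp only [zero_add, mul_zero]
          rw [← h', smul_inv_smul]
    obtain ⟨k, hk⟩ := stab_pair Q (g := W F * z.1) (mul_mem (W_mem Q) z.2) (by rw [mul_smul, hz1, W_zero])
      (by rw [mul_smul, hz0, W_inf m])
    have hz : z.1 = W F * H m k := by rw [← hk, ← mul_assoc, W_sq Q, one_mul]
    let N := Subgroup.closure ((uSub Q : Set (Cfsg.Sz F m)) ∪ (fun x => z * x * z⁻¹) '' (uSub Q : Set (Cfsg.Sz F m)))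
    have hNM : N ≤ M := (Subgroup.closure_le M).2 (by
      rintro x (hx | ⟨y, hy, rfl⟩)
      exacts [hUM hx, M.mul_mem (M.mul_mem hzM (hUM hy)) (M.inv_mem hzM)])
    let w : Cfsg.Sz F m := ⟨W F, W_mem Q⟩
    let hk' : Fˣ → Cfsg.Sz F m := fun k => ⟨H m k, H_mem Q k⟩
    have hwU : ∀ x ∈ uSub Q, w * x * w⁻¹ ∈ N := fun x hx => by
      have h2 : (hk' k)⁻¹ * x * hk' k ∈ uSub Q := by
        have hmem : (hk' k)⁻¹ ∈ Subgroup.normalizer (uSub Q : Set (Cfsg.Sz F m)) := by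
          rw [normalizer_uSub Q]; exact Subgroup.inv_mem _ (H_inf m k)
        simpa using (Subgroup.mem_normalizer_iff.1 hmem x).1 hx
      refine Subgroup.subset_closure (Or.inr ⟨_, h2, ?_⟩)
      have : z = w * hk' k := Subtype.ext hz
      simp only [this]
      group
    have hnorm : ∀ g : Cfsg.Sz F m, ∀ x ∈ N, g * x * g⁻¹ ∈ N := by
      have hw : ∀ x ∈ N, w * x * w⁻¹ ∈ N := fun x hx => by
        refine (Subgroup.closure_le (N.comap (MulAut.conj w).toMonoidHom)).2 ?_ hx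
        rintro y (hy | ⟨y, hy, rfl⟩)
        · exact hwU y hy
        · show w * (z * y * z⁻¹) * w⁻¹ ∈ N
          have hz' : z = w * hk' k := Subtype.ext hz
          have hww : w * w = 1 := Subtype.ext (W_sq Q)
          rw [show w * (z * y * z⁻¹) * w⁻¹ = (w * z) * y * (w * z)⁻¹ by group, hz', ← mul_assoc, hww, one_mul]
          refine Subgroup.subset_closure (Or.inl ?_)
          exact (Subgroup.mem_normalizer_iff.1 (show hk' k ∈ Subgroup.normalizer (uSub Q : Set (Cfsg.Sz F m)) by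
            rw [normalizer_uSub Q]; exact H_inf m k) y).1 hy
      have hh : ∀ l, ∀ x ∈ N, hk' l * x * (hk' l)⁻¹ ∈ N := fun l x hx => by
        have hin : ∀ y ∈ uSub Q, hk' l * y * (hk' l)⁻¹ ∈ uSub Q := fun y hy =>
          (Subgroup.mem_normalizer_iff.1 (show hk' l ∈ Subgroup.normalizer (uSub Q : Set (Cfsg.Sz F m)) by
            rw [normalizer_uSub Q]; exact H_inf m l) y).1 hy
        refine (Subgroup.closure_le (N.comap (MulAut.conj (hk' l)).toMonoidHom)).2 ?_ hx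
        rintro y (hy | ⟨y, hy, rfl⟩)
        · exact Subgroup.subset_closure (Or.inl (hin y hy))
        · show hk' l * (z * y * z⁻¹) * (hk' l)⁻¹ ∈ N
          refine Subgroup.subset_closure (Or.inr ⟨z⁻¹ * hk' l * z * y * (z⁻¹ * hk' l * z)⁻¹, ?_, by group⟩)
          refine (Subgroup.mem_normalizer_iff.1 ?_ y).1 hy
          rw [normalizer_uSub Q]
          show (z.1⁻¹ * H m l * z.1) • Cfsg.suzukiPointInfinity F = Cfsg.suzukiPointInfinity F
          rw [mul_smul, mul_smul, hz1, H_pt Q, mul_zero, mul_zero, inv_smul_eq_iff, hz1]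
      intro g x hx
      obtain ⟨g, hg⟩ := g
      let S' : Submonoid (SL4 F) :=
        { carrier := {g | ∃ h : g ∈ Cfsg.Sz F m, ∀ x ∈ N, (⟨g, h⟩ : Cfsg.Sz F m) * x * (⟨g, h⟩ : Cfsg.Sz F m)⁻¹ ∈ N}
          one_mem' := ⟨one_mem _, fun x hx => by
            have e : (⟨1, one_mem _⟩ : Cfsg.Sz F m) = 1 := rfl
            rw [e, one_mul, inv_one, mul_one]
            exact hx⟩
          mul_mem' := fun {a b} ⟨ha, ha'⟩ ⟨hb, hb'⟩ => ⟨mul_mem ha hb, fun x hx => by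
            have := ha' _ (hb' x hx)
            rwa [show (⟨a * b, mul_mem ha hb⟩ : Cfsg.Sz F m) = ⟨a, ha⟩ * ⟨b, hb⟩ from rfl, mul_inv_rev,
              show (⟨a, ha⟩ : Cfsg.Sz F m) * ⟨b, hb⟩ * x * ((⟨b, hb⟩ : Cfsg.Sz F m)⁻¹ * (⟨a, ha⟩ : Cfsg.Sz F m)⁻¹) =
                ⟨a, ha⟩ * ((⟨b, hb⟩ : Cfsg.Sz F m) * x * (⟨b, hb⟩ : Cfsg.Sz F m)⁻¹) * (⟨a, ha⟩ : Cfsg.Sz F m)⁻¹ by group]⟩ }
      have hT : ∀ a b, T m a b ∈ S' := fun a b => ⟨T_mem Q a b, fun x hx =>
        N.mul_mem (N.mul_mem (Subgroup.subset_closure (Or.inl (uu_mem Q a b))) hx)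
          (N.inv_mem (Subgroup.subset_closure (Or.inl (uu_mem Q a b))))⟩
      have hgS : g ∈ S' := by
        rcases elt_cases Q hg with ⟨a, b, l, rfl⟩ | ⟨a, b, c, d, l, rfl⟩
        · exact S'.mul_mem (hT a b) ⟨H_mem Q l, hh l⟩
        · exact S'.mul_mem (S'.mul_mem (hT a b) ⟨W_mem Q, hw⟩) (S'.mul_mem (hT c d) ⟨H_mem Q l, hh l⟩)
      exact hgS.2 x hx
    have hNn : N.Normal := ⟨fun x hx g => hnorm g x hx⟩
    have := simple Q
    rcases hNn.eq_bot_or_eq_top with h | h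
    · exfalso
      have : uu Q (1 : F) 0 ∈ N := Subgroup.subset_closure (Or.inl (uu_mem Q 1 0))
      rw [h, Subgroup.mem_bot, ← uu_zero Q] at this
      exact one_ne_zero (uu_inj Q this).1
    · exact top_le_iff.1 (h ▸ hNM)
  have hSU : IsCoatom S := by
    refine ⟨fun h => ?_, fun M hM => big M (huS.trans hM.le) (not_le_of_gt hM)⟩
    have hw : (⟨W F, W_mem Q⟩ : Cfsg.Sz F m) ∈ S := h ▸ Subgroup.mem_top _
    have : W F • Cfsg.suzukiPointInfinity F = Cfsg.suzukiPointInfinity F := hw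
    rw [W_inf m] at this
    exact pt_ne_inf m 0 0 this
  obtain ⟨c, hc⟩ := exists_conj Q P
  let e := (MulAut.conj c).mapSubgroup
  have heP : e (P : Subgroup (Cfsg.Sz F m)) = uSub Q := by
    ext x
    show x ∈ (P : Subgroup (Cfsg.Sz F m)).map (MulAut.conj c).toMonoidHom ↔ x ∈ uSub Q
    rw [Subgroup.mem_map_equiv, hc]
    simp [mul_assoc]
  have heN : e (Subgroup.normalizer ((P : Subgroup (Cfsg.Sz F m)) : Set (Cfsg.Sz F m))) = S := by
    rw [hS, ← normalizer_uSub Q, ← heP]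
    exact Subgroup.map_equiv_normalizer_eq _ _
  refine ⟨e.isCoatom_iff _ |>.1 (heN ▸ hSU), fun M hM hPM => ?_⟩
  have h1 : IsCoatom (e M) := (e.isCoatom_iff _).2 hM
  have h2 : e M ≤ S := by
    by_contra h
    exact h1.1 (big _ (heP ▸ e.monotone hPM) h)
  refine e.injective ?_
  rw [heN]
  exact ((h1.le_iff).1 h2).resolve_left hSU.1 |>.symm

end Cfsg.Lib.Suz
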