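import Cfsg.Agent.Suz.Partition
import Cfsg.Prelude.Def_Transfer

/-! Two generators and trivial-intersection elementary abelian subgroups of the Suzuki groups. -/

set_option autoImplicit false

namespace Cfsg.Lib.Suz

variable {F : Type*} [Field F] [Fintype F] {m : ℕ} (Q : Par F m)
include Q

theorem hI_conj_uu (k : Fˣ) (a b : F) :
    hI Q k * uu Q a b * (hI Q k)⁻¹ = uu Q ((k : F) * a) ((k : F) ^ (2 ^ (m + 1) + 1) * b) :=
  Subtype.ext (H_conj_T Q k a b)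

theorem uSub_le_of {K : Subgroup (Cfsg.Sz F m)} (hH : ∀ k, hI Q k ∈ K) {x y : F} (hx : x ≠ 0)
    (hxy : uu Q x y ∈ K) : uSub Q ≤ K := by
  have hc : ∀ k : Fˣ, uu Q ((k : F) * x) ((k : F) ^ (2 ^ (m + 1) + 1) * y) ∈ K := fun k => by
    rw [← hI_conj_uu]; exact K.mul_mem (K.mul_mem (hH k) hxy) (K.inv_mem (hH k))
  have hz : ∀ b, uu Q 0 b ∈ K := fun b => by
    rcases eq_or_ne b 0 with rfl | hb
    · rw [uu_zero]; exact K.one_mem
    obtain ⟨k, hk⟩ := exists_s1_root Q (Units.mk0 (b / x ^ (2 ^ (m + 1) + 1)) (div_ne_zero hb (pow_ne_zero _ hx)))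
    have hk' := congrArg Units.val hk
    rw [Units.val_pow_eq_pow_val, Units.val_mk0] at hk'
    have h := K.mul_mem (hc k) (hc k)
    rwa [← pow_two, uu_sq, mul_pow, hk', div_mul_cancel₀ _ (pow_ne_zero _ hx)] at h
  intro g hg
  obtain ⟨a, b, rfl⟩ := exists_uu Q hg
  rcases eq_or_ne a 0 with rfl | ha
  · exact hz b
  set k : Fˣ := Units.mk0 (a / x) (div_ne_zero ha hx)
  have hk : (k : F) * x = a := div_mul_cancel₀ _ hx
  have h := K.mul_mem (hc k) (hz (b + (k : F) ^ (2 ^ (m + 1) + 1) * y))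
  rw [uu_mul, hk, add_zero, mul_zero, add_zero] at h
  convert h using 2
  linear_combination -(add_self Q ((k : F) ^ (2 ^ (m + 1) + 1) * y))

theorem two_gen : ∃ a b : Cfsg.Sz F m, Subgroup.closure ({a, b} : Set (Cfsg.Sz F m)) = ⊤ := by
  obtain ⟨k0, hk0⟩ := IsCyclic.exists_generator (α := Fˣ)
  let w : Cfsg.Sz F m := ⟨W F, W_mem Q⟩
  let a := hI Q k0
  let b := w * uu Q 1 0
  refine ⟨a, b, ?_⟩
  set K := Subgroup.closure ({a, b} : Set (Cfsg.Sz F m))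
  have haK : a ∈ K := Subgroup.subset_closure (Set.mem_insert _ _)
  have hbK : b ∈ K := Subgroup.subset_closure (Set.mem_insert_of_mem _ rfl)
  have hH : ∀ k, hI Q k ∈ K := fun k => by
    obtain ⟨i, rfl⟩ := Subgroup.mem_zpowers_iff.1 (hk0 k)
    rw [show hI Q (k0 ^ i) = a ^ i from map_zpow (hHom Q) k0 i]
    exact K.zpow_mem haK i
  let K' := K.comap (MulAut.conj w).toMonoidHom
  have hww : w * w = 1 := Subtype.ext (W_sq Q)
  have hwinv : w⁻¹ = w := inv_eq_of_mul_eq_one_right hww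
  have hwh' : ∀ k, w * hI Q k * w⁻¹ = hI Q k⁻¹ := fun k => by
    rw [mul_inv_eq_iff_eq_mul]
    refine Subtype.ext ?_
    show W F * H m k = H m k⁻¹ * W F
    conv_lhs => rw [← hwh Q k⁻¹]
    rw [mul_assoc, ← H_mul Q, inv_mul_cancel, H_one Q, mul_one]
  have hH' : ∀ k, hI Q k ∈ K' := fun k => by
    show w * hI Q k * w⁻¹ ∈ K
    rw [hwh']; exact hH _
  obtain ⟨c, hc⟩ := exists_unit_ne_one Q
  have hx1 : (c : F) + 1 ≠ 0 := fun h => hc (Units.ext ((eq_neg_of_add_eq_zero_left h).trans (neg_eq Q 1)))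
  have hX : uu Q ((c : F) + 1) (0 + ((1 : F) ^ (2 ^ (m + 1) + 1) + 0) + ((c : F) * 1) ^ (2 ^ (m + 1)) * 1) ∈ K' := by
    show w * _ * w⁻¹ ∈ K
    have h : (hI Q c)⁻¹ * (hI Q c)⁻¹ * (hI Q c * b * (hI Q c)⁻¹ * b⁻¹) ∈ K :=
      K.mul_mem (K.mul_mem (K.inv_mem (hH c)) (K.inv_mem (hH c)))
        (K.mul_mem (K.mul_mem (K.mul_mem (hH c) hbK) (K.inv_mem (hH c))) (K.inv_mem hbK))
    have e1 : uu Q ((c : F) + 1) (0 + ((1 : F) ^ (2 ^ (m + 1) + 1) + 0) + ((c : F) * 1) ^ (2 ^ (m + 1)) * 1) =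
        hI Q c * uu Q 1 0 * (hI Q c)⁻¹ * (uu Q 1 0)⁻¹ := by
      rw [hI_conj_uu, show (uu Q (1 : F) 0)⁻¹ = uu Q 1 ((1 : F) ^ (2 ^ (m + 1) + 1) + 0) from
        Subtype.ext (by rw [Subgroup.coe_inv]; exact (T_inv Q 1 0).trans (by rw [add_comm]; rfl)), uu_mul]
      simp
    rw [e1]
    have e2 : (hI Q c)⁻¹ * w = w * hI Q c := by
      calc (hI Q c)⁻¹ * w = hHom Q c⁻¹ * w := by rw [map_inv]; rfl
        _ = (w * hI Q c * w⁻¹) * w := by rw [hwh']; rfl
        _ = w * hI Q c := by group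
    convert h using 1
    calc w * (hI Q c * uu Q 1 0 * (hI Q c)⁻¹ * (uu Q 1 0)⁻¹) * w⁻¹
        = (w * hI Q c) * uu Q 1 0 * (hI Q c)⁻¹ * (uu Q 1 0)⁻¹ * w⁻¹ := by group
      _ = ((hI Q c)⁻¹ * w) * uu Q 1 0 * (hI Q c)⁻¹ * (uu Q 1 0)⁻¹ * w⁻¹ := by rw [e2]
      _ = _ := by simp only [b]; group
  have hU : uSub Q ≤ K' := uSub_le_of Q hH' hx1 hX
  have hwK : w ∈ K := by
    have h1 : w * uu Q 1 0 * w⁻¹ ∈ K := hU (uu_mem Q 1 0)
    have h2 := K.mul_mem (K.inv_mem hbK) h1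
    rw [show b⁻¹ * (w * uu Q 1 0 * w⁻¹) = w⁻¹ by simp only [b]; group] at h2
    exact K.inv_mem_iff.1 h2
  rw [eq_top_iff]
  intro g _
  let G' : Subgroup (SL4 F) := K.map (Cfsg.Sz F m).subtype
  have hg : g.1 ∈ G' := by
    refine Sz_le Q (G := G') (fun x y => ⟨uu Q x y, ?_, rfl⟩) (fun k => ⟨_, hH k, rfl⟩) ⟨w, hwK, rfl⟩ g.2
    have h : w * uu Q x y * w⁻¹ ∈ K := hU (uu_mem Q x y)
    have := K.mul_mem (K.mul_mem (K.inv_mem hwK) h) hwK
    rwa [show w⁻¹ * (w * uu Q x y * w⁻¹) * w = uu Q x y by group] at this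
  obtain ⟨g', hg', e⟩ := hg
  rwa [← Subtype.ext e]

theorem exists_ti_elementary {n : ℕ} (hn : n ∣ 2 * m + 1) :
    ∃ E : Subgroup (Cfsg.Sz F m), Cfsg.IsElementaryAbelian 2 E ∧ Nat.card E = 2 ^ n ∧
      ∀ x : Cfsg.Sz F m, E ⊓ E.map (MulAut.conj x).toMonoidHom ≠ ⊥ →
        x ∈ Subgroup.normalizer (E : Set (Cfsg.Sz F m)) := by
  classical
  have := charP Q
  have : Fact (Nat.Prime 2) := ⟨Nat.prime_two⟩
  have hn0 : 2 ^ n ≠ 0 := pow_ne_zero _ two_ne_zero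
  let V : AddSubgroup F :=
    { carrier := {x | x ^ (2 ^ n) = x}
      zero_mem' := zero_pow hn0
      add_mem' := fun {a b} ha hb => by
        show (a + b) ^ 2 ^ n = a + b
        rw [add_pow_char_pow, ha, hb]
      neg_mem' := fun {a} ha => by rw [neg_eq Q a]; exact ha }
  let E : Subgroup (Cfsg.Sz F m) :=
    { carrier := {g | ∃ b ∈ V, g = uu Q 0 b}
      one_mem' := ⟨0, V.zero_mem, (uu_zero Q).symm⟩
      mul_mem' := fun ⟨a, ha, e⟩ ⟨b, hb, e'⟩ => ⟨a + b, V.add_mem ha hb, by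
        rw [e, e', uu_mul]; simp [zero_pow (pow_ne_zero (m + 1) two_ne_zero)]⟩
      inv_mem' := fun {x} ⟨a, ha, e⟩ => ⟨a, ha, by
        subst e
        refine inv_eq_of_mul_eq_one_right ?_
        rw [← pow_two, uu_sq, zero_pow (Nat.succ_ne_zero _), uu_zero]⟩ }
  have hcardV : Nat.card V = 2 ^ n := by
    have hd : 2 ^ n - 1 ∣ Nat.card Fˣ := by
      rw [Nat.card_units, Nat.card_eq_fintype_card, Q.hF]
      exact Nat.pow_sub_one_dvd_pow_sub_one 2 hn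
    have hker := IsCyclic.card_powMonoidHom_ker Fˣ (2 ^ n - 1)
    rw [Nat.gcd_eq_right hd] at hker
    let f : Option (powMonoidHom (2 ^ n - 1) : Fˣ →* Fˣ).ker → V := fun o => match o with
      | none => ⟨0, V.zero_mem⟩
      | some u => ⟨((u.1 : Fˣ) : F), by
          show ((u.1 : Fˣ) : F) ^ 2 ^ n = _
          have h : (u.1 : Fˣ) ^ (2 ^ n - 1) = 1 := u.2
          calc ((u.1 : Fˣ) : F) ^ 2 ^ n = ((u.1 : Fˣ) : F) ^ (2 ^ n - 1 + 1) := by
                rw [Nat.sub_add_cancel (Nat.one_le_iff_ne_zero.2 hn0)]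
            _ = _ := by rw [pow_succ, ← Units.val_pow_eq_pow_val, h, Units.val_one, one_mul]⟩
    have hf : Function.Bijective f := by
      refine ⟨fun a b h => ?_, fun x => ?_⟩
      · have h' := congrArg Subtype.val h
        rcases a with _ | a <;> rcases b with _ | b
        · rfl
        · exact absurd h'.symm (Units.ne_zero _)
        · exact absurd h' (Units.ne_zero _)
        · exact congrArg some (Subtype.ext (Units.ext h'))
      · rcases eq_or_ne (x : F) 0 with h | h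
        · exact ⟨none, Subtype.ext h.symm⟩
        · refine ⟨some ⟨Units.mk0 _ h, Units.ext ?_⟩, Subtype.ext rfl⟩
          show (x : F) ^ (2 ^ n - 1) = 1
          refine mul_right_cancel₀ h ?_
          rw [← pow_succ, Nat.sub_add_cancel (Nat.one_le_iff_ne_zero.2 hn0), one_mul]
          exact x.2
    rw [← Nat.card_eq_of_bijective f hf, Finite.card_option, hker, Nat.sub_add_cancel (Nat.one_le_iff_ne_zero.2 hn0)]
  refine ⟨E, ⟨⟨⟨fun x y => ?_⟩⟩, fun a ha => ?_⟩, ?_, fun x hx => ?_⟩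
  · obtain ⟨a, -, ea⟩ := x.2
    obtain ⟨b, -, eb⟩ := y.2
    exact Subtype.ext (by
      rw [Subgroup.coe_mul, Subgroup.coe_mul, ea, eb, uu_mul, uu_mul]
      simp [zero_pow (pow_ne_zero (m + 1) two_ne_zero), add_comm])
  · obtain ⟨b, -, rfl⟩ := ha
    rw [uu_sq, zero_pow (Nat.succ_ne_zero _), uu_zero]
  · rw [← hcardV]
    exact (Nat.card_eq_of_bijective (fun b : V => (⟨uu Q 0 b.1, b.1, b.2, rfl⟩ : E))
      ⟨fun a b h => Subtype.ext (uu_inj Q (congrArg Subtype.val h)).2, fun g => by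
        obtain ⟨b, hb, e⟩ := g.2; exact ⟨⟨b, hb⟩, Subtype.ext e.symm⟩⟩).symm
  · obtain ⟨y, ⟨hy, hy'⟩, hy1⟩ := (Subgroup.ne_bot_iff_exists_ne_one.1 hx) |> fun ⟨y, hy⟩ =>
      (⟨y.1, y.2, fun h => hy (Subtype.ext h)⟩ : ∃ y, y ∈ E ⊓ E.map (MulAut.conj x).toMonoidHom ∧ y ≠ 1)
    obtain ⟨z, hz, ezy⟩ := hy'
    obtain ⟨b, hb, rfl⟩ := hz
    obtain ⟨b', hb', rfl⟩ := hy
    have e : x * uu Q 0 b * x⁻¹ = uu Q 0 b' := ezy
    have hb0 : b ≠ 0 := fun h => hy1 (by rw [← e, h, uu_zero]; simp)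
    have hfix := ti Q (uu_mem Q 0 b) (fun h => hb0 (uu_inj Q (h.trans (uu_zero Q).symm)).2) (g := x)
      (by rw [e]; exact uu_mem Q _ _)
    obtain ⟨u, v, k, ex⟩ := stab_inf Q x.2 hfix
    have ex' : x = uu Q u v * hI Q k := Subtype.ext ex
    set c := (k : F) ^ (2 ^ (m + 1) + 1) with hc
    have hconj : ∀ d, x * uu Q 0 d * x⁻¹ = uu Q 0 (c * d) := fun d => by
      rw [ex', show uu Q u v * hI Q k * uu Q 0 d * (uu Q u v * hI Q k)⁻¹ =
        uu Q u v * (hI Q k * uu Q 0 d * (hI Q k)⁻¹) * (uu Q u v)⁻¹ by group, hI_conj_uu, mul_zero,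
        mul_inv_eq_iff_eq_mul, uu_mul, uu_mul]
      congr 1
      · ring
      · simp [zero_pow (pow_ne_zero (m + 1) two_ne_zero)]; ring
    rw [hconj] at e
    have hcb : c * b = b' := (uu_inj Q e).2
    have hc0 : c ≠ 0 := pow_ne_zero _ k.ne_zero
    have hcV : c ^ 2 ^ n = c := by
      refine mul_right_cancel₀ (pow_ne_zero (2 ^ n) hb0) ?_
      rw [← mul_pow, hcb, show b' ^ 2 ^ n = b' from hb', show b ^ 2 ^ n = b from hb, hcb]
    rw [Subgroup.mem_normalizer_iff]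
    refine fun g => ⟨?_, ?_⟩
    · rintro ⟨d, hd, rfl⟩
      refine ⟨c * d, ?_, hconj d⟩
      show (c * d) ^ 2 ^ n = c * d
      rw [mul_pow, hcV, show d ^ 2 ^ n = d from hd]
    · rintro ⟨d, hd, e'⟩
      refine ⟨d / c, ?_, ?_⟩
      · show (d / c) ^ 2 ^ n = d / c
        rw [div_pow, hcV, show d ^ 2 ^ n = d from hd]
      · have : x * g * x⁻¹ = x * uu Q 0 (d / c) * x⁻¹ := by
          rw [hconj, mul_div_cancel₀ _ hc0]; exact e'
        exact mul_left_cancel (mul_right_cancel this)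

theorem dvd_of_ti_elementary {n : ℕ} (hn : 2 ≤ n) {E0 : Subgroup (Cfsg.Sz F m)}
    (hE : Cfsg.IsElementaryAbelian 2 E0) (hcard0 : Nat.card E0 = 2 ^ n)
    (hti0 : ∀ x : Cfsg.Sz F m, E0 ⊓ E0.map (MulAut.conj x).toMonoidHom ≠ ⊥ →
      x ∈ Subgroup.normalizer (E0 : Set (Cfsg.Sz F m))) : n ∣ 2 * m + 1 := by
  classical
  have : Fact (Nat.Prime 2) := ⟨Nat.prime_two⟩
  obtain ⟨P, hP⟩ := (show IsPGroup 2 E0 from fun x => ⟨1, Subtype.ext (hE.2 x.1 x.2)⟩).exists_le_sylow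
  obtain ⟨c0, hc0⟩ := exists_conj Q P
  set φ := MulAut.conj c0
  set E := E0.map φ.toMonoidHom with hEdef
  have memE : ∀ y, y ∈ E ↔ c0⁻¹ * y * c0 ∈ E0 := fun y => map_conj_mem E0 c0 y
  have hEU : ∀ y ∈ E, ∃ b, y = uu Q 0 b := by
    intro y hy
    have h := (memE y).1 hy
    have hyU : y ∈ uSub Q := by
      have := (hc0 _).1 (hP h)
      rwa [show c0 * (c0⁻¹ * y * c0) * c0⁻¹ = y by group] at this
    obtain ⟨a, b, rfl⟩ := exists_uu Q hyU
    have h2 := hE.2 _ h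
    rw [show (c0⁻¹ * uu Q a b * c0) ^ 2 = c0⁻¹ * uu Q a b ^ 2 * c0 by rw [pow_two, pow_two]; group] at h2
    rw [mul_eq_one_iff_eq_inv, mul_eq_left, uu_sq, ← uu_zero Q] at h2
    exact ⟨b, by rw [pow_eq_zero_iff (Nat.succ_ne_zero _) |>.1 (uu_inj Q h2).2]⟩
  let V : AddSubgroup F :=
    { carrier := {b | uu Q 0 b ∈ E}
      zero_mem' := by show uu Q 0 0 ∈ E; rw [uu_zero]; exact E.one_mem
      add_mem' := fun {a b} ha hb => by
        have h := E.mul_mem ha hb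
        rw [uu_mul] at h
        simpa [zero_pow (pow_ne_zero (m + 1) two_ne_zero)] using h
      neg_mem' := fun {a} ha => by rw [neg_eq Q a]; exact ha }
  have hcardV : Nat.card V = 2 ^ n := by
    rw [← hcard0, Nat.card_congr (E0.equivMapOfInjective φ.toMonoidHom φ.injective).toEquiv]
    exact Nat.card_eq_of_bijective (fun b : V => (⟨uu Q 0 b.1, b.2⟩ : E))
      ⟨fun a b h => Subtype.ext (uu_inj Q (congrArg Subtype.val h)).2, fun y => by
        obtain ⟨b, e⟩ := hEU y.1 y.2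
        exact ⟨⟨b, show uu Q 0 b ∈ E from e ▸ y.2⟩, Subtype.ext e.symm⟩⟩
  obtain ⟨v, hv, hv0⟩ : ∃ v ∈ V, v ≠ 0 := by
    by_contra h
    push Not at h
    have h1 : V = ⊥ := (AddSubgroup.eq_bot_iff_forall V).2 h
    rw [h1, AddSubgroup.card_bot] at hcardV
    exact absurd hcardV (Nat.one_lt_two_pow (by omega)).ne
  have hscale : ∀ c : F, c ≠ 0 → (∃ b ∈ V, b ≠ 0 ∧ c * b ∈ V) → ∀ d ∈ V, c * d ∈ V := by
    rintro c hc ⟨b, hb, hb0, hcb⟩ d hd
    obtain ⟨k, hk⟩ := exists_s1_root Q (Units.mk0 c hc)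
    have hk' := congrArg Units.val hk
    rw [Units.val_pow_eq_pow_val, Units.val_mk0] at hk'
    have hconj : ∀ d, hI Q k * uu Q 0 d * (hI Q k)⁻¹ = uu Q 0 (c * d) := fun d => by
      rw [hI_conj_uu, mul_zero, hk']
    have hnorm : c0⁻¹ * hI Q k * c0 ∈ Subgroup.normalizer (E0 : Set (Cfsg.Sz F m)) := by
      refine hti0 _ fun hbot => hb0 ?_
      have h1 : c0⁻¹ * uu Q 0 (c * b) * c0 ∈
          E0 ⊓ E0.map (MulAut.conj (c0⁻¹ * hI Q k * c0)).toMonoidHom := by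
        refine ⟨(memE _).1 hcb, ?_⟩
        show c0⁻¹ * uu Q 0 (c * b) * c0 ∈ E0.map (MulAut.conj (c0⁻¹ * hI Q k * c0)).toMonoidHom
        rw [map_conj_mem, ← hconj]
        convert (memE _).1 hb using 1
        group
      rw [hbot, Subgroup.mem_bot, mul_eq_one_iff_eq_inv, mul_eq_left, ← uu_zero Q] at h1
      exact (mul_eq_zero.1 (uu_inj Q h1).2).resolve_left hc
    show uu Q 0 (c * d) ∈ E
    rw [← hconj, memE]
    have h2 := (Subgroup.mem_normalizer_iff.1 hnorm _).1 ((memE _).1 hd)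
    convert h2 using 1
    group
  let K : Subfield F :=
    { carrier := {a | a * v ∈ V}
      one_mem' := by simpa using hv
      zero_mem' := by simpa using V.zero_mem
      add_mem' := fun {a b} ha hb => by show (a + b) * v ∈ V; rw [add_mul]; exact V.add_mem ha hb
      neg_mem' := fun {a} ha => by show -a * v ∈ V; rw [neg_eq Q]; exact ha
      mul_mem' := fun {a b} ha hb => by
        show a * b * v ∈ V
        rcases eq_or_ne a 0 with rfl | ha0
        · simp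
        · rw [mul_assoc]; exact hscale a ha0 ⟨v, hv, hv0, ha⟩ _ hb
      inv_mem' := fun a ha => by
        show a⁻¹ * v ∈ V
        rcases eq_or_ne a 0 with rfl | ha0
        · simp
        · exact hscale a⁻¹ (inv_ne_zero ha0) ⟨a * v, ha, mul_ne_zero ha0 hv0, by
            rw [inv_mul_cancel_left₀ ha0]; exact hv⟩ v hv }
  have hK : Nat.card K = 2 ^ n := by
    rw [← hcardV]
    exact Nat.card_eq_of_bijective (fun a : K => (⟨a.1 * v, a.2⟩ : V))
      ⟨fun a b h => Subtype.ext (mul_right_cancel₀ hv0 (congrArg Subtype.val h)), fun b => by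
        exact ⟨⟨b.1 / v, show b.1 / v * v ∈ V by rw [div_mul_cancel₀ _ hv0]; exact b.2⟩,
          Subtype.ext (div_mul_cancel₀ _ hv0)⟩⟩
  have h := Module.natCard_eq_pow_finrank (K := K) (V := F)
  rw [Nat.card_eq_fintype_card (α := F), Q.hF, hK, ← pow_mul] at h
  exact ⟨_, Nat.pow_right_injective le_rfl h⟩

end Cfsg.Lib.Suz
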