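import Cfsg.Agent.Suz.Props
import Cfsg.Agent.Suz.Partition
import Cfsg.Agent.OddChar.Zassenhaus.Results
import Cfsg.Agent.OddChar.Dual
import Cfsg.Agent.OddChar.Zassenhaus.Coherent
import Cfsg.Agent.Chars.Count

/-! The Steinberg character and the principal series of a Suzuki group. -/

set_option autoImplicit false
set_option linter.unusedSectionVars false
set_option linter.style.haveILetI false

open scoped ComplexConjugate
open MulAction

namespace Cfsg.Lib.Suz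

variable {F : Type*} [Field F] [Fintype F] {m : ℕ} (Q : Par F m)

/-- The point at infinity, as a point of the ovoid. -/
abbrev pI (m : ℕ) : Cfsg.suzukiOvoid F m := ⟨_, inf_mem m⟩

/-- The origin, as a point of the ovoid. -/
abbrev pO (m : ℕ) : Cfsg.suzukiOvoid F m := ⟨_, pt_mem m 0 0⟩

theorem pI_ne_pO : (pI m : Cfsg.suzukiOvoid F m) ≠ pO m :=
  fun h => pt_ne_inf m 0 0 (congrArg Subtype.val h).symm

include Q

theorem mem_stab_pI {g : Cfsg.Sz F m} : g ∈ stabilizer (Cfsg.Sz F m) (pI m : Cfsg.suzukiOvoid F m) ↔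
    g ∈ stabilizer (Cfsg.Sz F m) (Cfsg.suzukiPointInfinity F) := by
  rw [mem_stabilizer_iff, mem_stabilizer_iff, Subtype.ext_iff]
  rfl

theorem mem_stab_pO {g : Cfsg.Sz F m} : g ∈ stabilizer (Cfsg.Sz F m) (pO m : Cfsg.suzukiOvoid F m) ↔
    g ∈ stabilizer (Cfsg.Sz F m) (Cfsg.suzukiPointZero F) := by
  rw [mem_stabilizer_iff, mem_stabilizer_iff, Subtype.ext_iff, zero_eq m]
  rfl

theorem card_two_point :
    Nat.card (Cfsg.Lib.OddChar.Zassenhaus.stab₂ (Cfsg.Sz F m) (pI m : Cfsg.suzukiOvoid F m) (pO m)) =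
      2 ^ (2 * m + 1) - 1 := by
  obtain ⟨e⟩ := two_point Q
  rw [show Cfsg.Lib.OddChar.Zassenhaus.stab₂ (Cfsg.Sz F m) (pI m : Cfsg.suzukiOvoid F m) (pO m) =
      stabilizer (Cfsg.Sz F m) (Cfsg.suzukiPointInfinity F) ⊓
        stabilizer (Cfsg.Sz F m) (Cfsg.suzukiPointZero F) from by
    ext g
    simp only [Subgroup.mem_inf, mem_stab_pI Q, mem_stab_pO Q],
    Nat.card_congr e.toEquiv, Nat.card_units, Nat.card_eq_fintype_card, Q.hF]

theorem uSub_le : uSub Q ≤ stabilizer (Cfsg.Sz F m) (pI m : Cfsg.suzukiOvoid F m) := by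
  intro g hg
  rw [mem_stab_pI Q, ← normalizer_uSub Q]
  exact Subgroup.le_normalizer hg

theorem uSub_fix {u : Cfsg.Sz F m} (hu : u ∈ uSub Q) (hu1 : u ≠ 1) {c : Cfsg.suzukiOvoid F m}
    (hc : u • c = c) : c = pI m := by
  obtain ⟨a, b, rfl⟩ := exists_uu Q hu
  refine Subtype.ext (fixes_only Q (fun h => hu1 ?_) c.2 (congrArg Subtype.val hc))
  rw [h.1, h.2, uu_zero Q]

theorem card_ovoid' [Fintype (Cfsg.suzukiOvoid F m)] :
    Fintype.card (Cfsg.suzukiOvoid F m) = (2 ^ (2 * m + 1)) ^ 2 + 1 := by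
  rw [← Nat.card_eq_fintype_card, card_ovoid, Q.hF]

theorem hI_stab (k : Fˣ) : hI Q k ∈ stabilizer (Cfsg.Sz F m) (pI m : Cfsg.suzukiOvoid F m) :=
  (mem_stab_pI Q).2 (H_inf m k)

theorem hI_not_uSub {k : Fˣ} (h : hI Q k ∈ uSub Q) : k = 1 := by
  by_contra hk
  have hne : hI Q k ≠ 1 := fun e => hk (hHom_injective Q (e.trans (map_one (hHom Q)).symm))
  have h0 : hI Q k • (pO m : Cfsg.suzukiOvoid F m) = pO m := Subtype.ext ((hI_fix Q hk (pt_mem m 0 0)).2 (Or.inr rfl))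
  exact pI_ne_pO (uSub_fix Q h hne h0).symm

theorem swap_hI {x : Cfsg.Sz F m} (hx : x • (pI m : Cfsg.suzukiOvoid F m) = pO m) (k : Fˣ)
    (hm : x⁻¹ * hI Q k * x ∈ stabilizer (Cfsg.Sz F m) (pI m : Cfsg.suzukiOvoid F m)) :
    ∃ u ∈ uSub Q, x⁻¹ * hI Q k * x = u * hI Q k⁻¹ * u⁻¹ := by
  obtain ⟨w, hw⟩ : ∃ w : Cfsg.Sz F m, w.1 = W F := ⟨⟨W F, W_mem Q⟩, rfl⟩
  have hwI : w • (pI m : Cfsg.suzukiOvoid F m) = pO m := Subtype.ext (by
    show w.1 • Cfsg.suzukiPointInfinity F = _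
    rw [hw]; exact W_inf m)
  have hww : w * w = 1 := Subtype.ext (by
    show w.1 * w.1 = 1
    rw [hw]; exact W_sq Q)
  have hw2 : w⁻¹ = w := inv_eq_of_mul_eq_one_left hww
  have hwh' : w⁻¹ * hI Q k * w = hI Q k⁻¹ := by
    have h1 : hI Q k * w * hI Q k = w := Subtype.ext (by
      show H m k * w.1 * H m k = w.1
      rw [hw]; exact hwh Q k)
    rw [show hI Q k⁻¹ = (hI Q k)⁻¹ from map_inv (hHom Q) k, eq_inv_iff_mul_eq_one, hw2]
    calc w * hI Q k * w * hI Q k = w * (hI Q k * w * hI Q k) := by group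
      _ = 1 := by rw [h1, hww]
  have hs : w⁻¹ * x ∈ stabilizer (Cfsg.Sz F m) (pI m : Cfsg.suzukiOvoid F m) := by
    rw [mem_stabilizer_iff, mul_smul, hx, inv_smul_eq_iff, hwI]
  obtain ⟨a, b, l, hl⟩ := stab_inf Q (g := (w⁻¹ * x).1⁻¹) (inv_mem (w⁻¹ * x).2) ((mem_stab_pI Q).1 (inv_mem hs))
  refine ⟨uu Q a b, uu_mem Q a b, ?_⟩
  have e : (w⁻¹ * x)⁻¹ = uu Q a b * hI Q l := Subtype.ext hl
  have hc : hI Q l * hI Q k⁻¹ * (hI Q l)⁻¹ = hI Q k⁻¹ := by
    rw [mul_inv_eq_iff_eq_mul]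
    show hHom Q l * hHom Q k⁻¹ = hHom Q k⁻¹ * hHom Q l
    rw [← map_mul, ← map_mul, mul_comm]
  calc x⁻¹ * hI Q k * x = (w⁻¹ * x)⁻¹ * (w⁻¹ * hI Q k * w) * (w⁻¹ * x) := by group
    _ = uu Q a b * (hI Q l * hI Q k⁻¹ * (hI Q l)⁻¹) * (uu Q a b)⁻¹ := by
      rw [hwh', e, ← inv_inv (w⁻¹ * x), e]
      group
    _ = uu Q a b * hI Q k⁻¹ * (uu Q a b)⁻¹ := by rw [hc]

/-- The projection of the point stabiliser on the torus. -/
theorem exists_proj : ∃ π : stabilizer (Cfsg.Sz F m) (pI m : Cfsg.suzukiOvoid F m) →* Fˣ,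
    (∀ u : stabilizer (Cfsg.Sz F m) (pI m : Cfsg.suzukiOvoid F m), (u : Cfsg.Sz F m) ∈ uSub Q → π u = 1) ∧
      ∀ k, π ⟨hI Q k, hI_stab Q k⟩ = k := by
  set B := stabilizer (Cfsg.Sz F m) (pI m : Cfsg.suzukiOvoid F m)
  set U := (uSub Q).subgroupOf B
  haveI : U.Normal := ⟨fun u hu g => by
    have hg : (g : Cfsg.Sz F m) ∈ Subgroup.normalizer (uSub Q : Set (Cfsg.Sz F m)) := by
      rw [normalizer_uSub Q]; exact (mem_stab_pI Q).1 g.2
    exact (Subgroup.mem_normalizer_iff.1 hg _).1 hu⟩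
  let f : Fˣ →* B ⧸ U := (QuotientGroup.mk' U).comp
    (MonoidHom.mk' (fun k => (⟨hI Q k, hI_stab Q k⟩ : B)) fun k l => Subtype.ext (map_mul (hHom Q) k l))
  have hb : Function.Bijective f := by
    refine ⟨?_, fun x => ?_⟩
    · rw [← MonoidHom.ker_eq_bot_iff, Subgroup.eq_bot_iff_forall]
      intro k hk
      exact hI_not_uSub Q (Subgroup.mem_subgroupOf.1 ((QuotientGroup.eq_one_iff _).1 (MonoidHom.mem_ker.1 hk)))
    · induction x using QuotientGroup.induction_on with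
      | _ g =>
        obtain ⟨a, b, k, e⟩ := stab_inf Q g.1.2 ((mem_stab_pI Q).1 g.2)
        refine ⟨k, ?_⟩
        have eg : g = ⟨uu Q a b, uSub_le Q (uu_mem Q a b)⟩ * ⟨hI Q k, hI_stab Q k⟩ :=
          Subtype.ext (Subtype.ext e)
        show QuotientGroup.mk' U _ = QuotientGroup.mk' U g
        rw [eg, map_mul, show QuotientGroup.mk' U ⟨uu Q a b, uSub_le Q (uu_mem Q a b)⟩ = 1 from
          (QuotientGroup.eq_one_iff _).2 (uu_mem Q a b), one_mul]
        rfl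
  refine ⟨(MulEquiv.ofBijective f hb).symm.toMonoidHom.comp (QuotientGroup.mk' U), fun u hu => ?_, fun k => ?_⟩
  · show (MulEquiv.ofBijective f hb).symm (QuotientGroup.mk' U u) = 1
    rw [show QuotientGroup.mk' U u = 1 from (QuotientGroup.eq_one_iff _).2 hu, map_one]
  · exact (MulEquiv.ofBijective f hb).symm_apply_apply k

theorem indFun_hI [Fintype (Cfsg.Sz F m)]
    (π : stabilizer (Cfsg.Sz F m) (pI m : Cfsg.suzukiOvoid F m) →* Fˣ) (hπ : ∀ k, π ⟨hI Q k, hI_stab Q k⟩ = k)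
    (hπU : ∀ u : stabilizer (Cfsg.Sz F m) (pI m : Cfsg.suzukiOvoid F m), (u : Cfsg.Sz F m) ∈ uSub Q → π u = 1)
    (l : Fˣ →* ℂˣ) {k : Fˣ} (hk : k ≠ 1) :
    Cfsg.indFun (stabilizer (Cfsg.Sz F m) (pI m : Cfsg.suzukiOvoid F m)) (fun g => (l (π g) : ℂ)) (hI Q k) =
      (l k : ℂ) + (l k⁻¹ : ℂ) := by
  classical
  set θ : (stabilizer (Cfsg.Sz F m) (pI m : Cfsg.suzukiOvoid F m)) → ℂ := fun g => (l (π g) : ℂ) with hθ
  have hcom : ∀ x g : (stabilizer (Cfsg.Sz F m) (pI m : Cfsg.suzukiOvoid F m)), θ (x * g * x⁻¹) = θ g := fun x g => by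
    simp only [hθ, map_mul, map_inv, mul_inv_cancel_comm]
  obtain ⟨w, hw⟩ : ∃ w : Cfsg.Sz F m, w • (pI m : Cfsg.suzukiOvoid F m) = pO m :=
    ⟨⟨W F, W_mem Q⟩, Subtype.ext (W_inf m)⟩
  have hfix : ∀ x : Cfsg.Sz F m, x⁻¹ * hI Q k * x ∈ (stabilizer (Cfsg.Sz F m) (pI m : Cfsg.suzukiOvoid F m)) → x ∈ (stabilizer (Cfsg.Sz F m) (pI m : Cfsg.suzukiOvoid F m)) ∨ x • (pI m : Cfsg.suzukiOvoid F m) = pO m := by
    intro x hm
    rw [mem_stabilizer_iff, mul_smul, mul_smul, inv_smul_eq_iff] at hm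
    rcases (hI_fix Q hk (x • (pI m : Cfsg.suzukiOvoid F m)).2).1 (congrArg Subtype.val hm) with e | e
    · exact Or.inl (mem_stabilizer_iff.2 (Subtype.ext e))
    · exact Or.inr (Subtype.ext e)
  have hval : ∀ x : Cfsg.Sz F m, Cfsg.extendByZero (stabilizer (Cfsg.Sz F m) (pI m : Cfsg.suzukiOvoid F m)) θ (x⁻¹ * hI Q k * x) =
      (if x ∈ (stabilizer (Cfsg.Sz F m) (pI m : Cfsg.suzukiOvoid F m)) then (l k : ℂ) else 0) + if w⁻¹ * x ∈ (stabilizer (Cfsg.Sz F m) (pI m : Cfsg.suzukiOvoid F m)) then (l k⁻¹ : ℂ) else 0 := by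
    intro x
    have hwx : w⁻¹ * x ∈ (stabilizer (Cfsg.Sz F m) (pI m : Cfsg.suzukiOvoid F m)) ↔ x • (pI m : Cfsg.suzukiOvoid F m) = pO m := by
      rw [mem_stabilizer_iff, mul_smul, inv_smul_eq_iff, hw]
    by_cases hx : x ∈ (stabilizer (Cfsg.Sz F m) (pI m : Cfsg.suzukiOvoid F m))
    · have hne : ¬ (w⁻¹ * x ∈ (stabilizer (Cfsg.Sz F m) (pI m : Cfsg.suzukiOvoid F m))) := fun h => pI_ne_pO ((mem_stabilizer_iff.1 hx).symm.trans (hwx.1 h))
      have hm : x⁻¹ * hI Q k * x ∈ (stabilizer (Cfsg.Sz F m) (pI m : Cfsg.suzukiOvoid F m)) := mul_mem (mul_mem (inv_mem hx) (hI_stab Q k)) hx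
      rw [if_pos hx, if_neg hne, add_zero, Cfsg.Lib.Chars.extendByZero_mem _ hm,
        show (⟨x⁻¹ * hI Q k * x, hm⟩ : (stabilizer (Cfsg.Sz F m) (pI m : Cfsg.suzukiOvoid F m))) = (⟨x, hx⟩ : (stabilizer (Cfsg.Sz F m) (pI m : Cfsg.suzukiOvoid F m)))⁻¹ * ⟨hI Q k, hI_stab Q k⟩ * ((⟨x, hx⟩ : (stabilizer (Cfsg.Sz F m) (pI m : Cfsg.suzukiOvoid F m)))⁻¹)⁻¹ from
          Subtype.ext (by simp), hcom]
      simp only [hθ]
      rw [hπ]
    · rw [if_neg hx, zero_add]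
      by_cases hx' : w⁻¹ * x ∈ (stabilizer (Cfsg.Sz F m) (pI m : Cfsg.suzukiOvoid F m))
      · have hxO := hwx.1 hx'
        have hm : x⁻¹ * hI Q k * x ∈ (stabilizer (Cfsg.Sz F m) (pI m : Cfsg.suzukiOvoid F m)) := by
          rw [mem_stabilizer_iff, mul_smul, mul_smul, inv_smul_eq_iff, hxO]
          exact Subtype.ext ((hI_fix Q hk (pt_mem m 0 0)).2 (Or.inr rfl))
        obtain ⟨u, hu, e⟩ := swap_hI Q hxO k hm
        rw [if_pos hx', Cfsg.Lib.Chars.extendByZero_mem _ hm,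
          show (⟨x⁻¹ * hI Q k * x, hm⟩ : (stabilizer (Cfsg.Sz F m) (pI m : Cfsg.suzukiOvoid F m))) = (⟨u, uSub_le Q hu⟩ : (stabilizer (Cfsg.Sz F m) (pI m : Cfsg.suzukiOvoid F m))) * ⟨hI Q k⁻¹, hI_stab Q k⁻¹⟩ *
            (⟨u, uSub_le Q hu⟩ : (stabilizer (Cfsg.Sz F m) (pI m : Cfsg.suzukiOvoid F m)))⁻¹ from Subtype.ext e, hcom]
        simp only [hθ]
        rw [hπ]
      · rw [if_neg hx']
        exact Cfsg.Lib.Chars.extendByZero_not_mem _ fun hm => (hfix x hm).elim hx (fun e => hx' (hwx.2 e))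
  have hcount : (Finset.univ.filter fun x : Cfsg.Sz F m => x ∈ (stabilizer (Cfsg.Sz F m) (pI m : Cfsg.suzukiOvoid F m))).card = Nat.card (stabilizer (Cfsg.Sz F m) (pI m : Cfsg.suzukiOvoid F m)) := by
    rw [Nat.card_eq_fintype_card, Fintype.card_subtype]
  have hcount' : (Finset.univ.filter fun x : Cfsg.Sz F m => w⁻¹ * x ∈ (stabilizer (Cfsg.Sz F m) (pI m : Cfsg.suzukiOvoid F m))).card = Nat.card (stabilizer (Cfsg.Sz F m) (pI m : Cfsg.suzukiOvoid F m)) := by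
    rw [← hcount]
    exact Finset.card_equiv (Equiv.mulLeft w⁻¹) fun x => by simp
  have hB0 : (Nat.card (stabilizer (Cfsg.Sz F m) (pI m : Cfsg.suzukiOvoid F m)) : ℂ) ≠ 0 := by exact_mod_cast Nat.card_pos.ne'
  rw [Cfsg.Lib.Chars.indFun_apply, Finset.sum_congr rfl fun x _ => hval x, Finset.sum_add_distrib,
    ← Finset.sum_filter, ← Finset.sum_filter, Finset.sum_const, Finset.sum_const, hcount, hcount']
  simp only [nsmul_eq_mul]
  field_simp

theorem indFun_free [Fintype (Cfsg.Sz F m)] {g : Cfsg.Sz F m} (hg : Free Q g)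
    (θ : stabilizer (Cfsg.Sz F m) (pI m : Cfsg.suzukiOvoid F m) → ℂ) :
    Cfsg.indFun (stabilizer (Cfsg.Sz F m) (pI m : Cfsg.suzukiOvoid F m)) θ g = 0 := by
  rw [Cfsg.Lib.Chars.indFun_apply, Finset.sum_eq_zero, mul_zero]
  intro x _
  refine Cfsg.Lib.Chars.extendByZero_not_mem _ fun hm => ?_
  rw [mem_stabilizer_iff, mul_smul, mul_smul, inv_smul_eq_iff] at hm
  exact hg _ (x • (pI m : Cfsg.suzukiOvoid F m)).2 (congrArg Subtype.val hm)

theorem index_stab [Fintype (Cfsg.suzukiOvoid F m)] :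
    (stabilizer (Cfsg.Sz F m) (pI m : Cfsg.suzukiOvoid F m)).index = (2 ^ (2 * m + 1)) ^ 2 + 1 := by
  have horb : orbit (Cfsg.Sz F m) (pI m : Cfsg.suzukiOvoid F m) = Set.univ := Set.eq_univ_of_forall fun x =>
    Cfsg.Lib.OddChar.Zassenhaus.exists_map_one (zassenhaus Q) pI_ne_pO _ x
  rw [index_stabilizer, horb, Set.ncard_univ, Nat.card_eq_fintype_card, card_ovoid' Q]

/-- The Steinberg character. -/
theorem exists_steinberg [Fintype (Cfsg.Sz F m)] : ∃ χ : Cfsg.IrrCharacter (Cfsg.Sz F m),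
    (χ : Cfsg.Sz F m → ℂ) 1 = ((2 ^ (2 * m + 1)) ^ 2 : ℕ) ∧
      (∀ g, Free Q g → (χ : Cfsg.Sz F m → ℂ) g = -1) ∧
      ∀ k : Fˣ, k ≠ 1 → (χ : Cfsg.Sz F m → ℂ) (hI Q k) = 1 := by
  classical
  haveI : Fintype (Cfsg.suzukiOvoid F m) := Fintype.ofFinite _
  set q := 2 ^ (2 * m + 1) with hq
  set B := stabilizer (Cfsg.Sz F m) (pI m : Cfsg.suzukiOvoid F m) with hB
  set P := Cfsg.indFun B (fun _ => (1 : ℂ)) with hP
  obtain ⟨π, hπU, hπ⟩ := exists_proj Q
  have hPI : ∀ k : Fˣ, k ≠ 1 → P (hI Q k) = 2 := by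
    intro k hk
    have := indFun_hI Q π hπ hπU 1 hk
    simp only [MonoidHom.one_apply, Units.val_one] at this
    rw [hP, hB, this]; norm_num
  have hgen : Cfsg.IsGeneralizedCharacter (Cfsg.Sz F m) (P - fun _ => 1) :=
    ⟨_, _, Cfsg.Lib.Chars.IsCharacter.indFun Cfsg.Lib.Chars.isCharacter_one, Cfsg.Lib.Chars.isCharacter_one, rfl⟩
  -- the fixed point count
  have horb : ∀ c : Cfsg.suzukiOvoid F m,
      (Finset.univ.filter fun x : Cfsg.Sz F m => x • (pI m : Cfsg.suzukiOvoid F m) = c).card = Nat.card B := by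
    intro c
    obtain ⟨t, ht⟩ := Cfsg.Lib.OddChar.Zassenhaus.exists_map_one (zassenhaus Q) pI_ne_pO (pI m) c
    rw [Nat.card_eq_fintype_card, Fintype.card_subtype]
    refine Finset.card_equiv (Equiv.mulLeft t⁻¹) fun x => ?_
    simp only [Finset.mem_filter, Finset.mem_univ, true_and, Equiv.coe_mulLeft, hB, mem_stabilizer_iff,
      mul_smul, inv_smul_eq_iff, ht]
  have hB0 : (Nat.card B : ℂ) ≠ 0 := by exact_mod_cast Nat.card_pos.ne'
  have hPn : ∀ g, P g = (Cfsg.Lib.OddChar.Zassenhaus.nfix (Ω := Cfsg.suzukiOvoid F m) g : ℂ) := by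
    intro g
    rw [hP, Cfsg.Lib.Chars.indFun_apply, inv_mul_eq_iff_eq_mul₀ hB0,
      Finset.sum_congr rfl fun x _ => show Cfsg.extendByZero B (fun _ => (1 : ℂ)) (x⁻¹ * g * x) =
          if g • x • (pI m : Cfsg.suzukiOvoid F m) = x • pI m then 1 else 0 by
        have hiff : x⁻¹ * g * x ∈ B ↔ g • x • (pI m : Cfsg.suzukiOvoid F m) = x • pI m := by
          rw [hB, mem_stabilizer_iff, mul_smul, mul_smul, inv_smul_eq_iff]
        by_cases h : g • x • (pI m : Cfsg.suzukiOvoid F m) = x • pI m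
        · rw [if_pos h, Cfsg.Lib.Chars.extendByZero_mem _ (hiff.2 h)]
        · rw [if_neg h, Cfsg.Lib.Chars.extendByZero_not_mem _ fun hm => h (hiff.1 hm)],
      ← Finset.sum_fiberwise Finset.univ (fun x : Cfsg.Sz F m => x • (pI m : Cfsg.suzukiOvoid F m)),
      Finset.sum_congr rfl fun c _ => show ∑ x ∈ Finset.univ.filter (fun x : Cfsg.Sz F m => x • (pI m : Cfsg.suzukiOvoid F m) = c),
          (if g • x • (pI m : Cfsg.suzukiOvoid F m) = x • pI m then (1 : ℂ) else 0) =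
          (Nat.card B : ℂ) * if g • c = c then 1 else 0 by
        rw [Finset.sum_congr rfl (g := fun _ => if g • c = c then (1 : ℂ) else 0) fun x hx => by
          rw [(Finset.mem_filter.1 hx).2], Finset.sum_const, horb, nsmul_eq_mul],
      ← Finset.mul_sum, Finset.sum_boole, Cfsg.Lib.OddChar.Zassenhaus.nfix]
  have hsum1 := Cfsg.Lib.OddChar.Zassenhaus.sum_nfix (zassenhaus Q) pI_ne_pO (card_ovoid' Q) (card_two_point Q)
  have hsum2 := Cfsg.Lib.OddChar.Zassenhaus.sum_nfix_sq (zassenhaus Q) pI_ne_pO (card_ovoid' Q) (card_two_point Q)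
  have hG : Nat.card (Cfsg.Sz F m) = (q ^ 2 + 1) * (q ^ 2 * (q - 1)) := by rw [card_Sz Q, hq]; ring
  have hG0 : (Nat.card (Cfsg.Sz F m) : ℂ) ≠ 0 := by exact_mod_cast Nat.card_pos.ne'
  have hnorm : Cfsg.classInner (P - fun _ => 1) (P - fun _ => 1) = 1 := by
    rw [Cfsg.Lib.Chars.classInner_def, inv_mul_eq_iff_eq_mul₀ hG0, mul_one,
      Finset.sum_congr rfl fun g _ => show (P - (fun _ => (1 : ℂ) : Cfsg.Sz F m → ℂ)) g * conj ((P - (fun _ => (1 : ℂ) : Cfsg.Sz F m → ℂ)) g) =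
        ((Cfsg.Lib.OddChar.Zassenhaus.nfix (Ω := Cfsg.suzukiOvoid F m) g *
          Cfsg.Lib.OddChar.Zassenhaus.nfix (Ω := Cfsg.suzukiOvoid F m) g : ℕ) : ℂ) + 1 -
        2 * (Cfsg.Lib.OddChar.Zassenhaus.nfix (Ω := Cfsg.suzukiOvoid F m) g : ℂ) by
        simp only [Pi.sub_apply, hPn, map_sub, map_natCast, map_one]
        push_cast; ring,
      Finset.sum_sub_distrib, Finset.sum_add_distrib, ← Finset.mul_sum, ← Nat.cast_sum, ← Nat.cast_sum,
      hsum1, hsum2, Finset.sum_const, Finset.card_univ, ← Nat.card_eq_fintype_card, hG, nsmul_eq_mul]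
    push_cast; ring
  have hone : P 1 = ((q ^ 2 + 1 : ℕ) : ℂ) := by
    rw [hP, Cfsg.Lib.Chars.indFun_one, index_stab Q]; simp [hq]
  have hq0 : 0 < q ^ 2 := by positivity
  have hirr : Cfsg.IsIrrCharacter (Cfsg.Sz F m) (P - fun _ => 1) := by
    rcases Cfsg.Lib.Chars.isIrr_or_neg_of_norm_one hgen hnorm with h | h
    · exact h
    · exfalso
      have h1 := Cfsg.Lib.Chars.IsCharacter.apply_one_eq_deg (Cfsg.Lib.Chars.isCharacter_of_irr h)
      simp only [Pi.neg_apply, Pi.sub_apply, hone] at h1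
      push_cast at h1
      have : ((Cfsg.Lib.Chars.deg (-(P - fun _ => (1 : ℂ))) + q ^ 2 : ℕ) : ℂ) = 0 := by
        push_cast; linear_combination -h1
      rw [Nat.cast_eq_zero] at this
      omega
  refine ⟨⟨_, hirr⟩, ?_, fun g hg => ?_, fun k hk => ?_⟩
  · show P 1 - 1 = _
    rw [hone]; push_cast; ring
  · show P g - 1 = -1
    rw [hP, indFun_free Q hg]; ring
  · show P (hI Q k) - 1 = 1
    rw [hPI k hk]; ring

/-- The characters which do not vanish on the split torus. -/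
theorem exists_known [Fintype (Cfsg.Sz F m)] : ∃ (St : Cfsg.IrrCharacter (Cfsg.Sz F m))
    (X : Finset (Cfsg.IrrCharacter (Cfsg.Sz F m))),
    (St : Cfsg.Sz F m → ℂ) 1 = ((2 ^ (2 * m + 1)) ^ 2 : ℕ) ∧
      (∀ g, Free Q g → (St : Cfsg.Sz F m → ℂ) g = -1) ∧
      2 * X.card + 2 = 2 ^ (2 * m + 1) ∧
      (∀ χ ∈ X, (χ : Cfsg.Sz F m → ℂ) 1 = ((2 ^ (2 * m + 1)) ^ 2 + 1 : ℕ)) ∧
      (∀ χ ∈ X, ∀ g, Free Q g → (χ : Cfsg.Sz F m → ℂ) g = 0) ∧
      ∀ χ, χ ∉ X → χ ≠ St → χ ≠ Cfsg.Lib.Chars.principal (Cfsg.Sz F m) →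
        ∀ k : Fˣ, k ≠ 1 → (χ : Cfsg.Sz F m → ℂ) (hI Q k) = 0 := by
  classical
  haveI : Fintype (Cfsg.suzukiOvoid F m) := Fintype.ofFinite _
  haveI : IsSimpleGroup (Cfsg.Sz F m) := simple Q
  haveI : Fintype (Fˣ →* ℂˣ) := Fintype.ofFinite _
  obtain ⟨St, hSt1, hStF, hStI⟩ := exists_steinberg Q
  set q := 2 ^ (2 * m + 1) with hq
  have hq8 : 8 ≤ q := by
    calc 8 = 2 ^ (2 * 1 + 1) := rfl
      _ ≤ q := Nat.pow_le_pow_right two_pos (by have := Q.hm; omega)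
  set B := stabilizer (Cfsg.Sz F m) (pI m : Cfsg.suzukiOvoid F m) with hB
  obtain ⟨π, hπU, hπ⟩ := exists_proj Q
  have hcard : Nat.card (uSub Q) + 1 = Fintype.card (Cfsg.suzukiOvoid F m) := by
    rw [card_uSub Q, card_ovoid' Q]
  have hqodd : Odd (q - 1) :=
    Nat.Even.sub_odd (Nat.one_le_pow _ _ two_pos) (Nat.even_pow.2 ⟨even_two, by omega⟩) odd_one
  have hodd : Odd (Nat.card (Cfsg.Lib.OddChar.Zassenhaus.stab₂ (Cfsg.Sz F m) (pI m : Cfsg.suzukiOvoid F m) (pO m))) := by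
    rw [card_two_point Q]
    exact hqodd
  set Z := Finset.univ.erase (1 : Fˣ →* ℂˣ) with hZ
  have hirr : ∀ l ∈ Z, Cfsg.IsIrrCharacter (Cfsg.Sz F m) (Cfsg.indFun B fun g => (l (π g) : ℂ)) := by
    intro l hl
    refine (Cfsg.Lib.OddChar.Zassenhaus.induced_linear (zassenhaus Q) pI_ne_pO hodd (uSub_le Q) hcard
      (fun u hu hu1 c hc => uSub_fix Q hu hu1 hc) _ (Cfsg.Lib.Chars.isCharacter_linear (l.comp π)) (by simp)
      (fun u hu => by simp [hπU u hu]) fun h => (Finset.mem_erase.1 hl).1 (MonoidHom.ext fun k => ?_)).1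
    exact Units.ext (by simpa [hπ] using congrFun h ⟨hI Q k, hI_stab Q k⟩)
  let c : Z → Cfsg.IrrCharacter (Cfsg.Sz F m) := fun l => ⟨_, hirr l.1 l.2⟩
  have hcv : ∀ (l : Z) (k : Fˣ), k ≠ 1 →
      (c l : Cfsg.Sz F m → ℂ) (hI Q k) = (l.1 k : ℂ) + (l.1 k⁻¹ : ℂ) :=
    fun l k hk => indFun_hI Q π hπ hπU l.1 hk
  set X := Finset.univ.image c with hX
  have hX1 : ∀ χ ∈ X, (χ : Cfsg.Sz F m → ℂ) 1 = ((q ^ 2 + 1 : ℕ) : ℂ) := by
    intro χ hχ
    obtain ⟨l, -, rfl⟩ := Finset.mem_image.1 hχ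
    show Cfsg.indFun B (fun g => (l.1 (π g) : ℂ)) 1 = _
    rw [Cfsg.Lib.Chars.indFun_one, index_stab Q]; simp [hq]
  have hStX : St ∉ X := fun h => by
    have h1 := (hX1 St h).symm.trans hSt1
    rw [Nat.cast_inj] at h1
    omega
  set one := Cfsg.Lib.Chars.principal (Cfsg.Sz F m)
  have h11 : (one : Cfsg.Sz F m → ℂ) 1 = 1 := rfl
  have h1X : one ∉ X := fun h => by
    have h1 := (hX1 one h).symm.trans h11
    rw [Nat.cast_eq_one] at h1
    nlinarith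
  have h1St : one ≠ St := fun h => by
    have h1 : (1 : ℂ) = ((q ^ 2 : ℕ) : ℂ) := by rw [← hSt1, ← h, h11]
    rw [eq_comm, Nat.cast_eq_one] at h1
    nlinarith
  -- the fibres have at most two elements
  have hfib : ∀ χ ∈ X, (Finset.univ.filter fun l : Z => c l = χ).card ≤ 2 := by
    intro χ hχ
    obtain ⟨l, -, rfl⟩ := Finset.mem_image.1 hχ
    refine (Finset.card_le_card_of_injOn (fun l' : Z => l'.1) ?_ fun a _ b _ h => Subtype.ext h).trans
      (Finset.card_le_two (a := l.1) (b := l.1⁻¹))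
    intro l' hl'
    have h := (Finset.mem_filter.1 hl').2
    have hor : l'.1 = l.1 ∨ l'.1 = l.1⁻¹ := by
      refine Cfsg.Lib.OddChar.Zassenhaus.eq_or_inv_of_pointwise fun k => ?_
      rcases eq_or_ne k 1 with rfl | hk
      · simp
      have h1 : (l.1 k : ℂ) + (l.1 k : ℂ)⁻¹ = (l'.1 k : ℂ) + (l'.1 k : ℂ)⁻¹ := by
        simpa [hcv _ _ hk] using (congrFun (congrArg Subtype.val h) (hI Q k)).symm
      have hx := Units.ne_zero (l.1 k)
      have hy := Units.ne_zero (l'.1 k)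
      have h2 : ((l'.1 k : ℂ) - l.1 k) * ((l'.1 k : ℂ) * l.1 k - 1) = 0 := by
        field_simp at h1
        linear_combination -h1
      rcases mul_eq_zero.1 h2 with h3 | h3
      · exact Or.inl (Units.ext (sub_eq_zero.1 h3))
      · exact Or.inr (eq_inv_iff_mul_eq_one.2 (Units.ext (by rw [Units.val_mul]; exact sub_eq_zero.1 h3)))
    simpa using hor
  have hZcard : Z.card = q - 2 := by
    rw [hZ, Finset.card_erase_of_mem (Finset.mem_univ _), Finset.card_univ, ← Nat.card_eq_fintype_card,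
      Cfsg.Lib.Dual.card_hom (fun a b => mul_comm a b), Nat.card_units, Nat.card_eq_fintype_card, Q.hF]
    omega
  -- the column of the torus element
  let w : Cfsg.IrrCharacter (Cfsg.Sz F m) → Fˣ → ℝ := fun χ k => Complex.normSq ((χ : Cfsg.Sz F m → ℂ) (hI Q k))
  have hpos : ∀ χ ∈ X, ∀ k : Fˣ, k ≠ 1 → 0 < w χ k := by
    intro χ hχ k hk
    obtain ⟨l, -, rfl⟩ := Finset.mem_image.1 hχ
    refine Complex.normSq_pos.2 fun h0 => ?_
    rw [hcv l k hk, map_inv, Units.val_inv_eq_inv_val] at h0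
    have hx := Units.ne_zero (l.1 k)
    have h2 : (l.1 k : ℂ) ^ 2 = -1 := by
      field_simp at h0
      linear_combination h0
    have h3 : (l.1 k : ℂ) ^ (q - 1) = 1 := by
      rw [← Units.val_pow_eq_pow_val, ← map_pow]
      have hu : k ^ (q - 1) = 1 := by
        rw [show q - 1 = Nat.card Fˣ by rw [Nat.card_units, Nat.card_eq_fintype_card, Q.hF]]
        exact pow_card_eq_one'
      rw [hu, map_one, Units.val_one]
    have h4 : ((l.1 k : ℂ) ^ 2) ^ (q - 1) = 1 := by rw [← pow_mul, mul_comm, pow_mul, h3, one_pow]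
    rw [h2, hqodd.neg_one_pow] at h4
    norm_num at h4
  have hZsum : ∀ k : Fˣ, k ≠ 1 → ∑ l : Z, w (c l) k = 2 * (q : ℝ) - 6 := by
    intro k hk
    apply Complex.ofReal_injective
    simp only [w, Complex.ofReal_sum, Complex.normSq_eq_conj_mul_self]
    have hsq : ∀ j : Fˣ, j ≠ 1 → ∑ l ∈ Z, ((l j : ℂ)) = -1 := by
      intro j hj
      rw [hZ, Finset.sum_erase_eq_sub (Finset.mem_univ 1),
        Cfsg.Lib.OddChar.Zassenhaus.sum_hom_apply (fun a b => mul_comm a b) hj]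
      simp
    have hk2 : ∀ j : Fˣ, j ≠ 1 → j * j ≠ 1 := by
      intro j hj hjj
      refine hj (orderOf_eq_one_iff.1 (Nat.eq_one_of_dvd_coprimes (Nat.prime_two.coprime_iff_not_dvd.2
        hqodd.not_two_dvd_nat) (orderOf_dvd_of_pow_eq_one (by rw [sq]; exact hjj)) ?_))
      rw [show q - 1 = Nat.card Fˣ by rw [Nat.card_units, Nat.card_eq_fintype_card, Q.hF]]
      exact orderOf_dvd_natCard j
    rw [Finset.sum_congr rfl fun l _ => show conj ((c l : Cfsg.Sz F m → ℂ) (hI Q k)) * (c l : Cfsg.Sz F m → ℂ) (hI Q k) =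
        2 + (l.1 (k * k) : ℂ) + (l.1 (k⁻¹ * k⁻¹) : ℂ) by
      have hc1 : ∀ j : Fˣ, conj (l.1 j : ℂ) = (l.1 j : ℂ)⁻¹ := fun j =>
        (Complex.inv_eq_conj (Complex.norm_eq_one_of_pow_eq_one
          (by rw [← Units.val_pow_eq_pow_val, ← map_pow, pow_card_eq_one', map_one, Units.val_one])
          Nat.card_pos.ne')).symm
      rw [hcv l k hk]
      simp only [map_add, map_mul, map_inv, Units.val_mul, Units.val_inv_eq_inv_val, map_inv₀, hc1]
      field_simp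
      ring, Finset.sum_coe_sort Z (fun l => (2 : ℂ) + (l (k * k) : ℂ) + (l (k⁻¹ * k⁻¹) : ℂ)),
      Finset.sum_add_distrib, Finset.sum_add_distrib, hsq _ (hk2 k hk),
      hsq _ (hk2 k⁻¹ (inv_ne_one.2 hk)), Finset.sum_const, hZcard, nsmul_eq_mul, Nat.cast_sub (by omega)]
    push_cast; ring
  have hlower : ∀ k : Fˣ, k ≠ 1 → 2 * (q : ℝ) - 6 ≤ 2 * ∑ χ ∈ X, w χ k := by
    intro k hk
    rw [← hZsum k hk, ← Finset.sum_fiberwise_of_maps_to (t := X) (g := c)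
      (fun l _ => Finset.mem_image_of_mem _ (Finset.mem_univ l)), Finset.mul_sum]
    refine Finset.sum_le_sum fun χ hχ => ?_
    rw [Finset.sum_congr rfl (g := fun _ => w χ k) fun l hl => by rw [(Finset.mem_filter.1 hl).2],
      Finset.sum_const, nsmul_eq_mul]
    exact mul_le_mul_of_nonneg_right (by exact_mod_cast hfib χ hχ) (Complex.normSq_nonneg _)
  have htot : ∀ k : Fˣ, k ≠ 1 → ∑ χ : Cfsg.IrrCharacter (Cfsg.Sz F m), w χ k = (q : ℝ) - 1 := by
    intro k hk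
    apply Complex.ofReal_injective
    simp only [w, Complex.ofReal_sum, Complex.normSq_eq_conj_mul_self]
    rw [Finset.sum_congr rfl fun χ _ => mul_comm _ _, Cfsg.Lib.Chars.second_orthogonality,
      if_pos (IsConj.refl _), show Subgroup.centralizer ({hI Q k} : Set (Cfsg.Sz F m)) = (hHom Q).range from
        cent_hI_eq Q hk, (range_data Q).2, Nat.cast_sub (Nat.one_le_pow _ _ two_pos)]
    push_cast [hq]; ring
  set R := (((Finset.univ : Finset (Cfsg.IrrCharacter (Cfsg.Sz F m))).erase one).erase St) \ X with hR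
  have hsplit : ∀ k : Fˣ, k ≠ 1 → w one k + (w St k + (∑ χ ∈ X, w χ k + ∑ χ ∈ R, w χ k)) = (q : ℝ) - 1 := by
    intro k hk
    rw [← htot k hk, ← Finset.add_sum_erase Finset.univ _ (Finset.mem_univ one),
      ← Finset.add_sum_erase _ _ (Finset.mem_erase.2 ⟨h1St.symm, Finset.mem_univ St⟩)]
    congr 2
    rw [hR, add_comm, Finset.sum_sdiff]
    intro χ hχ
    refine Finset.mem_erase.2 ⟨fun e => hStX (e ▸ hχ), Finset.mem_erase.2 ⟨fun e => h1X (e ▸ hχ), Finset.mem_univ _⟩⟩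
  have hw1 : ∀ k : Fˣ, w one k = 1 := fun k => by simp [w, one, Cfsg.Lib.Chars.principal]
  have hwSt : ∀ k : Fˣ, k ≠ 1 → w St k = 1 := fun k hk => by simp [w, hStI k hk]
  have hRnn : ∀ k : Fˣ, 0 ≤ ∑ χ ∈ R, w χ k := fun k => Finset.sum_nonneg fun _ _ => Complex.normSq_nonneg _
  refine ⟨St, X, hSt1, hStF, ?_, hX1, fun χ hχ g hg => ?_, fun χ hχX hχSt hχ1 k hk => ?_⟩
  · -- every fibre has exactly two elements
    obtain ⟨k, hk⟩ := exists_unit_ne_one Q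
    have hall : ∀ χ ∈ X, (Finset.univ.filter fun l : Z => c l = χ).card = 2 := by
      by_contra hne
      push Not at hne
      obtain ⟨χ₀, hχ₀, hne⟩ := hne
      have hlt : ∑ l : Z, w (c l) k < 2 * ∑ χ ∈ X, w χ k := by
        rw [← Finset.sum_fiberwise_of_maps_to (t := X) (g := c)
          (fun l _ => Finset.mem_image_of_mem _ (Finset.mem_univ l)), Finset.mul_sum]
        have hle : ∀ χ ∈ X, ∑ l ∈ Finset.univ.filter (fun l : Z => c l = χ), w (c l) k =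
            ((Finset.univ.filter fun l : Z => c l = χ).card : ℝ) * w χ k := fun χ hχ => by
          rw [Finset.sum_congr rfl (g := fun _ => w χ k) fun l hl => by rw [(Finset.mem_filter.1 hl).2],
            Finset.sum_const, nsmul_eq_mul]
        rw [Finset.sum_congr rfl hle]
        refine Finset.sum_lt_sum (fun χ hχ => mul_le_mul_of_nonneg_right (by exact_mod_cast hfib χ hχ)
          (Complex.normSq_nonneg _)) ⟨χ₀, hχ₀, mul_lt_mul_of_pos_right ?_ (hpos χ₀ hχ₀ k hk)⟩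
        exact_mod_cast lt_of_le_of_ne (hfib χ₀ hχ₀) hne
      have := hsplit k hk
      rw [hw1, hwSt k hk] at this
      rw [hZsum k hk] at hlt
      linarith [hRnn k]
    have h1 := Finset.card_eq_sum_card_fiberwise (s := (Finset.univ : Finset Z)) (t := X) (f := c)
      (fun l _ => Finset.mem_image_of_mem _ (Finset.mem_univ l))
    rw [Finset.sum_congr rfl hall, Finset.sum_const, smul_eq_mul, Finset.card_univ, Fintype.card_coe, hZcard] at h1
    omega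
  · obtain ⟨l, -, rfl⟩ := Finset.mem_image.1 hχ
    exact indFun_free Q hg _
  · have hmem : χ ∈ R := Finset.mem_sdiff.2
      ⟨Finset.mem_erase.2 ⟨hχSt, Finset.mem_erase.2 ⟨hχ1, Finset.mem_univ _⟩⟩, hχX⟩
    have h1 := hsplit k hk
    rw [hw1, hwSt k hk] at h1
    have h2 := hlower k hk
    have h3 : ∑ χ ∈ R, w χ k = 0 := le_antisymm (by linarith) (hRnn k)
    exact Complex.normSq_eq_zero.1
      ((Finset.sum_eq_zero_iff_of_nonneg fun _ _ => Complex.normSq_nonneg _).1 h3 χ hmem)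

end Cfsg.Lib.Suz
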