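import Cfsg.Agent.Suz.Torus
import Cfsg.Agent.Suz.Lie
import Cfsg.Agent.Known.ChevAut.OutStruct

/-!
The automorphisms of the Suzuki groups: an inner automorphism times a field automorphism.

An automorphism fixing the upper unipotent group pointwise, preserving the point stabiliser and sending the
antidiagonal element into its coset fixes every point of the ovoid, hence is trivial.
-/

set_option autoImplicit false
set_option linter.unusedSectionVars false

namespace Cfsg.Lib.Suz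

variable {F : Type*} [Field F] [Fintype F] {m : ℕ} (Q : Par F m)

local notation "SS" => Cfsg.Sz F m
local notation "inf∞" => Cfsg.suzukiPointInfinity F

include Q

/-- The antidiagonal element. -/
def wS : SS := ⟨W F, W_mem Q⟩

/-- The entrywise field automorphism stays inside the group. -/
theorem map_mem (σ : F ≃+* F) {g : SL4 F} (hg : g ∈ SS) :
    Matrix.SpecialLinearGroup.map σ.toRingHom g ∈ SS := by
  refine Sz_le Q (G := (Cfsg.Sz F m).comap (Matrix.SpecialLinearGroup.map σ.toRingHom)) ?_ ?_ ?_ hg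
  · intro a b
    have e : Matrix.SpecialLinearGroup.map σ.toRingHom (T m a b) = T m (σ a) (σ b) := Subtype.ext (by
      show (Tmat m a b).map σ = Tmat m (σ a) (σ b)
      ext i j
      fin_cases i <;> fin_cases j <;> simp [Tmat, fn])
    show _ ∈ SS
    rw [e]; exact T_mem Q _ _
  · intro k
    have e : Matrix.SpecialLinearGroup.map σ.toRingHom (H m k) = H m (Units.map σ.toRingHom.toMonoidHom k) :=
      Subtype.ext (by
        show (H m k).1.map σ = (H m (Units.map σ.toRingHom.toMonoidHom k)).1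
        ext i j
        fin_cases i <;> fin_cases j <;> simp [H])
    show _ ∈ SS
    rw [e]; exact H_mem Q _
  · have e : Matrix.SpecialLinearGroup.map σ.toRingHom (W F) = W F := Subtype.ext (by
      show (W F).1.map σ = (W F).1
      ext i j
      fin_cases i <;> fin_cases j <;> simp [W])
    show _ ∈ SS
    rw [e]; exact W_mem Q

/-- The field automorphisms of the group. -/
noncomputable def fld : (F ≃+* F) →* MulAut SS where
  toFun σ :=
    { toFun := fun g => ⟨Matrix.SpecialLinearGroup.map σ.toRingHom g.1, map_mem Q σ g.2⟩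
      invFun := fun g => ⟨Matrix.SpecialLinearGroup.map σ.symm.toRingHom g.1, map_mem Q σ.symm g.2⟩
      left_inv := fun g => Subtype.ext (Subtype.ext (Matrix.ext fun i j => σ.symm_apply_apply _))
      right_inv := fun g => Subtype.ext (Subtype.ext (Matrix.ext fun i j => σ.apply_symm_apply _))
      map_mul' := fun g h => Subtype.ext (by
        show Matrix.SpecialLinearGroup.map σ.toRingHom (g.1 * h.1) = _
        rw [map_mul]; rfl) }
  map_one' := MulEquiv.ext fun g => Subtype.ext (Subtype.ext (Matrix.ext fun i j => rfl))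
  map_mul' σ τ := MulEquiv.ext fun g => Subtype.ext (Subtype.ext (Matrix.ext fun i j => rfl))

theorem fld_uu (σ : F ≃+* F) (a b : F) : fld Q σ (uu Q a b) = uu Q (σ a) (σ b) := Subtype.ext (Subtype.ext (by
  show (Tmat m a b).map σ = Tmat m (σ a) (σ b)
  ext i j
  fin_cases i <;> fin_cases j <;> simp [Tmat, fn]))

theorem fld_hI (σ : F ≃+* F) (k : Fˣ) : fld Q σ (hI Q k) = hI Q (Units.map σ.toRingHom.toMonoidHom k) :=
  Subtype.ext (Subtype.ext (by
    show (H m k).1.map σ = (H m (Units.map σ.toRingHom.toMonoidHom k)).1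
    ext i j
    fin_cases i <;> fin_cases j <;> simp [H]))

theorem fld_wS (σ : F ≃+* F) : fld Q σ (wS Q) = wS Q := Subtype.ext (Subtype.ext (by
  show (W F).1.map σ = (W F).1
  ext i j
  fin_cases i <;> fin_cases j <;> simp [W]))

theorem hI_conj (k : Fˣ) (a b : F) :
    hI Q k * uu Q a b * (hI Q k)⁻¹ = uu Q ((k : F) * a) ((k : F) ^ (2 ^ (m + 1) + 1) * b) :=
  Subtype.ext (H_conj_T Q k a b)

theorem fix_of_conj {g : SS} (h : g * uu Q 1 0 * g⁻¹ ∈ uSub Q) : g.1 • inf∞ = inf∞ :=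
  ti Q (uu_mem Q 1 0) (fun e => one_ne_zero (uu_inj Q (e.trans (uu_zero Q).symm)).1) h

theorem conj_of_fix {g x : SS} (hg : g.1 • inf∞ = inf∞) (hx : x ∈ uSub Q) : g * x * g⁻¹ ∈ uSub Q := by
  have h : g ∈ Subgroup.normalizer (uSub Q : Set SS) := by
    rw [normalizer_uSub Q]; exact hg
  exact (Subgroup.mem_normalizer_iff.1 h x).1 hx

/-- An automorphism fixing every coset of the point stabiliser is trivial. -/
theorem eq_one_of_fixes {φ : MulAut SS} (hU : ∀ a b, φ (uu Q a b) = uu Q a b)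
    (hH : ∀ k, (φ (hI Q k)).1 • inf∞ = inf∞) (hW : (φ (wS Q)).1 • inf∞ = pt m 0 0) : φ = 1 := by
  have key : ∀ g : SS, (φ g).1 • inf∞ = g.1 • inf∞ := by
    intro g
    rcases elt_cases Q g.2 with ⟨a, b, k, e⟩ | ⟨a, b, c, d, k, e⟩
    · have eg : g = uu Q a b * hI Q k := Subtype.ext e
      rw [eg, map_mul, hU, Subgroup.coe_mul, Subgroup.coe_mul, mul_smul, mul_smul, hH]
      show T m a b • inf∞ = T m a b • H m k • inf∞
      rw [H_inf]
    · have eg : g = uu Q a b * wS Q * (uu Q c d * hI Q k) := Subtype.ext e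
      rw [eg, map_mul, map_mul, map_mul, hU, hU]
      simp only [Subgroup.coe_mul, mul_smul, hH]
      show T m a b • (φ (wS Q)).1 • T m c d • inf∞ = T m a b • W F • T m c d • H m k • inf∞
      rw [T_inf, hW, H_inf, T_inf, W_inf m]
  refine MulEquiv.ext fun g => ?_
  show φ g = g
  rw [← inv_mul_eq_one]
  refine Subtype.ext (fixes_all Q ((φ g)⁻¹ * g).2 fun p hp => ?_)
  obtain ⟨x, hx, rfl⟩ := transitive Q (inf_mem m) hp
  have h1 := key (g * ⟨x, hx⟩)
  have h2 := key ⟨x, hx⟩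
  rw [map_mul, Subgroup.coe_mul, Subgroup.coe_mul, mul_smul, mul_smul, h2] at h1
  rw [Subgroup.coe_mul, Subgroup.coe_inv, mul_smul, inv_smul_eq_iff]
  exact h1.symm

/-- An automorphism in standard position. -/
structure Std (φ : MulAut SS) : Prop where
  unip : ∀ a b, φ (uu Q a b) ∈ uSub Q
  tor : ∀ k, ∃ l, φ (hI Q k) = hI Q l
  anti : (φ (wS Q)).1 • inf∞ = pt m 0 0

theorem fixed_point_hI {l : Fˣ} (hl : l ≠ 1) {p : Projectivization F (Fin 4 → F)}
    (hp : p ∈ Cfsg.suzukiOvoid F m) (h : H m l • p = p) : p = inf∞ ∨ p = pt m 0 0 := by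
  rcases mem_ovoid_iff.1 hp with e | ⟨x, y, e⟩
  · exact Or.inl e
  · subst e
    rw [H_pt Q] at h
    obtain ⟨hx, hy⟩ := pt_inj h
    right
    have hx0 : x = 0 := by
      by_contra h0
      exact hl (Units.ext ((mul_eq_right₀ h0).1 hx))
    have hy0 : y = 0 := by
      by_contra h0
      exact hl (units_s1 Q ((mul_eq_right₀ h0).1 hy))
    rw [hx0, hy0]

theorem exists_std (φ : MulAut SS) : ∃ c : SS, Std Q (MulAut.conj c * φ) := by
  classical
  obtain ⟨k0, hk0⟩ := exists_unit_ne_one Q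
  obtain ⟨c, hc⟩ : ∃ c : SS, ∀ x, c * φ x * c⁻¹ ∈ uSub Q ↔ x ∈ uSub Q := by
    have hinj : Function.Injective φ.toMonoidHom := φ.injective
    have h2 : IsPGroup 2 ((uSub Q).map φ.toMonoidHom) := (isPGroup_uSub Q).map _
    have hidx : ¬ 2 ∣ ((uSub Q).map φ.toMonoidHom).index := by
      rw [Subgroup.index_map_of_bijective (f := φ.toMonoidHom) φ.bijective]; exact not_dvd_index Q
    have : Fact (Nat.Prime 2) := ⟨Nat.prime_two⟩
    obtain ⟨c, hc⟩ := exists_conj Q (h2.toSylow hidx)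
    refine ⟨c, fun x => (hc (φ x)).symm.trans ?_⟩
    exact ⟨fun ⟨y, hy, e⟩ => φ.injective e ▸ hy, fun hx => ⟨x, hx, rfl⟩⟩
  set ψ := MulAut.conj c * φ with hψdef
  have hψ : ∀ x, ψ x ∈ uSub Q ↔ x ∈ uSub Q := fun x => hc x
  have hfix : ∀ g : SS, g.1 • inf∞ = inf∞ → (ψ g).1 • inf∞ = inf∞ := by
    intro g hg
    have h1 : ψ (g * uu Q 1 0 * g⁻¹) ∈ uSub Q := (hψ _).2 (conj_of_fix Q hg (uu_mem Q 1 0))
    rw [map_mul, map_mul, map_inv] at h1
    refine ti Q ((hψ _).2 (uu_mem Q 1 0)) (fun e => ?_) h1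
    rw [EmbeddingLike.map_eq_one_iff] at e
    exact one_ne_zero (uu_inj Q (e.trans (uu_zero Q).symm)).1
  obtain ⟨a, b, l, hl⟩ := stab_inf Q (ψ (hI Q k0)).2 (hfix _ (H_inf m k0))
  have hl1 : l ≠ 1 := by
    rintro rfl
    rw [H_one Q, mul_one] at hl
    obtain ⟨a', b', e⟩ := (hψ (hI Q k0)).1 ⟨a, b, hl⟩
    have h0 := congrArg (fun g : SL4 F => g • pt m (0 : F) 0) (show H m k0 = T m a' b' from e)
    simp only [H_pt Q, T_pt Q, mul_zero, zero_add, add_zero] at h0
    obtain ⟨rfl, rfl⟩ := pt_inj h0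
    rw [T_zero Q, ← H_one Q] at e
    exact hk0 (H_injective Q e)
  -- the fixed point of the image of the torus element
  obtain ⟨x, y, hxy⟩ : ∃ x y, T m a b • H m l • pt m x y = pt m x y := by
    have h1 : (1 : F) - (l : F) ≠ 0 := sub_ne_zero.2 fun e => hl1 (Units.ext e.symm)
    have h2 : (1 : F) - (l : F) ^ (2 ^ (m + 1) + 1) ≠ 0 := sub_ne_zero.2 fun e => hl1 (units_s1 Q e.symm)
    refine ⟨a / (1 - l), (a ^ (2 ^ (m + 1)) * ((l : F) * (a / (1 - l))) + b) / (1 - (l : F) ^ (2 ^ (m + 1) + 1)), ?_⟩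
    rw [H_pt Q, T_pt Q]
    congr 1 <;> field_simp <;> ring
  set u : SS := (uu Q x y)⁻¹ with hu
  refine ⟨u * c, ?_⟩
  have hval : ∀ g, (MulAut.conj (u * c) * φ) g = u * ψ g * u⁻¹ := fun g => by
    rw [map_mul, mul_assoc]; rfl
  have huU : u ∈ uSub Q := inv_mem (uu_mem Q x y)
  have huinf : u.1 • inf∞ = inf∞ := by
    rw [hu, Subgroup.coe_inv, inv_smul_eq_iff]; exact (T_inf m x y).symm
  have hzero : (T m x y) • pt m (0 : F) 0 = pt m x y := by
    rw [T_pt Q]; simp [zero_pow (pow_ne_zero (m + 1) two_ne_zero)]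
  obtain ⟨l', hl'⟩ : ∃ l', (u * ψ (hI Q k0) * u⁻¹).1 = H m l' := by
    have hval2 : (u * ψ (hI Q k0) * u⁻¹).1 = (T m x y)⁻¹ * (T m a b * H m l) * T m x y := by
      rw [hu, Subgroup.coe_mul, Subgroup.coe_mul, inv_inv, Subgroup.coe_inv, hl]; rfl
    obtain ⟨l', hl'⟩ := stab_pair Q (u * ψ (hI Q k0) * u⁻¹).2
      (by rw [hval2, mul_smul, mul_smul, mul_smul, T_inf, H_inf, T_inf, inv_smul_eq_iff, T_inf])
      (by rw [hval2, mul_smul, mul_smul, mul_smul, hzero, hxy, inv_smul_eq_iff, hzero])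
    exact ⟨l', hl'⟩
  have hl'1 : l' ≠ 1 := by
    rintro rfl
    have e : u * ψ (hI Q k0) * u⁻¹ = 1 := Subtype.ext (hl'.trans (H_one Q))
    rw [mul_inv_eq_one, mul_eq_left, EmbeddingLike.map_eq_one_iff] at e
    exact hk0 (H_injective Q ((congrArg Subtype.val e).trans (H_one Q).symm))
  refine ⟨fun a b => ?_, fun k => ?_, ?_⟩
  · rw [hval]
    exact mul_mem (mul_mem huU ((hψ _).2 (uu_mem Q a b))) (inv_mem huU)
  · rw [hval]
    have hcomm : Commute (hI Q k) (hI Q k0) := by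
      show hHom Q k * hHom Q k0 = hHom Q k0 * hHom Q k
      rw [← map_mul, ← map_mul, mul_comm]
    have h' : Commute (u * ψ (hI Q k) * u⁻¹) (hI Q l') := by
      rw [show hI Q l' = u * ψ (hI Q k0) * u⁻¹ from Subtype.ext hl'.symm]
      exact (hcomm.map ψ.toMonoidHom).map (MulAut.conj u).toMonoidHom
    obtain ⟨k', e⟩ := cent_hI Q hl'1 h'
    exact ⟨k', e.symm⟩
  · rw [hval]
    have hrel : wS Q * hI Q k0 = (hI Q k0)⁻¹ * wS Q := by
      rw [eq_inv_mul_iff_mul_eq, ← mul_assoc]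
      exact Subtype.ext (hwh Q k0)
    have h1 := congrArg (fun g => u * ψ g * u⁻¹) hrel
    simp only [map_mul, map_inv] at h1
    have h2 : (u * ψ (wS Q) * u⁻¹) * (u * ψ (hI Q k0) * u⁻¹) =
        (u * ψ (hI Q k0) * u⁻¹)⁻¹ * (u * ψ (wS Q) * u⁻¹) := by
      rw [show (u * ψ (wS Q) * u⁻¹) * (u * ψ (hI Q k0) * u⁻¹) = u * (ψ (wS Q) * ψ (hI Q k0)) * u⁻¹ by group, h1]
      group
    have h3 := congrArg (fun g : SS => g.1 • inf∞) h2
    simp only [Subgroup.coe_mul, Subgroup.coe_inv] at h3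
    rw [mul_smul, mul_smul ((u.1 * (ψ (hI Q k0)).1 * u.1⁻¹)⁻¹)] at h3
    rw [show u.1 * (ψ (hI Q k0)).1 * u.1⁻¹ = H m l' from hl', H_inf, eq_inv_smul_iff] at h3
    rcases fixed_point_hI Q hl'1 (smul_ovoid Q (u * ψ (wS Q) * u⁻¹).2 (inf_mem m)) h3 with e | e
    · exfalso
      rw [Subgroup.coe_mul, Subgroup.coe_mul, mul_smul, mul_smul,
        show (u⁻¹).1 • inf∞ = inf∞ by rw [hu, inv_inv]; exact T_inf m x y] at e
      nth_rw 2 [← huinf] at e
      have h4 : ψ (wS Q * uu Q 1 0 * (wS Q)⁻¹) ∈ uSub Q := by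
        rw [map_mul, map_mul, map_inv]
        exact conj_of_fix Q (MulAction.injective _ e) ((hψ _).2 (uu_mem Q 1 0))
      have h5 := fix_of_conj Q ((hψ _).1 h4)
      exact pt_ne_inf m 0 0 ((W_inf m).symm.trans h5)
    · exact e

theorem exists_inner_mul_field (φ : MulAut SS) : ∃ (c : SS) (σ : F ≃+* F), φ = MulAut.conj c * fld Q σ := by
  classical
  have := charP Q
  obtain ⟨c, hc⟩ := exists_std Q φ
  -- the action on the central elements
  have hex : ∀ d : F, ∃ d' : F, (MulAut.conj c * φ) (uu Q 0 d) = uu Q 0 d' := by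
    intro d
    rcases eq_or_ne d 0 with rfl | hd
    · exact ⟨0, by rw [uu_zero, map_one]⟩
    · obtain ⟨k, hk⟩ := exists_s1_root Q (Units.mk0 d hd)
      obtain ⟨a', b', e⟩ := exists_uu Q (hc.unip (k : F) 0)
      refine ⟨a' ^ (2 ^ (m + 1) + 1), ?_⟩
      have hd' : (k : F) ^ (2 ^ (m + 1) + 1) = d := by
        rw [← Units.val_pow_eq_pow_val, hk]; rfl
      rw [← hd', ← uu_sq Q (k : F) 0, map_pow, e, uu_sq]
  choose α hα using hex
  obtain ⟨t, ht⟩ : ∃ t : Fˣ, (t : F) ^ (2 ^ (m + 1) + 1) * α 1 = 1 := by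
    have h1 : α 1 ≠ 0 := by
      intro h
      have := hα 1
      rw [h, uu_zero, EmbeddingLike.map_eq_one_iff] at this
      exact one_ne_zero (uu_inj Q (this.trans (uu_zero Q).symm)).2
    obtain ⟨t, ht⟩ := exists_s1_root Q (Units.mk0 (α 1) h1)⁻¹
    refine ⟨t, ?_⟩
    rw [← Units.val_pow_eq_pow_val, ht]
    simp [h1]
  set χ : MulAut SS := MulAut.conj (hI Q t) * (MulAut.conj c * φ) with hχ
  have hχval : ∀ g, χ g = hI Q t * (MulAut.conj c * φ) g * (hI Q t)⁻¹ := fun g => rfl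
  let β : F → F := fun d => (t : F) ^ (2 ^ (m + 1) + 1) * α d
  have hβ : ∀ d, χ (uu Q 0 d) = uu Q 0 (β d) := fun d => by
    rw [hχval, hα, hI_conj, mul_zero]
  have hUU : ∀ a b, ∃ a' b', χ (uu Q a b) = uu Q a' b' := fun a b => by
    obtain ⟨a', b', e⟩ := exists_uu Q (hc.unip a b)
    exact ⟨_, _, by rw [hχval, e, hI_conj]⟩
  have hHH : ∀ k, ∃ l, χ (hI Q k) = hI Q l := fun k => by
    obtain ⟨l, e⟩ := hc.tor k
    refine ⟨l, ?_⟩
    rw [hχval, e, mul_inv_eq_iff_eq_mul]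
    show hHom Q t * hHom Q l = hHom Q l * hHom Q t
    rw [← map_mul, ← map_mul, mul_comm]
  have hWW : (χ (wS Q)).1 • inf∞ = pt m 0 0 := by
    rw [hχval, Subgroup.coe_mul, Subgroup.coe_mul, Subgroup.coe_inv, mul_smul, mul_smul,
      show (hI Q t).1⁻¹ • inf∞ = inf∞ by rw [inv_smul_eq_iff]; exact (H_inf m t).symm, hc.anti]
    show H m t • pt m (0 : F) 0 = _
    rw [H_pt Q, mul_zero, mul_zero]
  have hβ1 : β 1 = 1 := ht
  have hβinj : Function.Injective β := fun x y e => (uu_inj Q (χ.injective ((hβ x).trans (e ▸ (hβ y).symm)))).2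
  have hadd : ∀ x y, β (x + y) = β x + β y := by
    intro x y
    have h0 : ∀ u v : F, uu Q 0 u * uu Q 0 v = uu Q 0 (u + v) := fun u v => by
      rw [uu_mul]; simp [zero_pow (pow_ne_zero (m + 1) two_ne_zero)]
    have h := hβ (x + y)
    rw [← h0, map_mul, hβ, hβ, h0] at h
    exact (uu_inj Q h).2.symm
  have hβ0 : β 0 = 0 := by
    have h := hadd 0 0
    rw [add_zero] at h
    exact left_eq_add.1 h
  have hscale : ∀ k l : Fˣ, χ (hI Q k) = hI Q l → ∀ d : F,
      β ((k : F) ^ (2 ^ (m + 1) + 1) * d) = (l : F) ^ (2 ^ (m + 1) + 1) * β d := by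
    intro k l e d
    have h := hβ ((k : F) ^ (2 ^ (m + 1) + 1) * d)
    have h' : uu Q 0 ((k : F) ^ (2 ^ (m + 1) + 1) * d) = hI Q k * uu Q 0 d * (hI Q k)⁻¹ := by
      rw [hI_conj, mul_zero]
    rw [h', map_mul, map_mul, map_inv, hβ, e, hI_conj] at h
    exact (uu_inj Q h).2.symm
  have hmul : ∀ x y, β (x * y) = β x * β y := by
    intro x y
    rcases eq_or_ne x 0 with rfl | hx
    · rw [zero_mul, hβ0, zero_mul]
    · obtain ⟨k, hk⟩ := exists_s1_root Q (Units.mk0 x hx)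
      obtain ⟨l, hl⟩ := hHH k
      have hx' : (k : F) ^ (2 ^ (m + 1) + 1) = x := by rw [← Units.val_pow_eq_pow_val, hk]; rfl
      have h1 := hscale k l hl 1
      rw [mul_one, hβ1, mul_one] at h1
      rw [← hx', hscale k l hl, h1]
  let σ : F ≃+* F := RingEquiv.ofBijective
    ({ toFun := β, map_one' := hβ1, map_mul' := hmul, map_zero' := hβ0, map_add' := hadd } : F →+* F)
    (Finite.injective_iff_bijective.1 hβinj)
  have hσ : ∀ x, σ x = β x := fun x => rfl
  -- what remains fixes everything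
  set ρ : MulAut SS := (fld Q σ)⁻¹ * χ with hρ
  have hρval : ∀ g, ρ g = fld Q σ.symm (χ g) := fun g => by
    rw [hρ, ← map_inv]; rfl
  have hz : ∀ d, ρ (uu Q 0 d) = uu Q 0 d := fun d => by
    rw [hρval, hβ, fld_uu, ← hσ, map_zero, RingEquiv.symm_apply_apply]
  have hρH : ∀ k, ρ (hI Q k) = hI Q k := fun k => by
    obtain ⟨l, hl⟩ := hHH k
    have h1 : ∃ l', ρ (hI Q k) = hI Q l' := ⟨_, by rw [hρval, hl, fld_hI]⟩
    obtain ⟨l', hl'⟩ := h1
    have h2 : ρ (hI Q k * uu Q 0 1 * (hI Q k)⁻¹) = ρ (uu Q 0 ((k : F) ^ (2 ^ (m + 1) + 1))) := by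
      rw [hI_conj, mul_zero, mul_one]
    rw [map_mul, map_mul, map_inv, hz, hz, hl', hI_conj, mul_zero, mul_one] at h2
    have h3 := (uu_inj Q h2).2
    have h4 : (l' : F) = k := by
      have : l' * k⁻¹ = 1 := units_s1 Q (by
        rw [Units.val_mul, mul_pow, h3, ← mul_pow, ← Units.val_mul, mul_inv_cancel, Units.val_one, one_pow])
      rw [mul_inv_eq_one.1 this]
    rw [hl', Units.ext h4]
  have hρa : ∀ a, ∃ g, ρ (uu Q a 0) = uu Q a g := fun a => by
    obtain ⟨a', b', e⟩ := hUU a 0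
    have h1 : ρ (uu Q a 0) = uu Q (σ.symm a') (σ.symm b') := by rw [hρval, e, fld_uu]
    have h2 := congrArg (fun g => g ^ 2) h1
    rw [← map_pow, uu_sq, uu_sq, hz] at h2
    have h3 := (uu_inj Q h2).2
    refine ⟨σ.symm b', h1.trans ?_⟩
    congr 1
    rcases eq_or_ne a 0 with rfl | ha
    · exact pow_eq_zero_iff (Nat.succ_ne_zero _) |>.1 (h3.symm.trans (zero_pow (Nat.succ_ne_zero _)))
    · have hne : σ.symm a' ≠ 0 := fun h0 => ha (by
        rw [h0, zero_pow (Nat.succ_ne_zero _)] at h3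
        exact (pow_eq_zero_iff (Nat.succ_ne_zero _)).1 h3)
      have h4 : Units.mk0 _ hne * (Units.mk0 a ha)⁻¹ = 1 := units_s1 Q (by
        rw [Units.val_mul, mul_pow, Units.val_inv_eq_inv_val, inv_pow, Units.val_mk0, Units.val_mk0, ← h3,
          mul_inv_cancel₀ (pow_ne_zero _ ha)])
      exact congrArg Units.val (mul_inv_eq_one.1 h4)
  choose γ hγ using hρa
  have hg0 : γ 0 = 0 := by
    have h := hγ 0
    rw [uu_zero, map_one, ← uu_zero Q] at h
    exact (uu_inj Q h).2.symm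
  have hgs : ∀ (k : Fˣ) a, γ ((k : F) * a) = (k : F) ^ (2 ^ (m + 1) + 1) * γ a := fun k a => by
    have h : ρ (hI Q k * uu Q a 0 * (hI Q k)⁻¹) = uu Q ((k : F) * a) (γ ((k : F) * a)) := by
      rw [hI_conj, mul_zero, hγ]
    rw [map_mul, map_mul, map_inv, hρH, hγ, hI_conj] at h
    exact (uu_inj Q h).2.symm
  have hgc : ∀ a, γ a = γ 1 * a ^ (2 ^ (m + 1) + 1) := fun a => by
    rcases eq_or_ne a 0 with rfl | ha
    · rw [hg0, zero_pow (Nat.succ_ne_zero _), mul_zero]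
    · have h := hgs (Units.mk0 a ha) 1
      rw [Units.val_mk0, mul_one] at h
      rw [h, mul_comm]
  have hgadd : ∀ a b, γ (a + b) = γ a + γ b := fun a b => by
    have e : uu Q a 0 * uu Q b 0 = uu Q (a + b) 0 * uu Q 0 (a ^ (2 ^ (m + 1)) * b) := by
      rw [uu_mul, uu_mul]; simp
    have h := congrArg ρ e
    rw [map_mul, map_mul, hγ, hγ, hγ, hz, uu_mul, uu_mul] at h
    simp only [zero_add, add_zero, mul_zero] at h
    exact (add_right_cancel ((uu_inj Q h).2)).symm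
  have hg1 : γ 1 = 0 := by
    obtain ⟨b, hb⟩ := exists_s_ne Q
    have h := hgadd 1 b
    rw [hgc (1 + b), hgc b, pow_succ, add_pow_s Q, one_pow] at h
    by_contra h0
    refine hb ?_
    have h1 : (1 + b ^ 2 ^ (m + 1)) * (1 + b) = 1 + b ^ (2 ^ (m + 1) + 1) :=
      mul_left_cancel₀ h0 (by linear_combination h)
    have h2 : b ^ 2 ^ (m + 1) + b = 0 := by linear_combination h1
    exact (eq_neg_of_add_eq_zero_left h2).trans (neg_eq Q b)
  have hρU : ∀ a b, ρ (uu Q a b) = uu Q a b := fun a b => by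
    have e : uu Q a b = uu Q a 0 * uu Q 0 b := by rw [uu_mul]; simp
    rw [e, map_mul, hz, hγ, hgc, hg1, zero_mul]
  have hρ1 : ρ = 1 := eq_one_of_fixes Q hρU (fun k => by rw [hρH]; exact H_inf m k) (by
    have h : ρ (wS Q) = fld Q σ.symm (χ (wS Q)) := hρval _
    obtain ⟨a, b, k, e⟩ := stab_inf Q (g := (W F)⁻¹ * (χ (wS Q)).1) (mul_mem (inv_mem (W_mem Q)) (χ (wS Q)).2)
      (by rw [mul_smul, hWW, inv_smul_eq_iff, W_inf m])
    have e' : χ (wS Q) = wS Q * (uu Q a b * hI Q k) := Subtype.ext (by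
      rw [Subgroup.coe_mul, Subgroup.coe_mul]
      show _ = W F * (T m a b * H m k)
      rw [← e, mul_inv_cancel_left])
    rw [h, e', map_mul, map_mul, fld_wS, fld_uu, fld_hI]
    simp only [Subgroup.coe_mul, mul_smul]
    show W F • T m _ _ • H m _ • inf∞ = _
    rw [H_inf, T_inf, W_inf m])
  refine ⟨(hI Q t * c)⁻¹, σ, ?_⟩
  rw [hρ, inv_mul_eq_one] at hρ1
  rw [hρ1, hχ, map_inv, map_mul]; group

theorem fld_inner {σ : F ≃+* F} {c : SS} (h : fld Q σ = MulAut.conj c) : σ = 1 := by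
  have h1 : c * uu Q 1 0 * c⁻¹ = uu Q 1 0 := by
    rw [← MulAut.conj_apply, ← h, fld_uu, map_one, map_zero]
  obtain ⟨a, b, rfl⟩ := exists_uu Q (cent_uu Q (uu_mem Q 1 0)
    (fun e => one_ne_zero (uu_inj Q (e.trans (uu_zero Q).symm)).1) (mul_inv_eq_iff_eq_mul.1 h1))
  refine RingEquiv.ext fun d => ?_
  have h2 := DFunLike.congr_fun h (uu Q 0 d)
  rw [fld_uu, MulAut.conj_apply, map_zero, eq_mul_inv_iff_mul_eq, uu_mul, uu_mul] at h2
  have h3 := (uu_inj Q h2).2
  simp [zero_pow (pow_ne_zero (m + 1) two_ne_zero)] at h3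
  rw [add_comm, add_left_cancel_iff] at h3
  exact h3

theorem card_out : Nat.card (Cfsg.Out SS) = 2 * m + 1 := by
  have := charP Q
  have : Fact (Nat.Prime 2) := ⟨Nat.prime_two⟩
  rw [← (Cfsg.Lib.Known.ChevAut.ringAut_facts (F := F) 2 (2 * m + 1) Q.hF).2]
  refine (Nat.card_eq_of_bijective ((QuotientGroup.mk' (Cfsg.Inn SS)).comp (fld Q)) ⟨?_, ?_⟩).symm
  · rw [injective_iff_map_eq_one]
    intro σ hσ
    obtain ⟨c, hc⟩ : fld Q σ ∈ Cfsg.Inn SS := (QuotientGroup.eq_one_iff _).1 hσ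
    exact fld_inner Q hc.symm
  · intro x
    obtain ⟨φ, rfl⟩ := QuotientGroup.mk'_surjective _ x
    obtain ⟨c, σ, rfl⟩ := exists_inner_mul_field Q φ
    refine ⟨σ, ?_⟩
    rw [map_mul, show QuotientGroup.mk' (Cfsg.Inn SS) (MulAut.conj c) = 1 from
      (QuotientGroup.eq_one_iff _).2 ⟨c, rfl⟩, one_mul]
    rfl

end Cfsg.Lib.Suz
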