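import Cfsg.Agent.Suz.SolubBase
import Mathlib

/-!
Counting the solubilisers in a Suzuki group of prime exponent.
-/

set_option autoImplicit false
set_option linter.unusedSectionVars false
set_option linter.style.haveILetI false

open scoped Pointwise

namespace Cfsg.Lib.Suz.Solub

open Cfsg.Lib.Suz Cfsg.Lib.Suz.Sub

/-- Conjugate elements have centralisers of the same order. -/
theorem card_cent_conj {G : Type*} [Group G] {a b : G} (h : IsConj a b) :
    Nat.card (Subgroup.centralizer ({b} : Set G)) = Nat.card (Subgroup.centralizer ({a} : Set G)) := by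
  obtain ⟨c, rfl⟩ := isConj_iff.1 h
  rw [← map_conj_centralizer, Subgroup.card_map_of_injective (MulAut.conj c).injective]

theorem arith_invol {q r K0 K1 K2 : ℕ} (h8 : 8 ≤ q) (h2 : 2 * r ≤ q)
    (k0 : K0 * (2 * (q - 1)) = (q - 1) * q ^ 2) (k1 : K1 * (4 * (q + r + 1)) = (q + r + 1) * q ^ 2)
    (k2 : K2 * (4 * (q - r + 1)) = (q - r + 1) * q ^ 2) :
    q ^ 2 * (q - 1) + (K0 * (2 * (q - 1) - 2) + K1 * (4 * (q + r + 1) - 4) + K2 * (4 * (q - r + 1) - 4)) =
      q ^ 2 * (4 * q - 3) := by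
  have e0 : 2 * K0 = q ^ 2 := Nat.eq_of_mul_eq_mul_left (show 0 < q - 1 by omega) (by rw [← k0]; ring)
  have e1 : 4 * K1 = q ^ 2 := Nat.eq_of_mul_eq_mul_left (show 0 < q + r + 1 by omega) (by rw [← k1]; ring)
  have e2 : 4 * K2 = q ^ 2 := Nat.eq_of_mul_eq_mul_left (show 0 < q - r + 1 by omega) (by rw [← k2]; ring)
  rw [show 2 * (q - 1) - 2 = 2 * (q - 2) by omega, show 4 * (q + r + 1) - 4 = 4 * (q + r) by omega,
    show 4 * (q - r + 1) - 4 = 4 * (q - r) by omega,
    show K0 * (2 * (q - 2)) = (2 * K0) * (q - 2) by ring, show K1 * (4 * (q + r)) = (4 * K1) * (q + r) by ring,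
    show K2 * (4 * (q - r)) = (4 * K2) * (q - r) by ring, e0, e1, e2, ← mul_add, ← mul_add, ← mul_add]
  congr 1
  omega

theorem arith_four {q r K1 K2 : ℕ} (h8 : 8 ≤ q) (h2 : 2 * r ≤ q)
    (k1 : K1 * (4 * (q + r + 1)) = (q + r + 1) * (2 * q))
    (k2 : K2 * (4 * (q - r + 1)) = (q - r + 1) * (2 * q)) :
    q ^ 2 * (q - 1) + (K1 * (4 * (q + r + 1) - 4) + K2 * (4 * (q - r + 1) - 4)) = q ^ 2 * (q + 3) := by
  have e1 : 4 * K1 = 2 * q := Nat.eq_of_mul_eq_mul_left (show 0 < q + r + 1 by omega) (by rw [← k1]; ring)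
  have e2 : 4 * K2 = 2 * q := Nat.eq_of_mul_eq_mul_left (show 0 < q - r + 1 by omega) (by rw [← k2]; ring)
  rw [show 4 * (q + r + 1) - 4 = 4 * (q + r) by omega, show 4 * (q - r + 1) - 4 = 4 * (q - r) by omega,
    show K1 * (4 * (q + r)) = (4 * K1) * (q + r) by ring, show K2 * (4 * (q - r)) = (4 * K2) * (q - r) by ring,
    e1, e2, ← mul_add, show q + r + (q - r) = 2 * q by omega]
  obtain ⟨u, rfl⟩ : ∃ u, q = u + 1 := ⟨q - 1, by omega⟩
  rw [Nat.add_sub_cancel]
  ring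

variable {F : Type*} [Field F] [Fintype F] {m : ℕ} (Q : Par F m)

local notation "SS" => Cfsg.Sz F m
local notation "inf∞" => Cfsg.suzukiPointInfinity F
local notation "qq" => (2 ^ (2 * m + 1) : ℕ)
local notation "rr" => (2 ^ (m + 1) : ℕ)

include Q

omit Q in
theorem mem_stab {p : Projectivization F (Fin 4 → F)} {y : SS} : y ∈ stab (m := m) p ↔ y.1 • p = p := Iff.rfl

theorem invol_conj {i : SS} (hi : orderOf i = 2) : IsConj (uu Q 0 1) i := by
  obtain ⟨y, -, e⟩ := all_conj Q (M := ⊤) one_ne_zero (Subgroup.mem_top _) ⟨wS Q, Subgroup.mem_top _, by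
    show W F • inf∞ ≠ inf∞
    rw [W_inf m]; exact pt_ne_inf m 0 0⟩ (Subgroup.mem_top i) hi
  exact isConj_iff.2 ⟨y, e⟩

theorem four_conj {x : SS} (hx : orderOf x = 4) : IsConj (uu Q 1 0) x ∨ IsConj (uu Q 1 0) x⁻¹ := by
  classical
  have hns := not_semi_of_order Q (x := x) (Or.inr hx)
  simp only [Semi, not_forall, not_not] at hns
  obtain ⟨c, hc⟩ := hns
  obtain ⟨a, b, e⟩ := exists_uu Q hc
  have ha : a ≠ 0 := by
    rintro rfl
    have h2 : (c * x * c⁻¹) ^ 2 = 1 := by rw [e, uu_sq, zero_pow (Nat.succ_ne_zero _), uu_zero]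
    rw [conj_pow, mul_inv_eq_one, mul_eq_left] at h2
    have := orderOf_dvd_of_pow_eq_one h2
    rw [hx] at this
    norm_num at this
  have := charP Q
  have step : ∀ (u : F) (b : F), IsConj (uu Q 1 b) (uu Q 1 (b + u ^ (2 ^ (m + 1)) + u)) := fun u b =>
    isConj_iff.2 ⟨uu Q u 0, by
      rw [mul_inv_eq_iff_eq_mul, uu_mul, uu_mul]
      congr 1
      · exact add_comm _ _
      · rw [zero_add, add_zero, one_pow, one_mul, mul_one, add_assoc, add_self Q, add_zero]⟩
  let φ : F →+ F :=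
    { toFun := fun u => u ^ (2 ^ (m + 1)) + u
      map_zero' := by rw [zero_pow (pow_ne_zero _ two_ne_zero), add_zero]
      map_add' := fun u v => by rw [add_pow_s Q]; ring }
  have hφ : ∀ u, u ∈ φ.ker ↔ u = 0 ∨ u = 1 := fun u => by
    rw [AddMonoidHom.mem_ker]
    show u ^ (2 ^ (m + 1)) + u = 0 ↔ _
    refine ⟨fun h => s_fixed Q ((eq_neg_of_add_eq_zero_left h).trans (neg_eq Q u)), ?_⟩
    rintro (rfl | rfl)
    · rw [zero_pow (pow_ne_zero _ two_ne_zero), add_zero]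
    · rw [one_pow, add_self Q]
  have hker : Nat.card φ.ker = 2 := by
    rw [Nat.card_eq_two_iff]
    refine ⟨0, ⟨1, (hφ 1).2 (Or.inr rfl)⟩, fun h => zero_ne_one (congrArg Subtype.val h), ?_⟩
    refine Set.eq_univ_of_forall fun u => ?_
    rcases (hφ u.1).1 u.2 with h | h
    · exact Or.inl (Subtype.ext h)
    · exact Or.inr (Subtype.ext h)
  have hidx : φ.range.index = 2 := by
    have h1 := φ.range.card_mul_index
    have h2 := φ.ker.card_mul_index
    rw [AddSubgroup.index_ker, hker] at h2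
    rw [← h2, mul_comm 2] at h1
    exact Nat.eq_of_mul_eq_mul_left Nat.card_pos h1
  have hone : (1 : F) ∉ φ.range := by
    rintro ⟨u, hu⟩
    have hu' : u ^ (2 ^ (m + 1)) = u + 1 := by
      have : u ^ (2 ^ (m + 1)) + u = 1 := hu
      linear_combination this - u * (CharP.cast_eq_zero F 2 : ((2 : ℕ) : F) = 0)
    exact no_fix Q u hu'
  have key : ∀ b : F, IsConj (uu Q 1 b) (uu Q 1 0) ∨ IsConj (uu Q 1 b) (uu Q 1 1) := by
    intro b
    rcases em (b ∈ φ.range) with ⟨u, hu⟩ | hb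
    · left
      have hu' : u ^ (2 ^ (m + 1)) + u = b := hu
      have h := step u b
      rwa [add_assoc, hu', add_self Q] at h
    · right
      obtain ⟨u, hu⟩ := (AddSubgroup.add_mem_iff_of_index_two hidx (a := b) (b := 1)).2 (iff_of_false hb hone)
      have hu' : u ^ (2 ^ (m + 1)) + u = b + 1 := hu
      have h := step u b
      rwa [add_assoc, hu', ← add_assoc, add_self Q, zero_add] at h
  have hx' : IsConj x (uu Q 1 (((Units.mk0 a ha)⁻¹ : Fˣ) ^ (2 ^ (m + 1) + 1) * b)) := by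
    refine isConj_iff.2 ⟨hI Q (Units.mk0 a ha)⁻¹ * c, ?_⟩
    rw [show hI Q (Units.mk0 a ha)⁻¹ * c * x * (hI Q (Units.mk0 a ha)⁻¹ * c)⁻¹ =
      hI Q (Units.mk0 a ha)⁻¹ * (c * x * c⁻¹) * (hI Q (Units.mk0 a ha)⁻¹)⁻¹ by group, e, hI_conj]
    congr 1
    rw [Units.val_inv_eq_inv_val, Units.val_mk0, inv_mul_cancel₀ ha]
  have hinv : (uu Q (1 : F) 0)⁻¹ = uu Q 1 1 := inv_eq_of_mul_eq_one_right (by
    rw [uu_mul, one_pow, one_mul, zero_add, add_self Q, uu_zero])
  rcases key (((Units.mk0 a ha)⁻¹ : Fˣ) ^ (2 ^ (m + 1) + 1) * b) with h | h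
  · exact Or.inl (hx'.trans h).symm
  · right
    obtain ⟨d, hd⟩ := isConj_iff.1 (hx'.trans h)
    refine isConj_iff.2 ⟨d⁻¹, ?_⟩
    have h1 : x = d⁻¹ * uu Q 1 1 * d := by rw [← hd]; group
    rw [h1, ← hinv]
    group

theorem not_real {x : SS} (hx : orderOf x = 4) : ¬ IsConj x x⁻¹ := by
  have : Fact (Nat.Prime 2) := ⟨Nat.prime_two⟩
  have hp : IsPGroup 2 (Subgroup.zpowers x) := IsPGroup.of_card (n := 2) (by rw [Nat.card_zpowers, hx]; norm_num)
  obtain ⟨P, hP⟩ := hp.exists_le_sylow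
  intro h
  have h2 := (real_iff Q P x (hP (Subgroup.mem_zpowers x))
    (fun e => by rw [e, orderOf_one] at hx; norm_num at hx)).1 h
  omega

theorem cent_two {x : SS} (hx : orderOf x = 2) : Nat.card (Subgroup.centralizer ({x} : Set SS)) = qq ^ 2 := by
  have e : Subgroup.centralizer ({uu Q (0 : F) 1} : Set SS) = uSub Q := by
    ext g
    rw [mem_cent]
    refine ⟨fun h => cent_uu Q (uu_mem Q 0 1) (fun e => one_ne_zero (uu_inj Q (e.trans (uu_zero Q).symm)).2) h,
      fun h => ?_⟩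
    obtain ⟨a, b, rfl⟩ := exists_uu Q h
    show _ = _
    rw [uu_mul, uu_mul]
    simp [zero_pow (pow_ne_zero (m + 1) two_ne_zero), add_comm]
  rw [card_cent_conj (invol_conj Q hx), e, card_uSub]

theorem cent_four {x : SS} (hx : orderOf x = 4) : Nat.card (Subgroup.centralizer ({x} : Set SS)) = 2 * qq := by
  have hne : uu Q (1 : F) 0 ≠ 1 := fun e => one_ne_zero (uu_inj Q (e.trans (uu_zero Q).symm)).1
  have h0 : Nat.card (Subgroup.centralizer ({uu Q (1 : F) 0} : Set SS)) = 2 * qq := by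
    let f : Bool × F → Subgroup.centralizer ({uu Q (1 : F) 0} : Set SS) := fun z =>
      ⟨uu Q (if z.1 then 1 else 0) z.2, mem_cent.2 (by
        show _ = _
        rw [uu_mul, uu_mul]
        cases z.1 <;> simp [zero_pow (pow_ne_zero (m + 1) two_ne_zero), add_comm])⟩
    rw [← Nat.card_eq_of_bijective f ⟨fun y z e => ?_, fun g => ?_⟩, Nat.card_prod]
    · simp [Nat.card_eq_fintype_card, Q.hF]
    · obtain ⟨e1, e2⟩ := uu_inj Q (congrArg Subtype.val e)
      refine Prod.ext ?_ e2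
      rcases y with ⟨y | y, yb⟩ <;> rcases z with ⟨z | z, zb⟩ <;> first | rfl | (exfalso; simp at e1)
    · have hc := mem_cent.1 g.2
      obtain ⟨a, b, e⟩ := exists_uu Q (cent_uu Q (uu_mem Q 1 0) hne hc)
      have h : uu Q a b * uu Q 1 0 = uu Q 1 0 * uu Q a b := by rw [← e]; exact hc.eq
      rw [uu_mul, uu_mul, mul_one, one_pow, one_mul, add_zero, zero_add] at h
      rcases s_fixed Q (c := a) (add_left_cancel (uu_inj Q h).2) with rfl | rfl
      · exact ⟨(false, b), Subtype.ext e.symm⟩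
      · exact ⟨(true, b), Subtype.ext e.symm⟩
  rcases four_conj Q hx with h | h
  · rw [card_cent_conj h, h0]
  · rw [show Subgroup.centralizer ({x} : Set SS) = Subgroup.centralizer ({x⁻¹} : Set SS) from ?_, card_cent_conj h, h0]
    ext g
    rw [mem_cent, mem_cent]
    exact ⟨fun h => h.inv_right, fun h => inv_inv x ▸ h.inv_right⟩

theorem squash {g : SS} (hg : Semi Q g) {u : SS} (hu : u ∈ tor g) : ∃ v ∈ tor g, v * v = u := by
  obtain ⟨k, hk⟩ := (semi_spec Q hg).2.1.of_dvd_nat (Subgroup.orderOf_dvd_natCard _ hu)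
  refine ⟨u ^ (k + 1), pow_mem hu _, ?_⟩
  rw [← pow_add, show k + 1 + (k + 1) = (2 * k + 1) + 1 by ring, pow_succ, ← hk, pow_orderOf_eq_one, one_mul]

theorem inv_tor {g i : SS} (hg : Semi Q g) (hi : orderOf i = 2) (hin : i ∈ nor g) {u : SS} (hu : u ∈ tor g) :
    i * u * i⁻¹ = u⁻¹ :=
  (fam0 Q).inverts hg hi hin ((fam0 Q).not_mem_of_two hg hi) u hu

theorem four_elt {g : SS} (hg : Semi Q g) (h4 : Nat.card (nor g) = 4 * Nat.card (tor g)) :
    ∃ t ∈ nor g, orderOf t = 4 := by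
  classical
  have : Fact (Nat.Prime 2) := ⟨Nat.prime_two⟩
  obtain ⟨V, hV⟩ := Sylow.exists_subgroup_card_pow_prime (G := nor g) 2 (n := 2) (h4 ▸ dvd_mul_right _ _)
  have hV' : Nat.card V = 4 := hV.trans (by norm_num)
  by_contra hno
  push Not at hno
  have hord : ∀ v : V, v ≠ 1 → orderOf (v.1.1 : SS) = 2 := by
    intro v hv
    have h1 : orderOf (v.1.1 : SS) ∣ 2 ^ 2 := by
      rw [Subgroup.orderOf_coe, Subgroup.orderOf_coe, ← hV]; exact orderOf_dvd_natCard v
    obtain ⟨j, hj, e⟩ := (Nat.dvd_prime_pow Nat.prime_two).1 h1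
    interval_cases j
    · exact absurd (Subtype.ext (Subtype.ext (orderOf_eq_one_iff.1 (e.trans (pow_zero 2))))) hv
    · exact e.trans (pow_one 2)
    · exact absurd (e.trans (by norm_num)) (hno _ v.1.2)
  have : Nontrivial V := Finite.one_lt_card_iff_nontrivial.1 (by omega)
  obtain ⟨i, hi⟩ : ∃ i : V, i ≠ 1 := exists_ne 1
  obtain ⟨j, hj, hij⟩ : ∃ j : V, j ≠ 1 ∧ j ≠ i := by
    by_contra hc
    push Not at hc
    let : Fintype V := Fintype.ofFinite _
    have hsub : (Finset.univ : Finset V) ⊆ {1, i} := fun j _ => by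
      rcases eq_or_ne j 1 with e | e
      · simp [e]
      · simp [hc j e]
    have := (Finset.card_le_card hsub).trans Finset.card_le_two
    rw [Finset.card_univ, ← Nat.card_eq_fintype_card, hV'] at this
    omega
  have hsq : (i.1.1 : SS) * i.1.1 = 1 := by rw [← pow_two, ← hord i hi]; exact pow_orderOf_eq_one _
  have hprod : i * j ≠ 1 := fun e => hij (by
    have h' : (i.1.1 : SS) * j.1.1 = 1 := congrArg (fun z : V => (z.1.1 : SS)) e
    exact Subtype.ext (Subtype.ext (mul_left_cancel (h'.trans hsq.symm))))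
  have hgt : g ∈ tor g := mem_tor.2 (Commute.refl g)
  have h1 := inv_tor Q hg (hord i hi) i.1.2 hgt
  have h2 := inv_tor Q hg (hord j hj) j.1.2 hgt
  have h3 := inv_tor Q hg (hord _ hprod) (i * j).1.2 hgt
  refine (fam0 Q).not_self_inv hg ?_
  rw [← h3]
  show (i.1.1 : SS) * j.1.1 * g * ((i.1.1 : SS) * j.1.1)⁻¹ = g
  rw [show (i.1.1 : SS) * j.1.1 * g * ((i.1.1 : SS) * j.1.1)⁻¹ = i.1.1 * (j.1.1 * g * (j.1.1 : SS)⁻¹) * (i.1.1 : SS)⁻¹ by
    group, h2]
  calc (i.1.1 : SS) * g⁻¹ * (i.1.1 : SS)⁻¹ = ((i.1.1 : SS) * g * (i.1.1 : SS)⁻¹)⁻¹ := by group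
    _ = g := by rw [h1, inv_inv]

theorem invol_in {g t i : SS} (hg : Semi Q g) (ht : t ∈ nor g) (ht4 : orderOf t = 4) (hi : orderOf i = 2)
    (hin : i ∈ nor g) : ∃ v ∈ tor g, v * t ^ 2 * v⁻¹ = i := by
  have ht2 : orderOf (t ^ 2) = 2 := by rw [orderOf_pow, ht4]; norm_num
  have hinv := fun u (hu : u ∈ tor g) => inv_tor Q hg ht2 (pow_mem ht 2) hu
  have hsq : t ^ 2 * t ^ 2 = 1 := by
    have := pow_orderOf_eq_one (t ^ 2)
    rwa [ht2, pow_two] at this
  have hu : t ^ 2 * i ∈ tor g := by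
    refine mem_tor.2 ?_
    have e1 := inv_tor Q hg hi hin (mem_tor.2 (Commute.refl g))
    have e2 := hinv g (mem_tor.2 (Commute.refl g))
    refine mul_inv_eq_iff_eq_mul.1 ?_
    rw [show t ^ 2 * i * g * (t ^ 2 * i)⁻¹ = t ^ 2 * (i * g * i⁻¹) * (t ^ 2)⁻¹ by group, e1,
      show t ^ 2 * g⁻¹ * (t ^ 2)⁻¹ = (t ^ 2 * g * (t ^ 2)⁻¹)⁻¹ by group, e2, inv_inv]
  obtain ⟨v, hv, e⟩ := squash Q hg (inv_mem hu)
  refine ⟨v, hv, ?_⟩
  have h1 : v * t ^ 2 = t ^ 2 * v⁻¹ := by
    rw [← hinv v hv, show t ^ 2 * (t ^ 2 * v * (t ^ 2)⁻¹) = t ^ 2 * t ^ 2 * v * (t ^ 2)⁻¹ by group, hsq, one_mul,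
      inv_eq_of_mul_eq_one_right hsq]
  rw [h1, mul_assoc, ← mul_inv_rev, e, inv_inv, ← mul_assoc, hsq, one_mul]

theorem commute_fix {x y : SS} {p : Projectivization F (Fin 4 → F)} (hp : p ∈ Cfsg.suzukiOvoid F m)
    (hfx : x.1 • p = p) (hu : ∀ p' ∈ Cfsg.suzukiOvoid F m, x.1 • p' = p' → p' = p) (h : Commute x y) :
    y.1 • p = p := by
  have hxy : x.1 * y.1 = y.1 * x.1 := congrArg Subtype.val h.eq
  exact hu _ (smul_ovoid Q y.2 hp) (by rw [← mul_smul, hxy, mul_smul, hfx])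

theorem four_in {g t y : SS} (hg : Semi Q g) (h4 : Nat.card (nor g) = 4 * Nat.card (tor g)) (ht : t ∈ nor g)
    (ht4 : orderOf t = 4) (hy : y ∈ nor g) (hy4 : orderOf y = 4) :
    ∃ v ∈ tor g, y = v * t * v⁻¹ ∨ y = v * t⁻¹ * v⁻¹ := by
  classical
  have hy2 : orderOf (y ^ 2) = 2 := by rw [orderOf_pow, hy4]; norm_num
  have ht2 : orderOf (t ^ 2) = 2 := by rw [orderOf_pow, ht4]; norm_num
  obtain ⟨v, hv, e⟩ := invol_in Q hg ht ht4 hy2 (pow_mem hy 2)
  refine ⟨v, hv, ?_⟩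
  obtain ⟨y', hy'⟩ : ∃ y', y' = v⁻¹ * y * v := ⟨_, rfl⟩
  have hyv : y = v * y' * v⁻¹ := by rw [hy']; group
  have hy'n : y' ∈ nor g := by
    rw [hy']
    exact mul_mem (mul_mem (inv_mem (Subgroup.le_normalizer hv)) hy) (Subgroup.le_normalizer hv)
  have hy'2 : y' ^ 2 = t ^ 2 := by
    have h : v * y' ^ 2 * v⁻¹ = v * t ^ 2 * v⁻¹ := by rw [e, ← conj_pow, ← hyv]
    exact mul_left_cancel (mul_right_cancel h)
  obtain ⟨p, hp, hfp, hup, -⟩ := fix_unique Q (x := t ^ 2) (fun h => by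
    rw [h, orderOf_one] at ht2; norm_num at ht2) (not_semi_of_order Q (Or.inl ht2))
  have hty : t.1 • p = p := commute_fix Q hp hfp hup (Commute.pow_left (Commute.refl t) 2)
  have hyy : y'.1 • p = p := commute_fix Q hp hfp hup (hy'2 ▸ Commute.pow_left (Commute.refl y') 2)
  have hle : Subgroup.zpowers t ≤ nor g ⊓ stab (m := m) p :=
    Subgroup.zpowers_le.2 ⟨ht, hty⟩
  have heq : Subgroup.zpowers t = nor g ⊓ stab (m := m) p := by
    refine Subgroup.eq_of_le_of_card_ge hle ?_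
    rw [Nat.card_zpowers, ht4]
    refine (card_inter_le Q hg (x := t) (fun h => by rw [h, orderOf_one] at ht4; norm_num at ht4)
      (not_semi_of_order Q (Or.inr ht4)) ht hp hty).trans ?_
    rcases index_torIn Q hg with e' | e' <;> omega
  have hmem : y' ∈ Subgroup.zpowers t := heq ▸ ⟨hy'n, hyy⟩
  have hfin : IsOfFinOrder t := isOfFinOrder_of_finite t
  obtain ⟨j, hj, hje⟩ := Finset.mem_image.1 (hfin.mem_zpowers_iff_mem_range_orderOf.1 hmem)
  rw [Finset.mem_range, ht4] at hj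
  have hy'4 : orderOf y' = 4 :=
    (orderOf_injective (MulAut.conj v).toMonoidHom (MulAut.conj v).injective y').symm.trans
      ((congrArg orderOf hyv).symm.trans hy4)
  interval_cases j
  · exfalso
    rw [← hje, pow_zero, orderOf_one] at hy'4
    norm_num at hy'4
  · left
    rw [hyv, ← hje, pow_one]
  · exfalso
    rw [← hje, ht2] at hy'4
    norm_num at hy'4
  · right
    have h4' : t ^ 3 * t = 1 := by
      have := pow_orderOf_eq_one t
      rw [ht4] at this
      rw [← pow_succ]; exact this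
    rw [hyv, ← hje, eq_inv_of_mul_eq_one_left h4']

/-- The common part of a torus normaliser and the stabiliser of the fixed point. -/
theorem card_inter {g x : SS} {p : Projectivization F (Fin 4 → F)} (hg : Semi Q g)
    (hx : orderOf x = 2 ∨ orderOf x = 4) (hxn : x ∈ nor g) (hp : p ∈ Cfsg.suzukiOvoid F m) (hfx : x.1 • p = p) :
    (Nat.card (nor g) = 4 * Nat.card (tor g) → Nat.card (nor g ⊓ stab (m := m) p : Subgroup SS) = 4) ∧
    (Nat.card (nor g) = 2 * Nat.card (tor g) →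
      orderOf x = 2 ∧ Nat.card (nor g ⊓ stab (m := m) p : Subgroup SS) = 2) := by
  have hx1 : x ≠ 1 := fun h => by rw [h, orderOf_one] at hx; omega
  have hxs := not_semi_of_order Q hx
  have hle := card_inter_le Q hg hx1 hxs hxn hp hfx
  have hidx := (torIn g).card_mul_index
  rw [Nat.card_congr (Subgroup.subgroupOfEquivOfLe (Subgroup.le_normalizer (H := tor g))).toEquiv] at hidx
  refine ⟨fun h => ?_, fun h => ?_⟩
  · have h4 : (torIn g).index = 4 :=
      Nat.eq_of_mul_eq_mul_left Nat.card_pos (hidx.trans (h.trans (mul_comm _ _)))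
    refine le_antisymm (by rw [h4] at hle; exact hle) ?_
    obtain ⟨y, hy, hy4, hxy⟩ : ∃ y ∈ nor g, orderOf y = 4 ∧ Commute x y := by
      rcases hx with hx | hx
      · obtain ⟨t, ht, ht4⟩ := four_elt Q hg h
        obtain ⟨v, hv, e⟩ := invol_in Q hg ht ht4 hx hxn
        refine ⟨v * t * v⁻¹, mul_mem (mul_mem (Subgroup.le_normalizer hv) ht)
          (inv_mem (Subgroup.le_normalizer hv)), ?_, ?_⟩
        · exact (orderOf_injective (MulAut.conj v).toMonoidHom (MulAut.conj v).injective t).trans ht4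
        · rw [← e, ← conj_pow]
          exact Commute.pow_left (Commute.refl _) 2
      · exact ⟨x, hxn, hx, Commute.refl x⟩
    obtain ⟨p', -, -, hu, -⟩ := fix_unique Q hx1 hxs
    obtain rfl := hu p hp hfx
    have hyp := commute_fix Q hp hfx hu hxy
    calc 4 = Nat.card (Subgroup.zpowers y) := ((Nat.card_zpowers y).trans hy4).symm
      _ ≤ _ := Subgroup.card_le_of_le (Subgroup.zpowers_le.2 (show y ∈ nor g ⊓ stab (m := m) p from ⟨hy, hyp⟩))
  · have h2 : (torIn g).index = 2 :=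
      Nat.eq_of_mul_eq_mul_left Nat.card_pos (hidx.trans (h.trans (mul_comm _ _)))
    have hx2 : orderOf x = 2 := by
      rcases hx with hx | hx
      · exact hx
      · exfalso
        have hd := Subgroup.orderOf_dvd_natCard _ hxn
        replace hd : 2 * 2 ∣ 2 * Nat.card (tor g) := by rw [hx, h] at hd; exact hd
        rw [Nat.mul_dvd_mul_iff_left two_pos] at hd
        have := Nat.odd_iff.1 (semi_spec Q hg).2.1
        omega
    refine ⟨hx2, le_antisymm (by rw [h2] at hle; exact hle) ?_⟩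
    calc 2 = Nat.card (Subgroup.zpowers x) := ((Nat.card_zpowers x).trans hx2).symm
      _ ≤ _ := Subgroup.card_le_of_le (Subgroup.zpowers_le.2 (show x ∈ nor g ⊓ stab (m := m) p from ⟨hxn, hfx⟩))

/-- The cosets of torus normalisers containing a given element. -/
abbrev Fib (g x : Cfsg.Sz F m) := {q : ↥(Cfsg.Sz F m) ⧸ nor g // q.out⁻¹ * x * q.out ∈ nor g}

theorem fib_two {g x : SS} (hg : Semi Q g) (hx : orderOf x = 2) :
    Nat.card (Fib g x) * Nat.card (nor g) = Nat.card (tor g) * qq ^ 2 := by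
  rw [fibre_count, cent_two Q hx]
  congr 1
  have e : Nat.card {z : SS // z ∈ nor g ∧ IsConj x z} = Nat.card (inverters g) := by
    refine Nat.card_congr (Equiv.subtypeEquivRight fun z => ⟨fun ⟨hz, hc⟩ => ?_, fun hz => ?_⟩)
    · obtain ⟨c, hc⟩ := isConj_iff.1 hc
      have hz2 : orderOf z = 2 := hc ▸ (orderOf_injective (MulAut.conj c).toMonoidHom (MulAut.conj c).injective x).trans hx
      exact ⟨hz2, inv_tor Q hg hz2 hz (mem_tor.2 (Commute.refl g))⟩
    · exact ⟨(fam0 Q).normalizer_iff hg (by rw [hz.2]; exact inv_mem (mem_tor.2 (Commute.refl g))),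
        (invol_conj Q hx).symm.trans (invol_conj Q hz.1)⟩
  rw [e, (fam0 Q).card_inverters hg, if_pos]
  rcases nor_card Q hg with ⟨-, h⟩ | ⟨-, h⟩
  · exact Dvd.intro _ h.symm
  · exact Dvd.intro (2 * Nat.card (tor g)) (by rw [← mul_assoc]; exact h.symm)

theorem fib_four {g x : SS} (hg : Semi Q g) (hx : orderOf x = 4) :
    (Nat.card (nor g) = 2 * Nat.card (tor g) → IsEmpty (Fib g x)) ∧
    (Nat.card (nor g) = 4 * Nat.card (tor g) →
      Nat.card (Fib g x) * Nat.card (nor g) = Nat.card (tor g) * (2 * qq)) := by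
  have hord : ∀ c : SS, orderOf (c * x * c⁻¹) = 4 := fun c =>
    (orderOf_injective (MulAut.conj c).toMonoidHom (MulAut.conj c).injective x).trans hx
  refine ⟨fun h => ⟨fun q => ?_⟩, fun h => ?_⟩
  · have h1 := Subgroup.orderOf_dvd_natCard _ q.2
    have h2 := hord q.1.out⁻¹
    rw [inv_inv] at h2
    replace h1 : 2 * 2 ∣ 2 * Nat.card (tor g) := by rw [h2, h] at h1; exact h1
    rw [Nat.mul_dvd_mul_iff_left two_pos] at h1
    have := Nat.odd_iff.1 (semi_spec Q hg).2.1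
    omega
  rw [fibre_count, cent_four Q hx]
  congr 1
  obtain ⟨t, ht, ht4⟩ := four_elt Q hg h
  obtain ⟨t₀, ht₀, ht₀4, hconj⟩ : ∃ t₀ ∈ nor g, orderOf t₀ = 4 ∧ IsConj x t₀ := by
    have hinv : IsConj x t ∨ IsConj x t⁻¹ := by
      have key : ∀ {a b : SS}, IsConj a b → IsConj a⁻¹ b⁻¹ := fun {a b} hab => by
        obtain ⟨c, rfl⟩ := isConj_iff.1 hab
        exact isConj_iff.2 ⟨c, by group⟩
      rcases four_conj Q hx with h1 | h1 <;> rcases four_conj Q ht4 with h2 | h2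
      · exact Or.inl (h1.symm.trans h2)
      · exact Or.inr (h1.symm.trans h2)
      · exact Or.inr ((inv_inv x) ▸ key (h1.symm.trans h2))
      · exact Or.inl (inv_inv x ▸ inv_inv t ▸ key (h1.symm.trans h2))
    rcases hinv with h' | h'
    · exact ⟨t, ht, ht4, h'⟩
    · exact ⟨t⁻¹, inv_mem ht, by rw [orderOf_inv, ht4], h'⟩
  let f : tor g → {z : SS // z ∈ nor g ∧ IsConj x z} := fun v => ⟨v.1 * t₀ * v.1⁻¹,
    mul_mem (mul_mem (Subgroup.le_normalizer v.2) ht₀) (inv_mem (Subgroup.le_normalizer v.2)),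
    hconj.trans (isConj_iff.2 ⟨v.1, rfl⟩)⟩
  refine (Nat.card_eq_of_bijective f ⟨fun v w e => ?_, fun z => ?_⟩).symm
  · have e' : v.1 * t₀ * v.1⁻¹ = w.1 * t₀ * w.1⁻¹ := congrArg Subtype.val e
    have hc : Commute t₀ (w.1⁻¹ * v.1) := by
      show _ = _
      calc t₀ * (w.1⁻¹ * v.1) = w.1⁻¹ * (w.1 * t₀ * w.1⁻¹) * v.1 := by group
        _ = w.1⁻¹ * (v.1 * t₀ * v.1⁻¹) * v.1 := by rw [e']
        _ = w.1⁻¹ * v.1 * t₀ := by group
    have hwv : w.1⁻¹ * v.1 ∈ tor g := mul_mem (inv_mem w.2) v.2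
    by_contra hne
    have hne' : w.1⁻¹ * v.1 ≠ 1 := fun h => hne (Subtype.ext (inv_mul_eq_one.1 h).symm)
    have h1 : t₀ ∈ tor g := tor_eq_of_mem Q hg hwv hne' ▸ mem_tor.2 hc
    exact not_semi_of_order Q (Or.inr ht₀4) ((semi_spec Q hg).2.2 _ h1
      (fun h => by rw [h, orderOf_one] at ht₀4; norm_num at ht₀4)).1
  · obtain ⟨c, hc⟩ := isConj_iff.1 z.2.2
    obtain ⟨v, hv, e | e⟩ := four_in Q hg h ht₀ ht₀4 z.2.1 (by rw [← hc]; exact hord c)
    · exact ⟨⟨v, hv⟩, Subtype.ext e.symm⟩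
    · exfalso
      have h1 : IsConj t₀ t₀⁻¹ := (hconj.symm.trans z.2.2).trans (isConj_iff.2 ⟨v⁻¹, by rw [e]; group⟩)
      exact not_real Q ht₀4 h1

/-- Representatives of the three kinds of tori. -/
theorem exists_reps : ∃ gs : Fin 3 → SS, (∀ j, Semi Q (gs j)) ∧
    Nat.card (tor (gs 0)) = qq - 1 ∧ Nat.card (nor (gs 0)) = 2 * (qq - 1) ∧
    Nat.card (tor (gs 1)) = qq + rr + 1 ∧ Nat.card (nor (gs 1)) = 4 * (qq + rr + 1) ∧
    Nat.card (tor (gs 2)) = qq - rr + 1 ∧ Nat.card (nor (gs 2)) = 4 * (qq - rr + 1) := by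
  obtain ⟨h8, h4, h2, hq, hr⟩ := num_facts Q
  obtain ⟨k, hk⟩ := exists_unit_ne_one Q
  obtain ⟨a, b, ha, hb, ea, eb, na, nb, -⟩ := two_tori Q
  have e0 : Nat.card (tor (hI Q k)) = qq - 1 := by rw [cent_hI_eq Q hk]; exact (range_data Q).2
  refine ⟨![hI Q k, a, b], Fin.forall_fin_succ.2 ⟨semi_hI Q hk, Fin.forall_fin_succ.2
    ⟨semi_free Q ha, Fin.forall_fin_succ.2 ⟨semi_free Q hb, fun j => j.elim0⟩⟩⟩, e0, ?_, ea,
    na.trans (congrArg (4 * ·) ea), eb, nb.trans (congrArg (4 * ·) eb)⟩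
  rcases nor_card Q (semi_hI Q hk) with ⟨-, h⟩ | ⟨h, -⟩
  · exact h.trans (congrArg (2 * ·) e0)
  · exfalso
    rw [e0] at h
    omega

set_option maxHeartbeats 2000000 in
/-- The soluble set of an element fixing a single point. -/
theorem card_sol (hpr : (2 * m + 1).Prime) {x : SS} (hx : orderOf x = 2 ∨ orderOf x = 4) {gs : Fin 3 → SS}
    (hgs : ∀ j, Semi Q (gs j)) (hdist : ∀ j j', Nat.card (tor (gs j)) = Nat.card (tor (gs j')) → j = j')
    (hall : ∀ g, Semi Q g → ∃ j, Nat.card (tor g) = Nat.card (tor (gs j))) (e : Fin 3 → ℕ)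
    (he : ∀ (j : Fin 3) (g : SS), Semi Q g → Nat.card (nor g) = Nat.card (nor (gs j)) →
      Nat.card (tor g) = Nat.card (tor (gs j)) → x ∈ nor g → ∀ p ∈ Cfsg.suzukiOvoid F m, x.1 • p = p →
      Nat.card (nor g ⊓ stab (m := m) p : Subgroup SS) = e j) :
    Nat.card {y : SS // Group.IsSolvable (Subgroup.closure ({x, y} : Set SS))} =
      qq ^ 2 * (qq - 1) + ∑ j, Nat.card (Fib (gs j) x) * (Nat.card (nor (gs j)) - e j) := by
  classical
  have hx1 : x ≠ 1 := fun h => by rw [h, orderOf_one] at hx; omega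
  obtain ⟨p, hp, hfx, hu, -⟩ := fix_unique Q hx1 (not_semi_of_order Q hx)
  let J := Σ j : Fin 3, Fib (gs j) x
  let G : J → SS := fun z => z.2.1.out * gs z.1 * z.2.1.out⁻¹
  have hG : ∀ z, Semi Q (G z) := fun z => (hgs z.1).conj Q _
  have hGn : ∀ z y, y ∈ nor (G z) ↔ z.2.1.out⁻¹ * y * z.2.1.out ∈ nor (gs z.1) := fun z y => nor_conj Q _ _ y
  have hGx : ∀ z, x ∈ nor (G z) := fun z => (hGn z x).2 z.2.2
  have hGc : ∀ z, Nat.card (tor (G z)) = Nat.card (tor (gs z.1)) ∧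
      Nat.card (nor (G z)) = Nat.card (nor (gs z.1)) := fun z => by
    have h : G z ∈ fam (Semi Q) (gs z.1) := ⟨hG z, z.2.1.out, fun y => cent_conj _ _ y⟩
    exact ⟨((fam0 Q).card_normalizer_conj (hgs z.1) h).2, ((fam0 Q).card_normalizer_conj (hgs z.1) h).1⟩
  have hGinj : ∀ z z', tor (G z) = tor (G z') → z = z' := by
    rintro ⟨j, q, hq⟩ ⟨j', q', hq'⟩ h
    have hj : j = j' := hdist _ _ ((hGc ⟨j, q, hq⟩).1.symm.trans (h ▸ (hGc ⟨j', q', hq'⟩).1))
    subst hj
    have hqq : q = q' := by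
      rw [← QuotientGroup.out_eq' q, ← QuotientGroup.out_eq' q', QuotientGroup.eq]
      refine (fam0 Q).normalizer_iff (hgs j) ?_
      have h1 : q'.out * gs j * q'.out⁻¹ ∈ tor (q.out * gs j * q.out⁻¹) := by
        rw [show tor (q.out * gs j * q.out⁻¹) = tor (q'.out * gs j * q'.out⁻¹) from h]
        exact mem_tor.2 (Commute.refl _)
      rw [tor_conj Q] at h1
      simpa [mul_assoc] using h1
    subst hqq
    rfl
  have hcover : ∀ g, Semi Q g → x ∈ nor g → ∃ z, tor (G z) = tor g := by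
    intro g hg hxg
    obtain ⟨j, hj⟩ := hall g hg
    obtain ⟨c, hc⟩ := tori_conj Q (hgs j) hg hj
    obtain ⟨n, hn⟩ := QuotientGroup.mk_out_eq_mul (nor (gs j)) c
    have htn : tor ((c * n.1) * gs j * (c * n.1)⁻¹) = tor (c * gs j * c⁻¹) := by
      ext y
      rw [tor_conj Q, tor_conj Q, show (c * n.1)⁻¹ * y * (c * n.1) = n.1⁻¹ * (c⁻¹ * y * c) * n.1⁻¹⁻¹ by group]
      exact (Subgroup.mem_normalizer_iff.1 (inv_mem n.2) _).symm
    have he' : tor ((QuotientGroup.mk c : SS ⧸ nor (gs j)).out * gs j *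
        (QuotientGroup.mk c : SS ⧸ nor (gs j)).out⁻¹) = tor g := by rw [hn, htn, hc]
    have hxn := hxg
    rw [← nor_of_tor Q he'] at hxn
    exact ⟨⟨j, QuotientGroup.mk c, (nor_conj Q _ _ x).1 hxn⟩, he'⟩
  have hsplit : Nat.card {y : SS // Group.IsSolvable (Subgroup.closure ({x, y} : Set SS))} =
      Nat.card (stab (m := m) p) + Nat.card (Σ z : J, {y : SS // y ∈ nor (G z) ∧ y.1 • p ≠ p}) := by
    rw [← Nat.card_sum]
    have hl : ∀ y : stab (m := m) p, Group.IsSolvable (Subgroup.closure ({x, y.1} : Set SS)) := fun y =>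
      (sol_iff Q hpr x y.1).2 (Or.inl ⟨p, hp, hfx, mem_stab.1 y.2⟩)
    have hrt : ∀ w : Σ z : J, {y : SS // y ∈ nor (G z) ∧ y.1 • p ≠ p},
        Group.IsSolvable (Subgroup.closure ({x, w.2.1} : Set SS)) := fun w =>
      (sol_iff Q hpr x w.2.1).2 (Or.inr ⟨G w.1, hG _, hGx _, w.2.2.1⟩)
    let f : (stab (m := m) p) ⊕ (Σ z : J, {y : SS // y ∈ nor (G z) ∧ y.1 • p ≠ p}) →
        {y : SS // Group.IsSolvable (Subgroup.closure ({x, y} : Set SS))} :=
      Sum.elim (fun y => ⟨y.1, hl y⟩) (fun w => ⟨w.2.1, hrt w⟩)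
    refine (Nat.card_eq_of_bijective f ⟨?_, fun y => ?_⟩).symm
    · rintro (a | ⟨z, a⟩) (b | ⟨z', b⟩) h
      · exact congrArg Sum.inl (Subtype.ext (congrArg (fun z => z.1) h))
      · have h' : a.1 = b.1 := congrArg (fun z => z.1) h
        exact absurd (h' ▸ a.2) b.2.2
      · have h' : a.1 = b.1 := congrArg (fun z => z.1) h
        exact absurd (h' ▸ b.2) a.2.2
      · have h' : a.1 = b.1 := congrArg (fun z => z.1) h
        have hz : z = z' := by
          refine hGinj _ _ ?_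
          by_contra hne
          exact a.2.2 (inter_stab Q (hG z) (hG z') hne (hGx z) (hGx z') a.2.1 (h' ▸ b.2.1) hp hfx hu)
        subst hz
        rw [Subtype.ext h']
    · by_cases hy : y.1.1 • p = p
      · exact ⟨Sum.inl ⟨y.1, hy⟩, rfl⟩
      rcases (sol_iff Q hpr x y.1).1 y.2 with ⟨p', hp', h1, h2⟩ | ⟨g, hg, hxg, hyg⟩
      · exact absurd (hu p' hp' h1 ▸ h2) hy
      · obtain ⟨z, hz⟩ := hcover g hg hxg
        exact ⟨Sum.inr ⟨z, y.1, (nor_of_tor Q hz).symm.le hyg, hy⟩, rfl⟩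
  rw [hsplit, (stab_data Q hp).1, Nat.card_sigma, Fintype.sum_sigma]
  congr 1
  refine Finset.sum_congr rfl fun j _ => ?_
  have hterm : ∀ q : Fib (gs j) x, Nat.card {y : SS // y ∈ nor (G ⟨j, q⟩) ∧ y.1 • p ≠ p} =
      Nat.card (nor (gs j)) - e j := fun q => by
    rw [← (hGc ⟨j, q⟩).2, ← he j _ (hG ⟨j, q⟩) (hGc ⟨j, q⟩).2 (hGc ⟨j, q⟩).1 (hGx ⟨j, q⟩) p hp hfx]
    have hset : Nat.card {y : SS // y ∈ nor (G ⟨j, q⟩) ∧ y.1 • p ≠ p} =
        ((nor (G ⟨j, q⟩) : Set SS) \ ((nor (G ⟨j, q⟩) ⊓ stab (m := m) p : Subgroup SS) : Set SS)).ncard := by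
      rw [← Nat.card_coe_set_eq]
      refine Nat.card_congr (Equiv.subtypeEquivRight fun y => ?_)
      exact ⟨fun h => ⟨h.1, fun h' => h.2 h'.2⟩, fun h => ⟨h.1, fun h' => h.2 ⟨h.1, h'⟩⟩⟩
    have hsub : ((nor (G ⟨j, q⟩) ⊓ stab (m := m) p : Subgroup SS) : Set SS) ⊆ (nor (G ⟨j, q⟩) : Set SS) :=
      fun y hy => hy.1
    rw [hset, Set.ncard_sdiff hsub, ← Nat.card_coe_set_eq, ← Nat.card_coe_set_eq]
    rfl
  rw [Finset.sum_congr rfl fun q _ => hterm q, Finset.sum_const, smul_eq_mul, Nat.card_eq_fintype_card (α := Fib (gs j) x),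
    Finset.card_univ]

/-- The five solubiliser orders. -/
theorem main (hpr : (2 * m + 1).Prime) (x : SS) :
    (orderOf x = 2 → Nat.card {y : SS // Group.IsSolvable (Subgroup.closure ({x, y} : Set SS))} =
      qq ^ 2 * (4 * qq - 3)) ∧
    (orderOf x = 4 → Nat.card {y : SS // Group.IsSolvable (Subgroup.closure ({x, y} : Set SS))} =
      qq ^ 2 * (qq + 3)) ∧
    (x ≠ 1 → orderOf x ∣ qq - 1 → Nat.card {y : SS // Group.IsSolvable (Subgroup.closure ({x, y} : Set SS))} =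
      2 * qq ^ 2 * (qq - 1)) ∧
    (x ≠ 1 → orderOf x ∣ qq + rr + 1 → Nat.card {y : SS // Group.IsSolvable (Subgroup.closure ({x, y} : Set SS))} =
      4 * (qq + rr + 1)) ∧
    (x ≠ 1 → orderOf x ∣ qq - rr + 1 → Nat.card {y : SS // Group.IsSolvable (Subgroup.closure ({x, y} : Set SS))} =
      4 * (qq - rr + 1)) := by
  classical
  obtain ⟨h8, h4, h2r, hq, hr⟩ := num_facts Q
  obtain ⟨gs, hgs, t0, n0, t1, n1, t2, n2⟩ := exists_reps Q
  obtain ⟨c01, c02, c12⟩ := coprime_tori Q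
  have hsemi : ∀ {c : ℕ}, Odd c → x ≠ 1 → orderOf x ∣ c → Semi Q x := fun hc h1 hd =>
    semi_of_odd Q h1 (hc.of_dvd_nat hd)
  have hcard : ∀ {c : ℕ}, x ≠ 1 → orderOf x ∣ c → Semi Q x → ∀ d, Nat.card (tor x) = d → ¬ c.Coprime d :=
    fun h1 hd hs d e hco => h1 (orderOf_eq_one_iff.1 (Nat.dvd_one.1 (hco ▸ Nat.dvd_gcd hd
      (e ▸ Subgroup.orderOf_dvd_natCard _ (mem_tor.2 (Commute.refl x))))))
  have htorus : ∀ g, Semi Q g → x ≠ 1 → Semi Q x → x ∈ nor g → tor g = tor x := fun g hg h1 hs hxg =>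
    (tor_eq_of_mem Q hg (semi_mem Q hg hs hxg) h1).symm
  have hfree : x ≠ 1 → Semi Q x → Nat.card (tor x) ≠ qq - 1 →
      Nat.card {y : SS // Group.IsSolvable (Subgroup.closure ({x, y} : Set SS))} = 4 * Nat.card (tor x) := by
    intro h1 hs hne
    have hN : Nat.card (nor x) = 4 * Nat.card (tor x) := by
      rcases nor_card Q hs with ⟨h, -⟩ | ⟨-, h⟩
      · exact absurd h hne
      · exact h
    rw [← hN]
    refine Nat.card_congr (Equiv.subtypeEquivRight fun y => ?_)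
    rw [sol_iff Q hpr]
    refine ⟨?_, fun h => Or.inr ⟨x, hs, Subgroup.le_normalizer (mem_tor.2 (Commute.refl x)), h⟩⟩
    rintro (⟨p, hp, hxp, -⟩ | ⟨g, hg, hxg, hyg⟩)
    · exfalso
      rcases semi_cases Q hs with ⟨c, k, hk, e⟩ | hf
      · refine hne ?_
        rw [← Subgroup.card_map_of_injective (f := (MulAut.conj c).toMonoidHom) (MulAut.conj c).injective,
          tor_eq_map Q hk e]
        exact (range_data Q).2
      · exact hf p hp hxp
    · exact (nor_of_tor Q (htorus g hg h1 hs hxg)).le hyg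
  have hdist : ∀ j j', Nat.card (tor (gs j)) = Nat.card (tor (gs j')) → j = j' := by
    intro j j' h
    fin_cases j <;> fin_cases j' <;> first | rfl | (exfalso; simp only [Fin.mk_one, Fin.zero_eta, Fin.reduceFinMk, t0, t1, t2] at h; omega)
  have hall : ∀ g, Semi Q g → ∃ j, Nat.card (tor g) = Nat.card (tor (gs j)) := fun g hg => by
    rcases nor_card Q hg with ⟨h, -⟩ | ⟨h | h, -⟩
    · exact ⟨0, h.trans t0.symm⟩
    · exact ⟨1, h.trans t1.symm⟩
    · exact ⟨2, h.trans t2.symm⟩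
  have he : orderOf x = 2 ∨ orderOf x = 4 → ∀ (j : Fin 3) (g : SS), Semi Q g →
      Nat.card (nor g) = Nat.card (nor (gs j)) →
      Nat.card (tor g) = Nat.card (tor (gs j)) → x ∈ nor g → ∀ p ∈ Cfsg.suzukiOvoid F m, x.1 • p = p →
      Nat.card (nor g ⊓ stab (m := m) p : Subgroup SS) = ![2, 4, 4] j := fun hx j g hg en et hxg p hp hfx => by
    obtain ⟨h4', h2'⟩ := card_inter Q hg hx hxg hp hfx
    fin_cases j
    · exact (h2' (by rw [en, et]; exact n0.trans (congrArg (2 * ·) t0.symm))).2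
    · exact h4' (by rw [en, et]; exact n1.trans (congrArg (4 * ·) t1.symm))
    · exact h4' (by rw [en, et]; exact n2.trans (congrArg (4 * ·) t2.symm))
  refine ⟨fun hx => ?_, fun hx => ?_, fun h1 hd => ?_, fun h1 hd => ?_, fun h1 hd => ?_⟩
  · rw [card_sol Q hpr (Or.inl hx) hgs hdist hall _ (he (Or.inl hx)), Fin.sum_univ_three]
    simp only [Matrix.cons_val_zero, Matrix.cons_val_one, Matrix.cons_val_two, Matrix.cons_val, Matrix.tail_cons,
      Matrix.head_cons, n0, n1, n2]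
    have k0 := fib_two Q (hgs 0) hx
    have k1 := fib_two Q (hgs 1) hx
    have k2 := fib_two Q (hgs 2) hx
    rw [n0, t0] at k0; rw [n1, t1] at k1; rw [n2, t2] at k2
    exact arith_invol h8 h2r k0 k1 k2
  · rw [card_sol Q hpr (Or.inr hx) hgs hdist hall _ (he (Or.inr hx)), Fin.sum_univ_three]
    simp only [Matrix.cons_val_zero, Matrix.cons_val_one, Matrix.cons_val_two, Matrix.cons_val, Matrix.tail_cons,
      Matrix.head_cons, n0, n1, n2]
    have := (fib_four Q (hgs 0) hx).1 (n0.trans (congrArg (2 * ·) t0.symm))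
    rw [Nat.card_of_isEmpty (α := Fib (gs 0) x), zero_mul, zero_add]
    have k1 := (fib_four Q (hgs 1) hx).2 (n1.trans (congrArg (4 * ·) t1.symm))
    have k2 := (fib_four Q (hgs 2) hx).2 (n2.trans (congrArg (4 * ·) t2.symm))
    rw [n1, t1] at k1; rw [n2, t2] at k2
    exact arith_four h8 h2r k1 k2
  · have hodd : Odd (qq - 1) := by rw [Nat.odd_iff]; omega
    have hs := hsemi hodd h1 hd
    rcases nor_card Q hs with ⟨hT, hN⟩ | ⟨h | h, -⟩
    · rcases semi_cases Q hs with ⟨c, k, hk, e⟩ | hf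
      swap
      · exfalso
        obtain ⟨-, -, -, -, -, -, -, -, hall'⟩ := two_tori Q
        rcases hall' x hf with h | h <;> omega
      obtain ⟨p1, hp1d⟩ : ∃ p1, p1 = c.1⁻¹ • inf∞ := ⟨_, rfl⟩
      obtain ⟨p2, hp2d⟩ : ∃ p2, p2 = c.1⁻¹ • pt m (0 : F) 0 := ⟨_, rfl⟩
      have hp1 : p1 ∈ Cfsg.suzukiOvoid F m := hp1d ▸ smul_ovoid Q (inv_mem c.2) (inf_mem m)
      have hp2 : p2 ∈ Cfsg.suzukiOvoid F m := hp2d ▸ smul_ovoid Q (inv_mem c.2) (pt_mem m 0 0)
      have hne : p1 ≠ p2 := by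
        rw [hp1d, hp2d]
        exact fun h => pt_ne_inf m 0 0 (MulAction.injective c.1⁻¹ h).symm
      have e' : c.1 * x.1 * c.1⁻¹ = H m k := congrArg Subtype.val e
      have hfix : ∀ p ∈ Cfsg.suzukiOvoid F m, x.1 • p = p ↔ p = p1 ∨ p = p2 := by
        intro p hp
        have h' : x.1 • p = p ↔ H m k • c.1 • p = c.1 • p := by
          rw [← e', mul_smul, mul_smul, inv_smul_smul, smul_left_cancel_iff]
        rw [h', hp1d, hp2d, eq_inv_smul_iff, eq_inv_smul_iff]
        refine ⟨fixed_point_hI Q hk (smul_ovoid Q c.2 hp), ?_⟩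
        rintro (h | h) <;> rw [h]
        · exact H_inf m k
        · rw [H_pt Q, mul_zero, mul_zero]
      have htor : stab (m := m) p1 ⊓ stab (m := m) p2 = tor x := by
        ext y
        show (y.1 • p1 = p1 ∧ y.1 • p2 = p2) ↔ y ∈ tor x
        have hy : y ∈ tor x ↔ c * y * c⁻¹ ∈ (hHom Q).range := by
          rw [← tor_eq_map Q hk e, map_conj_mem]; simp [mul_assoc]
        have hy' : ∀ q' : Projectivization F (Fin 4 → F), y.1 • c.1⁻¹ • q' = c.1⁻¹ • q' ↔ (c * y * c⁻¹).1 • q' = q' := fun q' => by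
          show _ ↔ (c.1 * y.1 * c.1⁻¹) • q' = q'
          rw [mul_smul, mul_smul]
          exact ⟨fun h => by rw [h, smul_inv_smul], fun h => eq_inv_smul_iff.2 h⟩
        rw [hy, hp1d, hp2d, hy', hy']
        constructor
        · rintro ⟨h1, h2⟩
          obtain ⟨l, hl⟩ := stab_pair Q (c * y * c⁻¹).2 h1 h2
          exact ⟨l, Subtype.ext hl.symm⟩
        · rintro ⟨l, hl⟩
          rw [show (c * y * c⁻¹).1 = H m l from (congrArg Subtype.val hl).symm]
          exact ⟨H_inf m l, by rw [H_pt Q, mul_zero, mul_zero]⟩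
      have hNt : ∀ p, p = p1 ∨ p = p2 → ∀ y ∈ nor x, y.1 • p = p → y ∈ tor x := by
        intro p hp y hy hyp
        have hyfix : ∀ r ∈ Cfsg.suzukiOvoid F m, x.1 • r = r → x.1 • y.1 • r = y.1 • r := fun r hr hxr => by
          have hm : y⁻¹ * x * y ∈ tor x := by
            have := (Subgroup.mem_normalizer_iff.1 (inv_mem hy) x).1 (mem_tor.2 (Commute.refl x))
            rwa [inv_inv] at this
          rw [← htor] at hm
          have hr' : (y.1⁻¹ * x.1 * y.1) • r = r := by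
            rcases (hfix r hr).1 hxr with rfl | rfl
            · exact hm.1
            · exact hm.2
          rwa [mul_smul, mul_smul, inv_smul_eq_iff] at hr'
        have h12 : y.1 • p1 = p1 ∧ y.1 • p2 = p2 := by
          rcases hp with rfl | rfl
          · refine ⟨hyp, ?_⟩
            rcases (hfix _ (smul_ovoid Q y.2 hp2)).1 (hyfix p2 hp2 ((hfix p2 hp2).2 (Or.inr rfl))) with h | h
            · exact absurd (MulAction.injective y.1 (h.trans hyp.symm)).symm hne
            · exact h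
          · refine ⟨?_, hyp⟩
            rcases (hfix _ (smul_ovoid Q y.2 hp1)).1 (hyfix p1 hp1 ((hfix p1 hp1).2 (Or.inl rfl))) with h | h
            · exact h
            · exact absurd (MulAction.injective y.1 (h.trans hyp.symm)) hne
        rw [← htor]; exact h12
      have hset : {y : SS | Group.IsSolvable (Subgroup.closure ({x, y} : Set SS))} =
          ((stab (m := m) p1 : Set SS) ∪ (stab (m := m) p2 : Set SS)) ∪ (nor x : Set SS) := by
        ext y
        simp only [Set.mem_setOf_eq, sol_iff Q hpr, Set.mem_union, SetLike.mem_coe]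
        constructor
        · rintro (⟨p, hp, hxp, hyp⟩ | ⟨g, hg, hxg, hyg⟩)
          · rcases (hfix p hp).1 hxp with rfl | rfl
            · exact Or.inl (Or.inl hyp)
            · exact Or.inl (Or.inr hyp)
          · exact Or.inr ((nor_of_tor Q (htorus g hg h1 hs hxg)).le hyg)
        · rintro ((h | h) | h)
          · exact Or.inl ⟨p1, hp1, (hfix p1 hp1).2 (Or.inl rfl), h⟩
          · exact Or.inl ⟨p2, hp2, (hfix p2 hp2).2 (Or.inr rfl), h⟩
          · exact Or.inr ⟨x, hs, Subgroup.le_normalizer (mem_tor.2 (Commute.refl x)), h⟩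
      have hcardset : ∀ K : Subgroup SS, (K : Set SS).ncard = Nat.card K := fun K => (Nat.card_coe_set_eq _).symm
      have i1 : (stab (m := m) p1 : Set SS) ∩ (stab (m := m) p2 : Set SS) = (tor x : Set SS) := by
        rw [← htor]; rfl
      have i2 : ((stab (m := m) p1 : Set SS) ∪ (stab (m := m) p2 : Set SS)) ∩ (nor x : Set SS) = (tor x : Set SS) := by
        ext y
        refine ⟨?_, fun h => ⟨Or.inl ?_, Subgroup.le_normalizer h⟩⟩
        · rintro ⟨h | h, hy⟩
          · exact hNt p1 (Or.inl rfl) y hy h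
          · exact hNt p2 (Or.inr rfl) y hy h
        · exact (htor.symm ▸ h : y ∈ stab (m := m) p1 ⊓ stab (m := m) p2).1
      have u1 := Set.ncard_union_add_ncard_inter (stab (m := m) p1 : Set SS) (stab (m := m) p2 : Set SS)
      have u2 := Set.ncard_union_add_ncard_inter
        ((stab (m := m) p1 : Set SS) ∪ (stab (m := m) p2 : Set SS)) (nor x : Set SS)
      rw [i1, hcardset, hcardset, hcardset, (stab_data Q hp1).1, (stab_data Q hp2).1] at u1
      rw [i2, hcardset, hcardset, hN, ← hset] at u2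
      rw [show Nat.card {y : SS // Group.IsSolvable (Subgroup.closure ({x, y} : Set SS))} =
        {y : SS | Group.IsSolvable (Subgroup.closure ({x, y} : Set SS))}.ncard from Nat.card_coe_set_eq _,
        mul_assoc]
      omega
    · exact absurd c01 (hcard h1 hd hs _ h)
    · exact absurd c02 (hcard h1 hd hs _ h)
  · have hodd : Odd (qq + rr + 1) := by rw [Nat.odd_iff]; omega
    have hs := hsemi hodd h1 hd
    rcases nor_card Q hs with ⟨h, -⟩ | ⟨h | h, -⟩
    · exact absurd c01.symm (hcard h1 hd hs _ h)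
    · rw [hfree h1 hs (by omega), h]
    · exact absurd c12 (hcard h1 hd hs _ h)
  · have hodd : Odd (qq - rr + 1) := by rw [Nat.odd_iff]; omega
    have hs := hsemi hodd h1 hd
    rcases nor_card Q hs with ⟨h, -⟩ | ⟨h | h, -⟩
    · exact absurd c02.symm (hcard h1 hd hs _ h)
    · exact absurd c12.symm (hcard h1 hd hs _ h)
    · rw [hfree h1 hs (by omega), h]

omit Q in
/-- Transport of the soluble set along an isomorphism. -/
theorem transport {A B : Type*} [Group A] [Group B] (e : A ≃* B) (x : A) :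
    Nat.card {y : B // Group.IsSolvable (Subgroup.closure ({e x, y} : Set B))} =
      Nat.card {y : A // Group.IsSolvable (Subgroup.closure ({x, y} : Set A))} := by
  refine (Nat.card_congr (Equiv.subtypeEquiv e.toEquiv fun y => ?_)).symm
  have h : (Subgroup.closure ({x, y} : Set A)).map e.toMonoidHom = Subgroup.closure ({e x, e y} : Set B) := by
    rw [MonoidHom.map_closure, Set.image_pair]; rfl
  have f := (Subgroup.closure ({x, y} : Set A)).equivMapOfInjective e.toMonoidHom e.injective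
  rw [h] at f
  exact ⟨fun _ => Group.isSolvable_of_isSolvable_injective (f := f.symm.toMonoidHom) f.symm.injective,
    fun _ => Group.isSolvable_of_isSolvable_injective (f := f.toMonoidHom) f.injective⟩

end Cfsg.Lib.Suz.Solub
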