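import Cfsg.Agent.Suz.Multiplier
import Cfsg.Agent.Schur.Corestriction

/-!
The multiplier of the Suzuki group over the field with eight elements is a four-group: the
corestriction of an explicit cocycle on a Sylow 2-subgroup gives the cover, and the pairing of the
subgroup with its centre bounds every kernel.
-/

set_option autoImplicit false
set_option linter.style.haveILetI false

open scoped commutatorElement

namespace Cfsg.Lib.Suz.Eight

open Cfsg.Lib.Schur.Corestriction (Datum cor beta Ext)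

universe u v

variable {F : Type u} [Field F] [Fintype F] (Q : Par F 1)

include Q

theorem card_eight : Fintype.card F = 8 := Q.hF

theorem two_eq_zero : (2 : F) = 0 := by
  haveI := charP Q
  exact CharP.cast_eq_zero F 2

theorem pow_eight (x : F) : x ^ 8 = x := by
  conv_rhs => rw [← FiniteField.pow_card x, card_eight Q]

theorem pow_seven {x : F} (hx : x ≠ 0) : x ^ 7 = 1 := by
  have h := FiniteField.pow_card_sub_one_eq_one x hx
  rwa [card_eight Q] at h

theorem eq_of_add {x y : F} (h : x + y = 0) : x = y :=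
  (eq_neg_of_add_eq_zero_left h).trans (neg_eq Q y)

/-- Coordinates of the field modulo the prime field. -/
theorem exists_coords : ∃ (L : F →+ ZMod 2 × ZMod 2) (R : ZMod 2 × ZMod 2 →+ F), L 1 = 0 ∧
    (∀ z, L (R z) = z) ∧ ∀ c, c = R (L c) ∨ c = 1 + R (L c) := by
  classical
  haveI := charP Q
  have hc := card_eight Q
  obtain ⟨α, hα⟩ : ∃ α : F, α ∉ ({0, 1} : Finset F) := by
    by_contra h
    push Not at h
    have := (Finset.card_le_card fun x (_ : x ∈ Finset.univ) => h x).trans Finset.card_le_two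
    rw [Finset.card_univ, hc] at this
    omega
  obtain ⟨β, hβ⟩ : ∃ β : F, β ∉ ({0, 1, α, 1 + α} : Finset F) := by
    by_contra h
    push Not at h
    have := (Finset.card_le_card fun x (_ : x ∈ Finset.univ) => h x).trans Finset.card_le_four
    rw [Finset.card_univ, hc] at this
    omega
  simp only [Finset.mem_insert, Finset.mem_singleton, not_or] at hα hβ
  let c2 : ZMod 2 →+ F := (ZMod.castHom (dvd_refl 2) F).toAddMonoidHom
  let ψ : ZMod 2 × (ZMod 2 × ZMod 2) →+ F :=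
    { toFun := fun p => c2 p.1 + (c2 p.2.1 * α + c2 p.2.2 * β)
      map_zero' := by simp
      map_add' := fun p r => by simp only [Prod.fst_add, Prod.snd_add, map_add]; ring }
  have h2 : ∀ i : ZMod 2, i = 0 ∨ i = 1 := by decide
  have hinj : Function.Injective ψ := by
    refine (injective_iff_map_eq_zero ψ).mpr fun p hp => ?_
    obtain ⟨i, j, k⟩ := p
    change c2 i + (c2 j * α + c2 k * β) = 0 at hp
    have e1 : c2 1 = 1 := map_one (ZMod.castHom (dvd_refl 2) F)
    rcases h2 i with rfl | rfl <;> rcases h2 j with rfl | rfl <;> rcases h2 k with rfl | rfl <;>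
      simp only [map_zero, e1, zero_add, add_zero, zero_mul, one_mul] at hp
    · rfl
    · exact absurd hp hβ.1
    · exact absurd hp hα.1
    · exact absurd (eq_of_add Q hp).symm hβ.2.2.1
    · exact absurd hp one_ne_zero
    · exact absurd (eq_of_add Q hp).symm hβ.2.1
    · exact absurd (eq_of_add Q hp).symm hα.2
    · exact absurd (eq_of_add Q (show (1 + α) + β = 0 by rw [add_assoc]; exact hp)).symm hβ.2.2.2
  have hbij : Function.Bijective ψ := (Fintype.bijective_iff_injective_and_card ψ).mpr ⟨hinj, by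
    simp [hc]⟩
  let E : ZMod 2 × (ZMod 2 × ZMod 2) ≃+ F := AddEquiv.ofBijective ψ hbij
  refine ⟨(AddMonoidHom.snd _ _).comp E.symm.toAddMonoidHom, ψ.comp (AddMonoidHom.inr _ _), ?_,
    fun z => ?_, fun c => ?_⟩
  · have e : E (1, 0, 0) = 1 := by simp [E, ψ, c2]
    show (E.symm 1).2 = 0
    rw [← e, E.symm_apply_apply]
    rfl
  · show (E.symm (E (0, z))).2 = z
    rw [E.symm_apply_apply]
  · obtain ⟨⟨i, z⟩, rfl⟩ := E.surjective c
    show E (i, z) = E (0, (E.symm (E (i, z))).2) ∨ E (i, z) = 1 + E (0, (E.symm (E (i, z))).2)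
    rw [E.symm_apply_apply]
    rcases h2 i with rfl | rfl
    · exact Or.inl rfl
    · refine Or.inr ?_
      simp [E, ψ, c2]

/-- The first coordinate. -/
noncomputable def ca (x : uSub Q) : F := (exists_uu Q x.2).choose

/-- The second coordinate. -/
noncomputable def cb (x : uSub Q) : F := (exists_uu Q x.2).choose_spec.choose

theorem coe_eq (x : uSub Q) : (x : Cfsg.Sz F 1) = uu Q (ca Q x) (cb Q x) :=
  (exists_uu Q x.2).choose_spec.choose_spec

theorem ca_cb {x : uSub Q} {a b : F} (h : (x : Cfsg.Sz F 1) = uu Q a b) : ca Q x = a ∧ cb Q x = b :=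
  uu_inj Q ((coe_eq Q x).symm.trans h)

theorem ca_cb_mul (x y : uSub Q) : ca Q (x * y) = ca Q x + ca Q y ∧
    cb Q (x * y) = cb Q x + cb Q y + ca Q x ^ 4 * ca Q y :=
  ca_cb Q (by rw [Subgroup.coe_mul, coe_eq Q x, coe_eq Q y, uu_mul]; rfl)

theorem ca_cb_one : ca Q 1 = 0 ∧ cb Q 1 = 0 := ca_cb Q (by rw [Subgroup.coe_one, uu_zero])

/-- The cocycle, before projecting to the four-group. -/
noncomputable def pre (x y : uSub Q) : F :=
  cb Q x * ca Q y ^ 2 + (ca Q x ^ 3 * ca Q y ^ 4 + ca Q x ^ 2 * ca Q y ^ 5)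

/-- The trace. -/
theorem trace_zero_or_one (t : F) : t + t ^ 2 + t ^ 4 = 0 ∨ t + t ^ 2 + t ^ 4 = 1 := by
  have h : (t + t ^ 2 + t ^ 4) * (t + t ^ 2 + t ^ 4) = t + t ^ 2 + t ^ 4 := by
    linear_combination pow_eight Q t + (t ^ 3 + t ^ 5 + t ^ 6) * two_eq_zero Q
  rcases mul_eq_zero.mp (show (t + t ^ 2 + t ^ 4) * (t + t ^ 2 + t ^ 4 - 1) = 0 by
    rw [mul_sub, h, mul_one, sub_self]) with e | e
  · exact Or.inl e
  · exact Or.inr (sub_eq_zero.mp e)

theorem pre_cocycle (x y z : uSub Q) :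
    pre Q y z + pre Q x (y * z) - (pre Q (x * y) z + pre Q x y) =
      ca Q x ^ 4 * ca Q y * ca Q z ^ 2 + (ca Q x ^ 4 * ca Q y * ca Q z ^ 2) ^ 2 +
        (ca Q x ^ 4 * ca Q y * ca Q z ^ 2) ^ 4 := by
  simp only [pre, (ca_cb_mul Q x y).1, (ca_cb_mul Q x y).2, (ca_cb_mul Q y z).1]
  have h1 := pow_eight Q (ca Q x)
  have h2 := pow_eight Q (ca Q z)
  have h3 := two_eq_zero Q
  grind

/-- The cocycle. -/
noncomputable def fL (L : F →+ ZMod 2 × ZMod 2) (x y : uSub Q) : ZMod 2 × ZMod 2 := L (pre Q x y)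

/-- The abelian subgroup over the centre. -/
def abSub : Subgroup (Cfsg.Sz F 1) where
  carrier := {g | ∃ a b, (a = 0 ∨ a = 1) ∧ g = uu Q a b}
  one_mem' := ⟨0, 0, Or.inl rfl, (uu_zero Q).symm⟩
  mul_mem' := by
    rintro _ _ ⟨a, b, ha, rfl⟩ ⟨c, d, hc, rfl⟩
    refine ⟨_, _, ?_, uu_mul Q a b c d⟩
    rcases ha with rfl | rfl <;> rcases hc with rfl | rfl
    · left; exact add_zero 0
    · right; exact zero_add 1
    · right; exact add_zero 1
    · left; exact add_self Q 1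
  inv_mem' := by
    rintro _ ⟨a, b, ha, rfl⟩
    exact ⟨a, b + a ^ (2 ^ (1 + 1) + 1), ha, Subtype.ext (T_inv Q a b)⟩

theorem abSub_le : abSub Q ≤ uSub Q := by
  rintro _ ⟨a, b, -, rfl⟩
  exact uu_mem Q a b

/-- Elements moving a point of the Sylow subgroup into it normalise it. -/
theorem fix_of_fix {a b : Cfsg.Sz F 1} (ha : a ∈ uSub Q) (hb : b ∈ uSub Q) (ha1 : a ≠ 1) {g : Cfsg.Sz F 1}
    (h : g⁻¹ * (a * g) ∈ uSub Q) : g⁻¹ * (b * g) ∈ uSub Q := by
  have hst := ti Q ha ha1 (g := g⁻¹) (by rwa [inv_inv, mul_assoc])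
  have hN : g⁻¹ ∈ Subgroup.normalizer (uSub Q : Set (Cfsg.Sz F 1)) := by
    rw [normalizer_uSub]; exact hst
  have := (Subgroup.mem_normalizer_iff.mp hN b).mp hb
  rwa [inv_inv, mul_assoc] at this

theorem conj_formula {g : Cfsg.Sz F 1} (hg : g.1 • Cfsg.suzukiPointInfinity F = Cfsg.suzukiPointInfinity F) :
    ∃ k : Fˣ, ∀ c d : F, ∃ e, g * uu Q c d * g⁻¹ = uu Q ((k : F) * c) e ∧
      (c = 0 → e = (k : F) ^ 5 * d) := by
  obtain ⟨a, b, k, e⟩ := stab_inf Q g.2 hg
  refine ⟨k, fun c d => ?_⟩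
  have eg : g = uu Q a b * hI Q k := Subtype.ext e
  have ei : (uu Q a b)⁻¹ = uu Q a (b + a ^ 5) := Subtype.ext (T_inv Q a b)
  refine ⟨b + (k : F) ^ (2 ^ (1 + 1) + 1) * d + a ^ (2 ^ (1 + 1)) * ((k : F) * c) + (b + a ^ 5) +
    (a + (k : F) * c) ^ (2 ^ (1 + 1)) * a, ?_, ?_⟩
  · rw [eg, show uu Q a b * hI Q k * uu Q c d * (uu Q a b * hI Q k)⁻¹ =
      uu Q a b * (hI Q k * uu Q c d * (hI Q k)⁻¹) * (uu Q a b)⁻¹ by group, hI_conj_uu, ei, uu_mul, uu_mul]
    congr 1
    linear_combination a * two_eq_zero Q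
  · rintro rfl
    show b + (k : F) ^ (2 ^ (1 + 1) + 1) * d + a ^ (2 ^ (1 + 1)) * ((k : F) * 0) + (b + a ^ 5) +
      (a + (k : F) * 0) ^ (2 ^ (1 + 1)) * a = (k : F) ^ 5 * d
    linear_combination (b + a ^ 5) * two_eq_zero Q

theorem exists_cover : ∃ (Γ : Type u) (_ : Group Γ) (_ : Finite Γ) (σ : Γ →* Cfsg.Sz F 1),
    Cfsg.IsStemExtension σ ∧ Nonempty (σ.ker ≃* Multiplicative (ZMod 2 × ZMod 2)) := by
  classical
  obtain ⟨L, R, hL1, hLR, -⟩ := exists_coords Q
  haveI : Fintype (Cfsg.Sz F 1 ⧸ uSub Q) := Fintype.ofFinite _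
  obtain ⟨s, hs, hsA⟩ := Cfsg.Lib.Schur.Corestriction.exists_transversal (P := uSub Q) (abSub Q) (by
    intro a ha i hai ha1 b hb
    induction i using QuotientGroup.induction_on with
    | H g =>
      have h1 : g⁻¹ * (a * g) ∈ uSub Q := QuotientGroup.eq.mp hai.symm
      exact (QuotientGroup.eq.mpr (fix_of_fix Q (abSub_le Q ha) (abSub_le Q hb) ha1 h1)).symm)
  let D : Datum (uSub Q) (ZMod 2 × ZMod 2) :=
    { f := fL Q L
      cocycle := fun x y z => by
        rw [← sub_eq_zero]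
        simp only [fL, ← map_add, ← map_sub]
        rw [pre_cocycle]
        rcases trace_zero_or_one Q (ca Q x ^ 4 * ca Q y * ca Q z ^ 2) with e | e
        · rw [e, map_zero]
        · rw [e, hL1]
      left := fun x => by simp [fL, pre, (ca_cb_one Q).1, (ca_cb_one Q).2]
      right := fun x => by simp [fL, pre, (ca_cb_one Q).1]
      s := s
      hs := hs }
  refine ⟨Ext D, inferInstance, inferInstance, Cfsg.Lib.Schur.Corestriction.proj D,
    Cfsg.Lib.Schur.Corestriction.isStemExtension D fun z => ?_,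
    ⟨(Cfsg.Lib.Schur.Corestriction.kerEquiv D).symm⟩⟩
  set x := uu Q 1 0
  set w := uu Q 0 (R z)
  have hxA : x ∈ abSub Q := ⟨1, 0, Or.inr rfl, rfl⟩
  have hwA : w ∈ abSub Q := ⟨0, R z, Or.inl rfl, rfl⟩
  have hcomm : x * w = w * x := by
    simp only [x, w, uu_mul]
    congr 1 <;> simp
  refine ⟨x, w, hcomm, ?_⟩
  set Fix : Finset (Cfsg.Sz F 1 ⧸ uSub Q) := Finset.univ.filter fun i => ∀ b ∈ abSub Q, b • i = i
  have hterm : ∀ i, D.f (beta D x (w • i)) (beta D w i) - D.f (beta D w (x • i)) (beta D x i) =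
      if i ∈ Fix then z else 0 := by
    intro i
    split_ifs with hi
    · have hi' : ∀ b ∈ abSub Q, b • i = i := (Finset.mem_filter.mp hi).2
      rw [hi' w hwA, hi' x hxA]
      set g := s i with hg
      have hbeta : ∀ b ∈ abSub Q, ((beta D b i : uSub Q) : Cfsg.Sz F 1) = g⁻¹ * b * (g⁻¹)⁻¹ := by
        intro b hb
        show (s (b • i))⁻¹ * (b * s i) = _
        rw [hi' b hb, inv_inv, mul_assoc]
      have hx1 : x ≠ 1 := fun e => one_ne_zero (uu_inj Q (e.trans (uu_zero Q).symm)).1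
      have hst := ti Q (abSub_le Q hxA) hx1 (g := g⁻¹) (hbeta x hxA ▸ (beta D x i).2)
      obtain ⟨k, hk⟩ := conj_formula Q hst
      obtain ⟨e, he, -⟩ := hk 1 0
      obtain ⟨e', he', he0⟩ := hk 0 (R z)
      obtain ⟨ha, -⟩ := ca_cb Q ((hbeta x hxA).trans he)
      obtain ⟨ha', hb'⟩ := ca_cb Q ((hbeta w hwA).trans he')
      show L (pre Q _ _) - L (pre Q _ _) = z
      have hk7 := pow_seven Q k.ne_zero
      rw [show pre Q (beta D x i) (beta D w i) = 0 by simp [pre, ha'],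
        show pre Q (beta D w i) (beta D x i) = R z by
          simp only [pre, ha, ha', hb', he0 rfl]
          linear_combination R z * hk7,
        map_zero, zero_sub, hLR]
      exact (by decide : ∀ y : ZMod 2 × ZMod 2, -y = y) z
    · have hi' : ¬ ∀ b ∈ abSub Q, b • i = i := fun h => hi (Finset.mem_filter.mpr ⟨Finset.mem_univ _, h⟩)
      rw [Cfsg.Lib.Schur.Corestriction.beta_eq_one D (g := w) (hsA w hwA i hi'), D.right,
        Cfsg.Lib.Schur.Corestriction.beta_eq_one D (g := x) (hsA x hxA i hi'), D.right, sub_zero]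
  have hodd : Odd Fix.card := by
    have hP : IsPGroup 2 (abSub Q) := (isPGroup_uSub Q).to_le (abSub_le Q)
    haveI : Fact (Nat.Prime 2) := ⟨Nat.prime_two⟩
    have h := hP.card_modEq_card_fixedPoints (Cfsg.Sz F 1 ⧸ uSub Q)
    have hset : MulAction.fixedPoints (abSub Q) (Cfsg.Sz F 1 ⧸ uSub Q) = ↑Fix := by
      ext i
      simp only [MulAction.mem_fixedPoints, Fix, Finset.coe_filter, Finset.mem_univ, true_and,
        Set.mem_setOf_eq]
      exact ⟨fun h b hb => h ⟨b, hb⟩, fun h b => h b.1 b.2⟩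
    rw [hset, Nat.card_coe_set_eq, Set.ncard_coe_finset] at h
    have hi : ¬ 2 ∣ Nat.card (Cfsg.Sz F 1 ⧸ uSub Q) := not_dvd_index Q
    unfold Nat.ModEq at h
    exact Nat.odd_iff.mpr (by omega)
  show cor D x w - cor D w x = z
  rw [cor, cor, ← Finset.sum_sub_distrib, Finset.sum_congr rfl fun i _ => hterm i, Finset.sum_ite_mem,
    Finset.univ_inter, Finset.sum_const]
  obtain ⟨r, hr⟩ := hodd
  rw [hr, add_smul, one_smul, mul_comm, mul_smul]
  have h0 : (2 : ℕ) • z = 0 := (by decide : ∀ z : ZMod 2 × ZMod 2, (2 : ℕ) • z = 0) z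
  rw [h0, smul_zero, zero_add]

theorem kernel_image {Γ : Type v} [Group Γ] [Finite Γ] {σ : Γ →* Cfsg.Sz F 1}
    (hσ : Cfsg.IsStemExtension σ) :
    ∃ π : Multiplicative (ZMod 2 × ZMod 2) →* σ.ker, Function.Surjective π := by
  classical
  obtain ⟨L, R, -, -, hcases⟩ := exists_coords Q
  choose lift hlift using hσ.1
  have hcen : ∀ w, σ w = 1 → ∀ g, g * w = w * g := fun w hw => Subgroup.mem_center_iff.mp (hσ.2.1 hw)
  let C : Cfsg.Sz F 1 → Cfsg.Sz F 1 → Γ := fun g h => ⁅lift g, lift h⁆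
  have hC : ∀ (g h : Γ), ⁅g, h⁆ = C (σ g) (σ h) := fun g h =>
    Cfsg.Lib.Schur.comm_congr σ hσ.2.1 (hlift _).symm (hlift _).symm
  have hcz : ∀ a b d, uu Q a b * uu Q 0 d = uu Q 0 d * uu Q a b := fun a b d => by
    rw [uu_mul, uu_mul]
    simp [add_comm]
  have hker : ∀ a d, σ (C (uu Q a 0) (uu Q 0 d)) = 1 := fun a d => by
    simp only [C, map_commutatorElement, hlift]
    exact commutatorElement_eq_one_iff_mul_comm.mpr (hcz a 0 d)
  let ν : Multiplicative F →* Γ := MonoidHom.mk' (fun c => C (uu Q 1 0) (uu Q 0 c.toAdd)) fun c d => by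
    have h := hC (lift (uu Q 1 0)) (lift (uu Q 0 c.toAdd) * lift (uu Q 0 d.toAdd))
    rw [map_mul, hlift, hlift, hlift, uu_mul] at h
    simp only [zero_add, add_zero, mul_zero] at h
    show C _ (uu Q 0 (c.toAdd + d.toAdd)) = C _ _ * C _ _
    rw [← h, show ⁅lift (uu Q 1 0), lift (uu Q 0 c.toAdd) * lift (uu Q 0 d.toAdd)⁆ =
      C (uu Q 1 0) (uu Q 0 c.toAdd) * (lift (uu Q 0 c.toAdd) * C (uu Q 1 0) (uu Q 0 d.toAdd) *
        (lift (uu Q 0 c.toAdd))⁻¹) by simp only [C, commutatorElement_def]; group,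
      hcen _ (hker 1 d.toAdd), mul_inv_cancel_right]
  have hνapply : ∀ c : F, ν (Multiplicative.ofAdd c) = C (uu Q 1 0) (uu Q 0 c) := fun _ => rfl
  clear_value ν
  have hν : ν.range ≤ σ.ker := by
    rintro _ ⟨c, rfl⟩
    rw [MonoidHom.mem_ker, ← ofAdd_toAdd c, hνapply]
    exact hker 1 c.toAdd
  have hone : ν (Multiplicative.ofAdd (1 : F)) = 1 := by
    have h := hC (lift (uu Q 1 0)) (lift (uu Q 1 0) * lift (uu Q 1 0))
    have hsq : uu Q 1 0 * uu Q 1 0 = uu Q (0 : F) 1 := by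
      rw [uu_mul]
      congr 1
      · exact add_self Q 1
      · simp
    rw [map_mul, hlift, hsq] at h
    rw [hνapply]
    rw [← h]
    exact commutatorElement_eq_one_iff_mul_comm.mpr (by group)
  have hpair : ∀ a b, C (uu Q a 0) (uu Q 0 b) ∈ ν.range := by
    intro a b
    rcases eq_or_ne a 0 with rfl | ha
    · have h0 : C (uu Q 0 0) (uu Q 0 b) = 1 := by
        refine commutatorElement_eq_one_iff_mul_comm.mpr ?_
        exact (hcen _ (by rw [hlift, uu_zero]) _).symm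
      rw [h0]
      exact one_mem _
    · refine ⟨Multiplicative.ofAdd (b / a ^ 5), ?_⟩
      have h := hC (lift (hI Q (Units.mk0 a ha)) * lift (uu Q 1 0) * (lift (hI Q (Units.mk0 a ha)))⁻¹)
        (lift (hI Q (Units.mk0 a ha)) * lift (uu Q 0 (b / a ^ 5)) * (lift (hI Q (Units.mk0 a ha)))⁻¹)
      simp only [map_mul, map_inv, hlift, hI_conj_uu, Units.val_mk0, mul_one, mul_zero] at h
      rw [show a ^ (2 ^ (1 + 1) + 1) * (b / a ^ 5) = b by
        rw [show 2 ^ (1 + 1) + 1 = 5 from rfl, mul_div_cancel₀ _ (pow_ne_zero 5 ha)]] at h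
      rw [hνapply]
      rw [← h, show ⁅lift (hI Q (Units.mk0 a ha)) * lift (uu Q 1 0) * (lift (hI Q (Units.mk0 a ha)))⁻¹,
        lift (hI Q (Units.mk0 a ha)) * lift (uu Q 0 (b / a ^ 5)) * (lift (hI Q (Units.mk0 a ha)))⁻¹⁆ =
        lift (hI Q (Units.mk0 a ha)) * C (uu Q 1 0) (uu Q 0 (b / a ^ 5)) *
          (lift (hI Q (Units.mk0 a ha)))⁻¹ by simp only [C, commutatorElement_def]; group,
        hcen _ (hker 1 _), mul_inv_cancel_right]
  haveI : ν.range.Normal := Cfsg.Lib.Schur.normal_of_le_center (hν.trans hσ.2.1)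
  let τ : Γ ⧸ ν.range →* Cfsg.Sz F 1 := QuotientGroup.lift ν.range σ hν
  have hkτ : τ.ker = σ.ker.map (QuotientGroup.mk' ν.range) := QuotientGroup.ker_lift ν.range σ hν
  have hτ : Cfsg.IsStemExtension τ := by
    refine ⟨fun q => ?_, ?_, ?_⟩
    · obtain ⟨g, hg⟩ := hσ.1 q
      exact ⟨(g : Γ ⧸ ν.range), hg⟩
    · rw [hkτ]
      rintro _ ⟨z, hz, rfl⟩
      refine Subgroup.mem_center_iff.mpr fun g => ?_
      obtain ⟨g', rfl⟩ := QuotientGroup.mk'_surjective ν.range g
      rw [← map_mul, ← map_mul, Subgroup.mem_center_iff.mp (hσ.2.1 hz) g']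
    · rw [hkτ]
      refine (Subgroup.map_mono hσ.2.2).trans ?_
      rw [commutator_def, commutator_def, Subgroup.map_commutator]
      exact Subgroup.commutator_mono le_top le_top
  have hbot : τ.ker = ⊥ := by
    refine Cfsg.Lib.Suz.ker_eq_bot_of Q hτ fun X Y c b hX hY => ?_
    obtain ⟨X', rfl⟩ := QuotientGroup.mk'_surjective ν.range X
    obtain ⟨Y', rfl⟩ := QuotientGroup.mk'_surjective ν.range Y
    change σ X' = _ at hX
    change σ Y' = _ at hY
    refine commutatorElement_eq_one_iff_mul_comm.mp ?_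
    rw [← map_commutatorElement]
    refine (QuotientGroup.eq_one_iff _).mpr ?_
    rw [hC, hX, hY]
    exact hpair c b
  let π : Multiplicative (ZMod 2 × ZMod 2) →* σ.ker :=
    (ν.comp (AddMonoidHom.toMultiplicative R)).codRestrict σ.ker fun z => hν ⟨_, rfl⟩
  refine ⟨π, fun z => ?_⟩
  have hz : (z : Γ) ∈ ν.range := by
    have h : QuotientGroup.mk' ν.range (z : Γ) ∈ τ.ker := hkτ ▸ Subgroup.mem_map_of_mem _ z.2
    rw [hbot, Subgroup.mem_bot] at h
    exact (QuotientGroup.eq_one_iff _).mp h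
  obtain ⟨c, hc⟩ := hz
  refine ⟨Multiplicative.ofAdd (L c.toAdd), Subtype.ext ?_⟩
  show ν (Multiplicative.ofAdd (R (L c.toAdd))) = z
  rw [← hc]
  rcases hcases c.toAdd with e | e
  · rw [← e, ofAdd_toAdd]
  · conv_rhs => rw [← ofAdd_toAdd c, e, ofAdd_add, map_mul, hone, one_mul]

/-- The multiplier of the Suzuki group over the field with eight elements. -/
theorem multiplier_lie :
    Cfsg.HasSchurMultiplier ↥(Cfsg.Lie.Sz F 4) (Multiplicative (ZMod 2 × ZMod 2)) := by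
  let e : Cfsg.Sz F 1 ≃* ↥(Cfsg.Lie.Sz F 4) := lieEquiv Q
  refine ⟨?_, fun Γ _ _ σ hσ => ?_⟩
  · obtain ⟨Γ, hG, hF, σ, hσ, ⟨f⟩⟩ := exists_cover Q
    have hk : (e.toMonoidHom.comp σ).ker = σ.ker := by
      ext x
      simp [MonoidHom.mem_ker]
    exact ⟨Γ, hG, hF, e.toMonoidHom.comp σ,
      ⟨e.surjective.comp hσ.1, hk ▸ hσ.2.1, hk ▸ hσ.2.2⟩, ⟨(MulEquiv.subgroupCongr hk).trans f⟩⟩
  · let τ : Γ →* Cfsg.Sz F 1 := e.symm.toMonoidHom.comp σ
    have hk : τ.ker = σ.ker := by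
      ext x
      simp [τ, MonoidHom.mem_ker]
    obtain ⟨π, hπ⟩ := kernel_image Q (σ := τ)
      ⟨e.symm.surjective.comp hσ.1, hk.symm ▸ hσ.2.1, hk.symm ▸ hσ.2.2⟩
    exact ⟨(MulEquiv.subgroupCongr hk).toMonoidHom.comp π,
      (MulEquiv.subgroupCongr hk).surjective.comp hπ⟩

end Cfsg.Lib.Suz.Eight
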