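import Cfsg.Agent.Suz.Group

/-! The Suzuki groups are simple and act on their points as Zassenhaus groups. -/

set_option autoImplicit false

open scoped commutatorElement

namespace Cfsg.Lib.Suz

variable {F : Type*} [Field F] [Fintype F] {m : ℕ} (Q : Par F m)
include Q

omit Q in
theorem finite_Sz : Finite (Cfsg.Sz F m) := inferInstance

theorem H_conj_T (k : Fˣ) (a b : F) :
    H m k * T m a b * (H m k)⁻¹ = T m ((k : F) * a) ((k : F) ^ (2 ^ (m + 1) + 1) * b) := by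
  rw [mul_inv_eq_iff_eq_mul]
  refine Subtype.ext ?_
  show (H m k).1 * Tmat m a b = Tmat m ((k : F) * a) ((k : F) ^ (2 ^ (m + 1) + 1) * b) * (H m k).1
  have hk := k.ne_zero
  have hf := fn_smul Q (k : F) a b
  have hs : 2 ^ (m + 1) = hh m + hh m := by rw [hh, pow_succ]; ring
  simp only [H, Tmat, hf, Units.val_pow_eq_pow_val, Units.val_inv_eq_inv_val, mul_pow]
  rw [hs]
  generalize hh m = n
  ext i j
  fin_cases i <;> fin_cases j <;> simp [Matrix.diagonal_mul, Matrix.mul_diagonal]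
  all_goals
    field_simp
    ring

theorem units_s1 {k : Fˣ} (h : (k : F) ^ (2 ^ (m + 1) + 1) = 1) : k = 1 := by
  have h1 : ((k : F) ^ (2 ^ (m + 1) + 1)) ^ (2 ^ (m + 1)) = (k : F) ^ (2 ^ (m + 1) + 2) := by
    rw [← pow_mul, add_mul, one_mul, pow_add, pow_mul, pow_ss Q, ← pow_add, add_comm]
  rw [h, one_pow, show 2 ^ (m + 1) + 2 = (2 ^ (m + 1) + 1) + 1 by ring, pow_succ, h, one_mul] at h1
  exact Units.ext h1.symm

theorem fix_three {g : SL4 F} (hg : g ∈ Cfsg.Sz F m) {p r t : Projectivization F (Fin 4 → F)}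
    (hp : p ∈ Cfsg.suzukiOvoid F m) (hr : r ∈ Cfsg.suzukiOvoid F m) (ht : t ∈ Cfsg.suzukiOvoid F m)
    (h1 : p ≠ r) (h2 : r ≠ t) (h3 : p ≠ t) (g1 : g • p = p) (g2 : g • r = r) (g3 : g • t = t) : g = 1 := by
  obtain ⟨c, hc, rfl, e0⟩ : ∃ c ∈ Cfsg.Sz F m, p = c⁻¹ • Cfsg.suzukiPointInfinity F ∧ c • r = pt m 0 0 := by
    obtain ⟨c, hc, e1, e2⟩ := to_inf_zero Q hp hr h1
    exact ⟨c, hc, by rw [← e1, inv_smul_smul], e2⟩
  set g' := c * g * c⁻¹ with hg'
  have f1 : g' • Cfsg.suzukiPointInfinity F = Cfsg.suzukiPointInfinity F := by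
    rw [hg', mul_smul, mul_smul, g1, smul_inv_smul]
  have f2 : g' • pt m (0 : F) 0 = pt m 0 0 := by
    rw [hg', mul_smul, mul_smul, ← e0, inv_smul_smul, g2]
  obtain ⟨k, hk⟩ := stab_pair Q (mul_mem (mul_mem hc hg) (inv_mem hc)) f1 f2
  rcases mem_ovoid_iff.1 (smul_ovoid Q hc ht) with h | ⟨x, y, h⟩
  · exact absurd (inv_smul_eq_iff.2 h.symm) h3
  · have hne : ¬(x = 0 ∧ y = 0) := fun ⟨hx, hy⟩ => h2 (MulAction.injective c (by show c • r = c • t; rw [e0, h, hx, hy]))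
    have f3 : g' • pt m x y = pt m x y := by rw [hg', mul_smul, mul_smul, ← h, inv_smul_smul, g3]
    rw [show g' = H m k from hk, H_pt Q] at f3
    obtain ⟨e1, e2⟩ := pt_inj f3
    have hk1 : k = 1 := by
      rcases eq_or_ne x 0 with hx | hx
      · exact units_s1 Q ((mul_eq_right₀ (fun hy => hne ⟨hx, hy⟩)).1 e2)
      · exact Units.ext ((mul_eq_right₀ hx).1 e1)
    have h4 : g' = 1 := by
      refine hk.trans ?_
      rw [hk1]
      have := H_mul Q (m := m) (1 : Fˣ) 1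
      rw [mul_one] at this
      exact mul_eq_left.1 this.symm
    rw [hg', mul_inv_eq_one, mul_eq_left] at h4
    exact h4

theorem exists_unit_ne_one : ∃ k : Fˣ, k ≠ 1 := by
  have : 1 < Nat.card Fˣ := by
    rw [Nat.card_units, Nat.card_eq_fintype_card]
    have := (exp_lt Q).1
    have := (exp_lt Q).2
    omega
  have : Nontrivial Fˣ := Finite.one_lt_card_iff_nontrivial.1 this
  exact exists_ne 1

theorem perfect : commutator (Cfsg.Sz F m) = ⊤ := by
  set D := commutator (Cfsg.Sz F m) with hD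
  have hcomm : ∀ a b : Cfsg.Sz F m, a * b * a⁻¹ * b⁻¹ ∈ D := fun a b =>
    Subgroup.commutator_mem_commutator (Subgroup.mem_top a) (Subgroup.mem_top b)
  have hN : D.Normal := by rw [hD, commutator_def]; infer_instance
  have hT : ∀ a b, (⟨T m a b, T_mem Q a b⟩ : Cfsg.Sz F m) ∈ D := by
    obtain ⟨k, hk⟩ := exists_unit_ne_one Q
    have hk1 : (k : F) + 1 ≠ 0 := fun h => hk (Units.ext ((eq_neg_of_add_eq_zero_left h).trans (neg_eq Q 1)))
    have hk2 : (k : F) ^ (2 ^ (m + 1) + 1) + 1 ≠ 0 := fun h =>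
      hk (units_s1 Q ((eq_neg_of_add_eq_zero_left h).trans (neg_eq Q 1)))
    intro a b
    set c := a / ((k : F) + 1) with hc
    set d := (b + c ^ (2 ^ (m + 1) + 1) + ((k : F) * c) ^ (2 ^ (m + 1)) * c) / ((k : F) ^ (2 ^ (m + 1) + 1) + 1) with hd
    have h := hcomm ⟨H m k, H_mem Q k⟩ ⟨T m c d, T_mem Q c d⟩
    convert h using 1
    refine Subtype.ext ?_
    show T m a b = H m k * T m c d * (H m k)⁻¹ * (T m c d)⁻¹
    rw [H_conj_T Q, T_inv Q, T_mul Q]
    congr 1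
    · rw [hc]; field_simp
    · have e : d * ((k : F) ^ (2 ^ (m + 1) + 1) + 1) =
          b + c ^ (2 ^ (m + 1) + 1) + ((k : F) * c) ^ (2 ^ (m + 1)) * c := by rw [hd, div_mul_cancel₀ _ hk2]
      have := charP Q
      have h2 : (2 : F) = 0 := CharP.cast_eq_zero F 2
      linear_combination -e - (c ^ (2 ^ (m + 1) + 1) + ((k : F) * c) ^ (2 ^ (m + 1)) * c) * h2
  have hH : ∀ k, (⟨H m k, H_mem Q k⟩ : Cfsg.Sz F m) ∈ D := by
    intro k
    obtain ⟨l, rfl⟩ : ∃ l : Fˣ, k = l ^ 2 := by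
      refine ⟨k ^ (2 ^ (2 * m)), Units.ext ?_⟩
      push_cast
      rw [← pow_mul, ← pow_succ, pow_q Q]
    have h := hcomm ⟨H m l, H_mem Q l⟩ ⟨W F, W_mem Q⟩
    convert h using 1
    refine Subtype.ext ?_
    show H m (l ^ 2) = H m l * W F * (H m l)⁻¹ * (W F)⁻¹
    have hW : H m l * W F * H m l = W F := by
      refine Subtype.ext ?_
      show (H m l).1 * (W F).1 * (H m l).1 = (W F).1
      have := l.ne_zero
      simp only [H, W, Units.val_pow_eq_pow_val, Units.val_inv_eq_inv_val]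
      ext i j
      fin_cases i <;> fin_cases j <;> simp [Matrix.diagonal_mul, Matrix.mul_diagonal, this]
    rw [pow_two, H_mul Q, eq_mul_inv_iff_mul_eq, eq_mul_inv_iff_mul_eq]
    simp only [mul_assoc] at hW ⊢
    rw [hW]
  have hW : (⟨W F, W_mem Q⟩ : Cfsg.Sz F m) ∈ D := by
    classical
    have : Fintype (Cfsg.suzukiOvoid F m) := Fintype.ofFinite _
    let σ : Equiv.Perm (Cfsg.suzukiOvoid F m) :=
      { toFun := fun p => ⟨W F • p.1, smul_ovoid Q (W_mem Q) p.2⟩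
        invFun := fun p => ⟨W F • p.1, smul_ovoid Q (W_mem Q) p.2⟩
        left_inv := fun p => Subtype.ext (by show W F • W F • p.1 = p.1; rw [← mul_smul, W_sq Q, one_smul])
        right_inv := fun p => Subtype.ext (by show W F • W F • p.1 = p.1; rw [← mul_smul, W_sq Q, one_smul]) }
    have : Fact (Nat.Prime 2) := ⟨Nat.prime_two⟩
    have hs : σ ^ 2 ^ 1 = 1 := Equiv.ext fun p => Subtype.ext (by
      show W F • W F • p.1 = p.1
      rw [← mul_smul, W_sq Q, one_smul])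
    have hodd : ¬ 2 ∣ Fintype.card (Cfsg.suzukiOvoid F m) := by
      rw [← Nat.card_eq_fintype_card, card_ovoid, Q.hF, ← pow_mul, show (2 * m + 1) * 2 = (4 * m + 1) + 1 by ring,
        pow_succ]
      omega
    obtain ⟨p, hp⟩ := Equiv.Perm.exists_fixed_point_of_prime hodd hs
    obtain ⟨c, hc, hcp⟩ := transitive Q p.2 (inf_mem m)
    have hWp : W F • p.1 = p.1 := congrArg Subtype.val hp
    obtain ⟨a, b, k, e⟩ := stab_inf Q (g := c * W F * c⁻¹) (mul_mem (mul_mem hc (W_mem Q)) (inv_mem hc)) (by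
      rw [← hcp, mul_smul, mul_smul, inv_smul_smul, hWp])
    have h := hN.conj_mem _ (D.mul_mem (hT a b) (hH k)) ⟨c, hc⟩⁻¹
    convert h using 1
    refine Subtype.ext ?_
    show W F = c⁻¹ * (T m a b * H m k) * c⁻¹⁻¹
    rw [← e]; group
  rw [eq_top_iff]
  rintro ⟨g, hg⟩ -
  rcases elt_cases Q hg with ⟨a, b, k, rfl⟩ | ⟨a, b, c, d, k, rfl⟩
  · exact D.mul_mem (hT a b) (hH k)
  · exact D.mul_mem (D.mul_mem (hT a b) hW) (D.mul_mem (hT c d) (hH k))

theorem H_one : H m (1 : Fˣ) = 1 := by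
  have := H_mul Q (m := m) (1 : Fˣ) 1
  rw [mul_one] at this
  exact mul_eq_left.1 this.symm

theorem isSolvable_stab :
    Group.IsSolvable (MulAction.stabilizer (Cfsg.Sz F m) (Cfsg.suzukiPointInfinity F)) := by
  set P := MulAction.stabilizer (Cfsg.Sz F m) (Cfsg.suzukiPointInfinity F)
  have hp : ∀ g : P, ∃ p : (F × F) × Fˣ, g.1.1 = T m p.1.1 p.1.2 * H m p.2 := fun g => by
    obtain ⟨a, b, k, h⟩ := stab_inf Q g.1.2 g.2
    exact ⟨((a, b), k), h⟩
  choose p hp using hp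
  have uniq : ∀ {g : P} {a b k}, g.1.1 = T m a b * H m k → (p g).2 = k := fun {g a b k} h => by
    rw [hp g] at h
    have h0 := congrArg (fun g : SL4 F => g • pt m (0 : F) 0) h
    simp only [mul_smul, H_pt Q, T_pt Q, mul_zero, zero_add, add_zero] at h0
    obtain ⟨e1, e2⟩ := pt_inj h0
    rw [e1, e2] at h
    exact H_injective Q (mul_left_cancel h)
  let χ : P →* Fˣ := MonoidHom.mk' (fun g => (p g).2) fun g g' => by
    refine uniq (a := (p g).1.1 + (p g).2 * (p g').1.1)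
      (b := (p g).1.2 + ((p g).2 : F) ^ (2 ^ (m + 1) + 1) * (p g').1.2 + (p g).1.1 ^ (2 ^ (m + 1)) * ((p g).2 * (p g').1.1))
      ?_
    show g.1.1 * g'.1.1 = _
    rw [hp g, hp g', ← T_mul Q, ← H_conj_T Q, H_mul Q]
    group
  have hker : IsPGroup 2 χ.ker := by
    intro g
    refine ⟨2, Subtype.ext (Subtype.ext (Subtype.ext ?_))⟩
    have hk : (p g.1).2 = 1 := g.2
    show g.1.1.1 ^ 2 ^ 2 = 1
    rw [hp g.1, hk, H_one Q, mul_one, show 2 ^ 2 = 2 + 2 by norm_num, pow_add, pow_two, T_mul Q, T_mul Q,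
      add_self Q (p g.1).1.1, add_self Q (p g.1).1.2, add_self Q (0 : F)]
    simp [add_self Q, zero_pow (pow_ne_zero (m + 1) two_ne_zero), T_zero Q]
  have : Fact (Nat.Prime 2) := ⟨Nat.prime_two⟩
  have := hker.isNilpotent
  exact Group.isSolvable_of_ker_le_range χ.ker.subtype χ (by simp)

theorem fixes_all {g : SL4 F} (hg : g ∈ Cfsg.Sz F m) (h : ∀ p ∈ Cfsg.suzukiOvoid F m, g • p = p) : g = 1 :=
  fix_three Q hg (inf_mem m) (pt_mem m 0 0) (pt_mem m 1 0) (pt_ne_inf _ _ _).symm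
    (fun e => zero_ne_one (pt_inj e).1) (pt_ne_inf _ _ _).symm (h _ (inf_mem m)) (h _ (pt_mem m 0 0))
    (h _ (pt_mem m 1 0))

theorem simple : IsSimpleGroup (Cfsg.Sz F m) := by
  have hnt : Nontrivial (Cfsg.Sz F m) := ⟨⟨⟨W F, W_mem Q⟩, 1, fun h => by
    have := congrArg (fun g : Cfsg.Sz F m => g.1 • Cfsg.suzukiPointInfinity F) h
    simp only [W_inf m, OneMemClass.coe_one, one_smul] at this
    exact pt_ne_inf m 0 0 this⟩⟩
  refine ⟨fun N hN => or_iff_not_imp_left.2 fun hne => ?_⟩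
  obtain ⟨n, hn, hn1⟩ := N.bot_or_exists_ne_one.resolve_left hne
  set P := MulAction.stabilizer (Cfsg.Sz F m) (Cfsg.suzukiPointInfinity F) with hPdef
  -- the normal subgroup moves the distinguished point everywhere
  have move : ∀ r ∈ Cfsg.suzukiOvoid F m, ∃ x ∈ N, x.1 • Cfsg.suzukiPointInfinity F = r := by
    obtain ⟨p, hp, hpn⟩ : ∃ p ∈ Cfsg.suzukiOvoid F m, n.1 • p ≠ p := by
      by_contra hcon
      exact hn1 (Subtype.ext (fixes_all Q n.2 fun p hp => Classical.byContradiction fun h => hcon ⟨p, hp, h⟩))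
    intro r hr
    by_cases hri : r = Cfsg.suzukiPointInfinity F
    · exact ⟨1, N.one_mem, by rw [hri]; exact one_smul _ _⟩
    obtain ⟨c, hc, c1, c2⟩ := to_inf_zero Q hp (smul_ovoid Q n.2 hp) (Ne.symm hpn)
    obtain ⟨d, hd, d1, d2⟩ := to_inf_zero Q (inf_mem m) hr (Ne.symm hri)
    let e : Cfsg.Sz F m := ⟨d⁻¹ * c, (Cfsg.Sz F m).mul_mem ((Cfsg.Sz F m).inv_mem hd) hc⟩
    refine ⟨e * n * e⁻¹, hN.conj_mem n hn e, ?_⟩
    show (d⁻¹ * c * n.1 * (d⁻¹ * c)⁻¹) • Cfsg.suzukiPointInfinity F = r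
    rw [mul_inv_rev, inv_inv]
    simp only [mul_smul]
    rw [d1, inv_smul_eq_iff, d2, show c⁻¹ • Cfsg.suzukiPointInfinity F = p by rw [inv_smul_eq_iff, c1], c2]
  have hgen : ∀ g : Cfsg.Sz F m, ∃ x ∈ N, x⁻¹ * g ∈ P := fun g => by
    obtain ⟨x, hx, e⟩ := move _ (smul_ovoid Q g.2 (inf_mem m))
    refine ⟨x, hx, ?_⟩
    show (x.1⁻¹ * g.1) • Cfsg.suzukiPointInfinity F = Cfsg.suzukiPointInfinity F
    rw [mul_smul, ← e, inv_smul_smul]
  have hsurj : Function.Surjective ((QuotientGroup.mk' N).comp P.subtype) := fun q => by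
    obtain ⟨g, rfl⟩ := QuotientGroup.mk'_surjective N q
    obtain ⟨x, hx, hxg⟩ := hgen g
    refine ⟨⟨x⁻¹ * g, hxg⟩, ?_⟩
    show QuotientGroup.mk' N (x⁻¹ * g) = QuotientGroup.mk' N g
    rw [map_mul, map_inv, (QuotientGroup.eq_one_iff x).2 hx |> fun e => show QuotientGroup.mk' N x = 1 from e,
      inv_one, one_mul]
  have := isSolvable_stab Q
  have hsol : Group.IsSolvable (Cfsg.Sz F m ⧸ N) := Group.isSolvable_of_surjective hsurj
  have hperf : commutator (Cfsg.Sz F m ⧸ N) = ⊤ := by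
    rw [eq_top_iff, ← Subgroup.map_top_of_surjective (QuotientGroup.mk' N) (QuotientGroup.mk'_surjective N),
      ← perfect Q, commutator_def, Subgroup.map_commutator]
    exact Subgroup.commutator_mono le_top le_top
  rw [eq_top_iff]
  intro g _
  by_contra hg
  obtain ⟨k, hk⟩ := hsol.solvable
  have htop : ∀ j, derivedSeries (Cfsg.Sz F m ⧸ N) j = ⊤ := fun j => by
    induction j with
    | zero => rfl
    | succ j ih => rw [derivedSeries_succ, ih]; exact hperf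
  have h1 : (g : Cfsg.Sz F m ⧸ N) ∈ (⊥ : Subgroup _) := hk ▸ htop k ▸ Subgroup.mem_top _
  exact hg ((QuotientGroup.eq_one_iff g).1 (Subgroup.mem_bot.1 h1))

end Cfsg.Lib.Suz
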