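import Mathlib
import Cfsg.Prelude.Def_LieExceptional

/-! The Suzuki–Tits point set and the standard elements of its stabiliser. -/

set_option autoImplicit false

open Matrix

namespace Cfsg.Lib.Suz

/-- The parameters of a Suzuki group. -/
structure Par (F : Type*) [Field F] [Fintype F] (m : ℕ) : Prop where
  hm : 1 ≤ m
  hF : Fintype.card F = 2 ^ (2 * m + 1)

variable {F : Type*} [Field F]

/-- The first coordinate of the point with parameters. -/
def fn (m : ℕ) (x y : F) : F := x * y + x ^ (2 ^ (m + 1) + 2) + y ^ (2 ^ (m + 1))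

/-- The vector of a point. -/
def vec (m : ℕ) (x y : F) : Fin 4 → F := ![fn m x y, y, x, 1]

theorem vec_ne (m : ℕ) (x y : F) : vec m x y ≠ 0 := fun h => by
  have := congrFun h 3
  simp [vec] at this

/-- The point with parameters. -/
def pt (m : ℕ) (x y : F) : Projectivization F (Fin 4 → F) := Projectivization.mk F _ (vec_ne m x y)

theorem mem_ovoid_iff {m : ℕ} {p : Projectivization F (Fin 4 → F)} :
    p ∈ Cfsg.suzukiOvoid F m ↔ p = Cfsg.suzukiPointInfinity F ∨ ∃ x y, p = pt m x y := by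
  constructor
  · rintro ⟨v, hv, rfl, rfl | ⟨x, y, rfl⟩⟩
    · exact Or.inl rfl
    · exact Or.inr ⟨x, y, rfl⟩
  · rintro (rfl | ⟨x, y, rfl⟩)
    · exact ⟨_, _, rfl, Or.inl rfl⟩
    · exact ⟨_, _, rfl, Or.inr ⟨x, y, rfl⟩⟩

theorem pt_mem (m : ℕ) (x y : F) : pt m x y ∈ Cfsg.suzukiOvoid F m := mem_ovoid_iff.2 (Or.inr ⟨x, y, rfl⟩)

theorem inf_mem (m : ℕ) : Cfsg.suzukiPointInfinity F ∈ Cfsg.suzukiOvoid F m := mem_ovoid_iff.2 (Or.inl rfl)

theorem zero_eq (m : ℕ) : Cfsg.suzukiPointZero F = pt m 0 0 := by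
  unfold Cfsg.suzukiPointZero pt
  congr 1
  simp [vec, fn]

theorem pt_ne_inf (m : ℕ) (x y : F) : pt m x y ≠ Cfsg.suzukiPointInfinity F := fun h => by
  obtain ⟨a, ha⟩ := (Projectivization.mk_eq_mk_iff' F _ _ _ _).1 h
  have := congrFun ha 3
  simp [vec] at this

theorem pt_inj {m : ℕ} {x y x' y' : F} (h : pt m x y = pt m x' y') : x = x' ∧ y = y' := by
  obtain ⟨a, ha⟩ := (Projectivization.mk_eq_mk_iff' F _ _ _ _).1 h
  have h3 := congrFun ha 3
  have h2 := congrFun ha 2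
  have h1 := congrFun ha 1
  simp [vec] at h1 h2 h3
  subst h3
  simp at h1 h2
  exact ⟨h2.symm, h1.symm⟩

theorem card_ovoid [Fintype F] (m : ℕ) : Nat.card (Cfsg.suzukiOvoid F m) = Fintype.card F ^ 2 + 1 := by
  let f : Option (F × F) → Cfsg.suzukiOvoid F m := fun o =>
    match o with
    | none => ⟨_, inf_mem m⟩
    | some p => ⟨_, pt_mem m p.1 p.2⟩
  have hf : Function.Bijective f := by
    refine ⟨fun a b h => ?_, fun p => ?_⟩
    · have h' := congrArg Subtype.val h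
      rcases a with _ | a <;> rcases b with _ | b
      · rfl
      · exact absurd h'.symm (pt_ne_inf _ _ _)
      · exact absurd h' (pt_ne_inf _ _ _)
      · obtain ⟨e1, e2⟩ := pt_inj h'
        exact congrArg some (Prod.ext e1 e2)
    · rcases mem_ovoid_iff.1 p.2 with h | ⟨x, y, h⟩
      · exact ⟨none, Subtype.ext h.symm⟩
      · exact ⟨some (x, y), Subtype.ext h.symm⟩
  rw [← Nat.card_eq_of_bijective f hf]
  simp [Nat.card_eq_fintype_card, pow_two]

/-- The group. -/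
abbrev SL4 (F : Type*) [Field F] := Matrix.SpecialLinearGroup (Fin 4) F

theorem smul_eq (g : SL4 F) (v : Fin 4 → F) : g • v = (g : Matrix (Fin 4) (Fin 4) F) *ᵥ v := rfl

/-- Sufficient condition for an image of a point. -/
theorem smul_mk_eq (g : SL4 F) {v w : Fin 4 → F} (hv : v ≠ 0) (hw : w ≠ 0) (c : F)
    (h : (g : Matrix (Fin 4) (Fin 4) F) *ᵥ v = c • w) :
    g • Projectivization.mk F v hv = Projectivization.mk F w hw := by
  rw [Projectivization.smul_mk, Projectivization.mk_eq_mk_iff']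
  exact ⟨c, by rw [smul_eq, h]⟩

theorem smul_inf_of {g : SL4 F} (c : F) (h : (g : Matrix (Fin 4) (Fin 4) F) *ᵥ ![1, 0, 0, 0] = c • ![1, 0, 0, 0]) :
    g • Cfsg.suzukiPointInfinity F = Cfsg.suzukiPointInfinity F := smul_mk_eq g _ _ c h

/-- The antidiagonal element. -/
def W (F : Type*) [Field F] : SL4 F :=
  ⟨!![0, 0, 0, 1; 0, 0, 1, 0; 0, 1, 0, 0; 1, 0, 0, 0], by
    simp [Matrix.det_succ_row_zero, Fin.sum_univ_succ, Fin.succAbove]
    norm_num⟩

section Finite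

variable [Fintype F] {m : ℕ} (Q : Par F m)
include Q

theorem charP : CharP F 2 := by
  obtain ⟨p, hp⟩ := CharP.exists F
  obtain ⟨n, hp', hn⟩ := FiniteField.card F p
  have : p = 2 := by
    have h : p ∣ 2 ^ (2 * m + 1) := by rw [← Q.hF, hn]; exact dvd_pow_self p n.pos.ne'
    exact (Nat.prime_dvd_prime_iff_eq hp' Nat.prime_two).1 (hp'.dvd_of_dvd_pow h)
  exact this ▸ hp

theorem neg_eq (x : F) : -x = x := by
  have := charP Q
  exact CharTwo.neg_eq x

theorem add_self (x : F) : x + x = 0 := by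
  have := charP Q
  exact CharTwo.add_self_eq_zero x

theorem pow_q (x : F) : x ^ (2 ^ (2 * m + 1)) = x := by rw [← Q.hF, FiniteField.pow_card]

theorem pow_ss (x : F) : (x ^ (2 ^ (m + 1))) ^ (2 ^ (m + 1)) = x ^ 2 := by
  rw [← pow_mul, ← pow_add, show m + 1 + (m + 1) = (2 * m + 1) + 1 by ring, pow_succ, pow_mul, pow_q Q]

theorem add_pow_s (x y : F) : (x + y) ^ (2 ^ (m + 1)) = x ^ (2 ^ (m + 1)) + y ^ (2 ^ (m + 1)) := by
  have := charP Q
  have : Fact (Nat.Prime 2) := ⟨Nat.prime_two⟩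
  exact add_pow_char_pow x y 2 (m + 1)

theorem add_sq' (x y : F) : (x + y) ^ 2 = x ^ 2 + y ^ 2 := by
  have := charP Q
  exact CharTwo.add_sq x y

/-- No element satisfies `z^σ = z + 1`. -/
theorem no_fix (z : F) : z ^ (2 ^ (m + 1)) ≠ z + 1 := fun h => by
  have h2 := pow_ss Q z
  rw [h, add_pow_s Q, h, one_pow, add_assoc, add_self Q, add_zero] at h2
  rcases eq_or_ne z 0 with rfl | hz
  · rw [zero_pow (pow_ne_zero _ two_ne_zero), zero_add] at h
    exact zero_ne_one h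
  · have : z = 1 := by
      rw [pow_two] at h2
      exact (mul_eq_left₀ hz).1 h2.symm
    rw [this, one_pow, add_self Q] at h
    exact one_ne_zero h

theorem fn_eq_zero {x y : F} (h : fn m x y = 0) : x = 0 ∧ y = 0 := by
  have hs : 2 ^ (m + 1) ≠ 0 := pow_ne_zero _ two_ne_zero
  rcases eq_or_ne x 0 with rfl | hx
  · refine ⟨rfl, ?_⟩
    simpa [fn, zero_pow (Nat.succ_ne_zero (2 ^ (m + 1) + 1))] using h
  · exfalso
    obtain ⟨z, rfl⟩ : ∃ z, y = z * x ^ (2 ^ (m + 1) + 1) := ⟨y / x ^ (2 ^ (m + 1) + 1),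
      (div_mul_cancel₀ _ (pow_ne_zero _ hx)).symm⟩
    refine no_fix Q z ?_
    have e : x * (z * x ^ (2 ^ (m + 1) + 1)) + x ^ (2 ^ (m + 1) + 2) + (z * x ^ (2 ^ (m + 1) + 1)) ^ (2 ^ (m + 1)) =
        x ^ (2 ^ (m + 1) + 2) * (z + 1 + z ^ (2 ^ (m + 1))) := by
      rw [mul_pow, ← pow_mul, add_mul, pow_add x (_ * _), one_mul, pow_mul, pow_ss Q]
      ring
    rw [fn, e] at h
    have h' := (mul_eq_zero.1 h).resolve_left (pow_ne_zero _ hx)
    rw [eq_neg_of_add_eq_zero_left h', neg_eq Q]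

theorem fn_add (a b x y : F) :
    fn m (x + a) (y + a ^ (2 ^ (m + 1)) * x + b) =
      fn m x y + a * y + (b + a ^ (2 ^ (m + 1) + 1)) * x + fn m a b := by
  have := charP Q
  have hss : (a ^ (2 ^ (m + 1))) ^ (2 ^ (m + 1)) = a ^ 2 := pow_ss Q a
  rw [fn, fn, fn, pow_add (x + a) (2 ^ (m + 1)) 2, add_pow_s Q, add_pow_s Q, add_pow_s Q, add_sq' Q, mul_pow, hss,
    pow_add x (2 ^ (m + 1)) 2, pow_add a (2 ^ (m + 1)) 2, pow_succ a (2 ^ (m + 1))]
  have h2 : (2 : F) = 0 := CharP.cast_eq_zero F 2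
  linear_combination (a ^ (2 ^ (m + 1)) * x ^ 2 + x ^ (2 ^ (m + 1)) * a ^ 2) * h2

theorem fn_smul (k x y : F) :
    fn m (k * x) (k ^ (2 ^ (m + 1) + 1) * y) = k ^ (2 ^ (m + 1) + 2) * fn m x y := by
  have e : (k ^ (2 ^ (m + 1) + 1)) ^ (2 ^ (m + 1)) = k ^ (2 ^ (m + 1) + 2) := by
    rw [← pow_mul, add_mul, one_mul, pow_add, pow_mul, pow_ss Q, ← pow_add, add_comm]
  simp only [fn, mul_pow, e]
  ring

theorem fn_inv {x y : F} (h : fn m x y ≠ 0) : fn m (y / fn m x y) (x / fn m x y) = 1 / fn m x y := by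
  have := charP Q
  have h2 : (2 : F) = 0 := CharP.cast_eq_zero F 2
  set s := 2 ^ (m + 1) with hs
  have hfs : fn m x y ^ s = x ^ s * y ^ s + (x ^ s) ^ 2 * x ^ 2 + y ^ 2 := by
    have e : (x ^ (s + 2)) ^ s = x ^ 2 * (x ^ s) ^ 2 := by
      rw [pow_add, mul_pow, pow_ss Q, ← pow_mul x 2, mul_comm 2, pow_mul]
    rw [fn, ← hs, add_pow_s Q, add_pow_s Q, mul_pow, ← hs, e, pow_ss Q]
    ring
  have hf2 : fn m x y ^ 2 = x ^ 2 * y ^ 2 + (x ^ s) ^ 2 * x ^ 4 + (y ^ s) ^ 2 := by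
    rw [fn, ← hs, add_sq' Q, add_sq' Q, mul_pow, pow_add, mul_pow]
    ring
  have key : x * y * fn m x y ^ s + y ^ (s + 2) + x ^ s * fn m x y ^ 2 = fn m x y * fn m x y ^ s := by
    rw [hf2, hfs, fn, ← hs, pow_add, pow_add]
    linear_combination (-(x ^ 2 * x ^ s * x ^ s * y ^ s)) * h2
  have hfs0 : fn m x y ^ s ≠ 0 := pow_ne_zero _ h
  conv_lhs => rw [fn, ← hs, div_pow, div_pow]
  rw [pow_add (fn m x y)]
  field_simp
  linear_combination key

/-- The unipotent matrices. -/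
def Tmat (m : ℕ) (a b : F) : Matrix (Fin 4) (Fin 4) F :=
  !![1, a, b + a ^ (2 ^ (m + 1) + 1), fn m a b; 0, 1, a ^ (2 ^ (m + 1)), b; 0, 0, 1, a; 0, 0, 0, 1]

omit [Fintype F] Q in
theorem det_Tmat (m : ℕ) (a b : F) : (Tmat m a b).det = 1 := by
  simp [Tmat, Matrix.det_succ_row_zero, Fin.sum_univ_succ, Fin.succAbove]

omit Q in
/-- The unipotent elements. -/
def T (m : ℕ) (a b : F) : SL4 F := ⟨Tmat m a b, det_Tmat m a b⟩

/-- The half exponent. -/
def hh (m : ℕ) : ℕ := 2 ^ m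

omit Q in
/-- The diagonal elements. -/
def H (m : ℕ) (k : Fˣ) : SL4 F :=
  ⟨Matrix.diagonal ![((k ^ (hh m + 1) : Fˣ) : F), ((k ^ hh m : Fˣ) : F), (((k ^ hh m)⁻¹ : Fˣ) : F),
      (((k ^ (hh m + 1))⁻¹ : Fˣ) : F)], by
    simp only [Matrix.det_diagonal, Fin.prod_univ_four, Matrix.cons_val, ← Units.val_mul]
    simp⟩

omit [Fintype F] Q in
theorem T_inf (m : ℕ) (a b : F) : T m a b • Cfsg.suzukiPointInfinity F = Cfsg.suzukiPointInfinity F :=
  smul_inf_of 1 (by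
    funext i
    fin_cases i <;> simp [T, Tmat, Matrix.mulVec, dotProduct, Fin.sum_univ_four])

theorem T_pt (a b x y : F) : T m a b • pt m x y = pt m (x + a) (y + a ^ (2 ^ (m + 1)) * x + b) := by
  refine smul_mk_eq _ _ _ 1 ?_
  funext i
  fin_cases i
  · simp [T, Tmat, Matrix.mulVec, dotProduct, Fin.sum_univ_four, vec, fn_add Q]
  all_goals simp [T, Tmat, Matrix.mulVec, dotProduct, Fin.sum_univ_four, vec]

omit [Fintype F] Q in
theorem H_inf (m : ℕ) (k : Fˣ) : H m k • Cfsg.suzukiPointInfinity F = Cfsg.suzukiPointInfinity F :=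
  smul_inf_of ((k ^ (hh m + 1) : Fˣ) : F) (by
    funext i
    fin_cases i <;> simp [H, Matrix.mulVec_diagonal])

theorem H_pt (k : Fˣ) (x y : F) :
    H m k • pt m x y = pt m ((k : F) * x) ((k : F) ^ (2 ^ (m + 1) + 1) * y) := by
  refine smul_mk_eq _ _ _ (((k ^ (hh m + 1))⁻¹ : Fˣ) : F) ?_
  have hs : 2 ^ (m + 1) = 2 * hh m := by rw [hh, pow_succ]; ring
  funext i
  fin_cases i
  · simp only [H, vec, fn_smul Q]
    simp [Matrix.mulVec_diagonal]
    have hk := k.ne_zero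
    field_simp
    rw [hs]
    ring
  all_goals
    simp only [H, vec]
    simp [Matrix.mulVec_diagonal]
  all_goals
    have hk := k.ne_zero
    field_simp
  all_goals
    try rw [hs]
    ring

omit [Fintype F] Q in
theorem W_inf (m : ℕ) : W F • Cfsg.suzukiPointInfinity F = pt m 0 0 := by
  rw [← zero_eq m]
  refine smul_mk_eq _ _ _ 1 ?_
  funext i
  fin_cases i <;> simp [W, Matrix.mulVec, dotProduct, Fin.sum_univ_four]

omit [Fintype F] Q in
theorem W_zero (m : ℕ) : W F • pt m (0 : F) 0 = Cfsg.suzukiPointInfinity F := by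
  rw [← zero_eq m]
  refine smul_mk_eq _ _ _ 1 ?_
  funext i
  fin_cases i <;> simp [W, Matrix.mulVec, dotProduct, Fin.sum_univ_four]

theorem W_pt {x y : F} (h : fn m x y ≠ 0) : W F • pt m x y = pt m (y / fn m x y) (x / fn m x y) := by
  refine smul_mk_eq _ _ _ (fn m x y) ?_
  funext i
  fin_cases i
  · simp [W, Matrix.mulVec, dotProduct, Fin.sum_univ_four, vec, fn_inv Q h, h]
  all_goals simp [W, Matrix.mulVec, dotProduct, Fin.sum_univ_four, vec, mul_div_cancel₀ _ h]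

theorem mem_Sz_of {g : SL4 F} (h : ∀ p ∈ Cfsg.suzukiOvoid F m, g • p ∈ Cfsg.suzukiOvoid F m) :
    g ∈ Cfsg.Sz F m := by
  rw [MulAction.mem_stabilizer_set' (Set.toFinite _)]
  exact fun p hp => h p hp

theorem T_mem (a b : F) : T m a b ∈ Cfsg.Sz F m := mem_Sz_of Q fun p hp => by
  rcases mem_ovoid_iff.1 hp with rfl | ⟨x, y, rfl⟩
  · rw [T_inf]; exact inf_mem m
  · rw [T_pt Q]; exact pt_mem _ _ _

theorem H_mem (k : Fˣ) : H m k ∈ Cfsg.Sz F m := mem_Sz_of Q fun p hp => by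
  rcases mem_ovoid_iff.1 hp with rfl | ⟨x, y, rfl⟩
  · rw [H_inf]; exact inf_mem m
  · rw [H_pt Q]; exact pt_mem _ _ _

theorem W_mem : W F ∈ Cfsg.Sz F m := mem_Sz_of Q fun p hp => by
  rcases mem_ovoid_iff.1 hp with rfl | ⟨x, y, rfl⟩
  · rw [W_inf m]; exact pt_mem _ _ _
  · rcases eq_or_ne (fn m x y) 0 with h | h
    · obtain ⟨rfl, rfl⟩ := fn_eq_zero Q h
      rw [W_zero]; exact inf_mem m
    · rw [W_pt Q h]; exact pt_mem _ _ _

end Finite

end Cfsg.Lib.Suz
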