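import Cfsg.Agent.Suz.Simple
import Cfsg.Prelude.Def_Sz

/-! Elementary properties of the Suzuki groups and the comparison of their two realisations. -/

set_option autoImplicit false

open Matrix

namespace Cfsg.Lib.Suz

variable {F : Type*} [Field F] [Fintype F] {m : ℕ} (Q : Par F m)
include Q

theorem two_point :
    Nonempty (↥(MulAction.stabilizer (Cfsg.Sz F m) (Cfsg.suzukiPointInfinity F) ⊓
      MulAction.stabilizer (Cfsg.Sz F m) (Cfsg.suzukiPointZero F)) ≃* Fˣ) := by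
  let f : Fˣ →* ↥(MulAction.stabilizer (Cfsg.Sz F m) (Cfsg.suzukiPointInfinity F) ⊓
      MulAction.stabilizer (Cfsg.Sz F m) (Cfsg.suzukiPointZero F)) := MonoidHom.mk'
    (fun k => ⟨⟨H m k, H_mem Q k⟩, Subgroup.mem_inf.2 ⟨H_inf m k, by
      show H m k • Cfsg.suzukiPointZero F = Cfsg.suzukiPointZero F
      rw [zero_eq m, H_pt Q, mul_zero, mul_zero]⟩⟩)
    fun k l => Subtype.ext (Subtype.ext (H_mul Q k l))
  refine ⟨(MulEquiv.ofBijective f ⟨fun k l h => H_injective Q (congrArg (fun x => x.1.1) h), fun g => ?_⟩).symm⟩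
  obtain ⟨h1, h2⟩ := Subgroup.mem_inf.1 g.2
  obtain ⟨k, hk⟩ := stab_pair Q g.1.2 h1 (by
    have h2' : g.1.1 • Cfsg.suzukiPointZero F = Cfsg.suzukiPointZero F := h2
    exact (congrArg (g.1.1 • ·) (zero_eq m).symm).trans (h2'.trans (zero_eq m)))
  exact ⟨k, Subtype.ext (Subtype.ext hk.symm)⟩

theorem zassenhaus : Cfsg.IsZassenhausGroup (Cfsg.Sz F m) (Cfsg.suzukiOvoid F m) := by
  refine ⟨⟨fun {g g'} h => ?_⟩, ?_, fun g a b c hab hbc hac ga gb gc => ?_, ?_, fun N hN htr => ?_⟩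
  · have hfix : (g'⁻¹ * g).1 = 1 := fixes_all Q (g'⁻¹ * g).2 fun p hp => by
      have e : g.1 • p = g'.1 • p := congrArg Subtype.val (h ⟨p, hp⟩)
      show (g'.1⁻¹ * g.1) • p = p
      rw [mul_smul, e, inv_smul_smul]
    exact (inv_mul_eq_one.1 (Subtype.ext hfix)).symm
  · rw [MulAction.is_two_pretransitive_iff]
    intro a b c d hab hcd
    obtain ⟨g, hg, g1, g2⟩ := to_inf_zero Q a.2 b.2 (fun h => hab (Subtype.ext h))
    obtain ⟨g', hg', g1', g2'⟩ := to_inf_zero Q c.2 d.2 (fun h => hcd (Subtype.ext h))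
    refine ⟨⟨g'⁻¹ * g, mul_mem (inv_mem hg') hg⟩, Subtype.ext ?_, Subtype.ext ?_⟩
    · show (g'⁻¹ * g) • a.1 = c.1
      rw [mul_smul, g1, inv_smul_eq_iff, g1']
    · show (g'⁻¹ * g) • b.1 = d.1
      rw [mul_smul, g2, inv_smul_eq_iff, g2']
  · exact Subtype.ext (fix_three Q g.2 a.2 b.2 c.2 (fun h => hab (Subtype.ext h)) (fun h => hbc (Subtype.ext h))
      (fun h => hac (Subtype.ext h)) (congrArg Subtype.val ga) (congrArg Subtype.val gb) (congrArg Subtype.val gc))
  · obtain ⟨k, hk⟩ := exists_unit_ne_one Q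
    refine ⟨⟨H m k, H_mem Q k⟩, fun h => hk (H_injective Q ((congrArg Subtype.val h).trans (H_one Q).symm)),
      ⟨_, inf_mem m⟩, ⟨_, pt_mem m 0 0⟩, fun h => pt_ne_inf m 0 0 (congrArg Subtype.val h).symm,
      Subtype.ext (H_inf m k), Subtype.ext ?_⟩
    show H m k • pt m (0 : F) 0 = pt m 0 0
    rw [H_pt Q, mul_zero, mul_zero]
  · refine ⟨⟨_, inf_mem m⟩, fun hbot => ?_⟩
    have := (simple Q)
    rcases hN.eq_bot_or_eq_top with rfl | rfl
    · obtain ⟨x, hx⟩ := htr.exists_smul_eq ⟨_, inf_mem m⟩ ⟨_, pt_mem m 0 0⟩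
      have hx1 : (x : Cfsg.Sz F m) = 1 := Subgroup.mem_bot.1 x.2
      have h2 : (x : Cfsg.Sz F m).1 • Cfsg.suzukiPointInfinity F = pt m 0 0 := congrArg Subtype.val hx
      rw [hx1, OneMemClass.coe_one, one_smul] at h2
      exact pt_ne_inf m 0 0 h2.symm
    · let y : (⊤ : Subgroup (Cfsg.Sz F m)) := ⟨⟨T m 1 0, T_mem Q 1 0⟩, Subgroup.mem_top _⟩
      have hy : y ∈ MulAction.stabilizer (⊤ : Subgroup (Cfsg.Sz F m)) (⟨_, inf_mem m⟩ : Cfsg.suzukiOvoid F m) :=
        Subtype.ext (T_inf m 1 0)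
      rw [hbot, Subgroup.mem_bot] at hy
      have h2 : T m (1 : F) 0 = T m 0 0 := (congrArg (fun z : (⊤ : Subgroup (Cfsg.Sz F m)) => z.1.1) hy).trans (T_zero Q).symm
      exact one_ne_zero (T_inj Q h2).1

theorem ovoid_indep (p : Fin 3 ↪ Cfsg.suzukiOvoid F m) :
    Projectivization.Independent (fun i => (p i : Projectivization F (Fin 4 → F))) := by
  obtain ⟨g, hg, g0, g1⟩ := to_inf_zero Q (p 0).2 (p 1).2
    (fun h => absurd (p.injective (Subtype.ext h)) (by decide))
  have hne2 : ∀ i : Fin 3, i ≠ 2 → g • (p 2).1 ≠ g • (p i).1 := fun i hi h =>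
    hi (p.injective (Subtype.ext (MulAction.injective g h))).symm
  rcases mem_ovoid_iff.1 (smul_ovoid Q hg (p 2).2) with h | ⟨x, y, h⟩
  · exact absurd (h.trans g0.symm) (hne2 0 (by decide))
  have hxy : ¬(x = 0 ∧ y = 0) := fun ⟨hx, hy⟩ => by
    subst hx hy
    exact hne2 1 (by decide) (h.trans g1.symm)
  rw [Projectivization.independent_iff, Fintype.linearIndependent_iff]
  intro c hc
  simp only [Fin.sum_univ_three, Function.comp_apply] at hc
  have hrep : ∀ i v, ∀ hv : v ≠ 0, g • (p i).1 = Projectivization.mk F v hv →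
      ∃ a : F, a ≠ 0 ∧ (g : Matrix (Fin 4) (Fin 4) F) *ᵥ (p i).1.rep = a • v := by
    intro i v hv e
    rw [← Projectivization.mk_rep (p i).1, Projectivization.smul_mk, Projectivization.mk_eq_mk_iff'] at e
    obtain ⟨a, ha⟩ := e
    refine ⟨a, fun h0 => ?_, ha.symm⟩
    have hz := (smul_ne_zero_iff_ne g).2 (p i).1.rep_nonzero
    rw [← ha, h0] at hz
    exact hz (zero_smul F v)
  obtain ⟨a0, ha0, e0⟩ := hrep 0 _ _ g0
  obtain ⟨a1, ha1, e1⟩ := hrep 1 _ _ g1
  obtain ⟨a2, ha2, e2⟩ := hrep 2 _ _ h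
  have := congrArg (fun v => (g : Matrix (Fin 4) (Fin 4) F) *ᵥ v) hc
  simp only [Matrix.mulVec_add, Matrix.mulVec_smul, e0, e1, e2, Matrix.mulVec_zero] at this
  have k0 := congrFun this 0
  have k1 := congrFun this 1
  have k2 := congrFun this 2
  have k3 := congrFun this 3
  simp [vec, fn] at k0 k1 k2 k3
  have c2 : c 2 = 0 := by
    rcases k2 with h' | h' | h'
    · exact h'
    · exact absurd h' ha2
    · subst h'
      rcases k1 with h'' | h'' | h''
      · exact h''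
      · exact absurd h'' ha2
      · exact absurd ⟨rfl, h''⟩ hxy
  simp [c2, ha0, ha1] at k0 k3
  intro i
  fin_cases i
  exacts [k0, k3, c2]

theorem form {g : SL4 F} (hg : g ∈ Cfsg.Sz F m) :
    (g : Matrix (Fin 4) (Fin 4) F).transpose * Cfsg.suzukiForm F * (g : Matrix (Fin 4) (Fin 4) F) =
      Cfsg.suzukiForm F := by
  let S : Subgroup (SL4 F) :=
    { carrier := {g | g.1.transpose * Cfsg.suzukiForm F * g.1 = Cfsg.suzukiForm F}
      one_mem' := by
        show (1 : Matrix (Fin 4) (Fin 4) F).transpose * Cfsg.suzukiForm F * 1 = Cfsg.suzukiForm F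
        simp
      mul_mem' := fun {a b} ha hb => by
        show (a.1 * b.1).transpose * Cfsg.suzukiForm F * (a.1 * b.1) = Cfsg.suzukiForm F
        rw [Matrix.transpose_mul, show b.1.transpose * a.1.transpose * Cfsg.suzukiForm F * (a.1 * b.1) =
          b.1.transpose * (a.1.transpose * Cfsg.suzukiForm F * a.1) * b.1 by simp only [mul_assoc], ha, hb]
      inv_mem' := fun {a} ha => by
        show a⁻¹.1.transpose * Cfsg.suzukiForm F * a⁻¹.1 = Cfsg.suzukiForm F
        have h1 : a.1 * a⁻¹.1 = 1 := by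
          have := congrArg Subtype.val (mul_inv_cancel a)
          exact this
        conv_lhs => rw [← ha]
        rw [show a⁻¹.1.transpose * (a.1.transpose * Cfsg.suzukiForm F * a.1) * a⁻¹.1 =
          (a⁻¹.1.transpose * a.1.transpose) * Cfsg.suzukiForm F * (a.1 * a⁻¹.1) by simp only [mul_assoc],
          ← Matrix.transpose_mul, h1]
        simp }
  have := charP Q
  have h2 : (2 : F) = 0 := CharP.cast_eq_zero F 2
  refine Sz_le Q (G := S) (fun a b => ?_) (fun k => ?_) ?_ hg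
  · show (Tmat m a b).transpose * Cfsg.suzukiForm F * Tmat m a b = Cfsg.suzukiForm F
    simp only [Tmat, Cfsg.suzukiForm]
    generalize 2 ^ (m + 1) = s
    ext i j
    fin_cases i <;> fin_cases j <;> simp [Matrix.mul_apply, Fin.sum_univ_four, pow_succ, add_self Q]
    all_goals (try ring_nf)
    all_goals simp [h2]
  · show (H m k).1.transpose * Cfsg.suzukiForm F * (H m k).1 = Cfsg.suzukiForm F
    have := k.ne_zero
    simp only [H, Cfsg.suzukiForm, Matrix.diagonal_transpose, Units.val_pow_eq_pow_val, Units.val_inv_eq_inv_val]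
    ext i j
    fin_cases i <;> fin_cases j <;> simp [Matrix.diagonal_mul, Matrix.mul_diagonal, this]
  · show (W F).1.transpose * Cfsg.suzukiForm F * (W F).1 = Cfsg.suzukiForm F
    simp only [W, Cfsg.suzukiForm]
    ext i j
    fin_cases i <;> fin_cases j <;> simp [Matrix.mul_apply, Fin.sum_univ_four]

end Cfsg.Lib.Suz
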