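import Cfsg.Agent.Suz.Aut
import Mathlib

/-!
The subfield subgroups of the Suzuki groups: existence and conjugacy.

An embedded copy is moved so that its unipotent subgroup lies in the standard one and its torus is
diagonal; then the parameters of its elements are forced into the subfield.
-/

set_option autoImplicit false
set_option linter.unusedSectionVars false
set_option linter.style.haveILetI false

namespace Cfsg.Lib.Suz

variable {F : Type*} [Field F] [Fintype F] {m : ℕ} {K : Type*} [Field K] [Fintype K] {k : ℕ}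
variable (Q : Par F m) (R : Par K k) (hdiv : 2 * k + 1 ∣ 2 * m + 1) (ι : K →+* F)

local notation "SF" => Cfsg.Sz F m
local notation "SK" => Cfsg.Sz K k
local notation "inf∞" => Cfsg.suzukiPointInfinity F

include Q R hdiv

theorem exists_embedding : Nonempty (K →+* F) := by
  have h2 : Fact (Nat.Prime 2) := ⟨Nat.prime_two⟩
  have := charP Q
  have := charP R
  letI := ZMod.algebra F 2
  letI := ZMod.algebra K 2
  have h1 : Module.finrank (ZMod 2) F = 2 * m + 1 := by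
    have := Module.card_eq_pow_finrank (K := ZMod 2) (V := F)
    rw [ZMod.card, Q.hF] at this
    exact (Nat.pow_right_injective le_rfl this).symm
  have h3 : Module.finrank (ZMod 2) K = 2 * k + 1 := by
    have := Module.card_eq_pow_finrank (K := ZMod 2) (V := K)
    rw [ZMod.card, R.hF] at this
    exact (Nat.pow_right_injective le_rfl this).symm
  obtain ⟨φ⟩ := FiniteField.nonempty_algHom_of_finrank_dvd (F := ZMod 2) (K := K) (L := F) (by rw [h1, h3]; exact hdiv)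
  exact ⟨φ.toRingHom⟩

/-- The two exponents agree on the subfield. -/
theorem pow_agree (i : ℕ) (a : K) : a ^ (2 ^ (m + i)) = a ^ (2 ^ (k + i)) := by
  have hkm : k ≤ m := by
    have := Nat.le_of_dvd (Nat.succ_pos _) hdiv
    omega
  obtain ⟨d, hd⟩ : 2 * k + 1 ∣ m - k := by
    refine (Nat.Coprime.dvd_of_dvd_mul_left (m := 2) ?_ ?_)
    · rw [Nat.coprime_two_right]; exact odd_two_mul_add_one k
    · obtain ⟨c, hc⟩ := hdiv
      exact ⟨c - 1, by rw [Nat.mul_sub (2 * k + 1), mul_one, ← hc]; omega⟩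
  have hper : ∀ (d j : ℕ), a ^ (2 ^ (j + (2 * k + 1) * d)) = a ^ (2 ^ j) := by
    intro d j
    induction d with
    | zero => simp
    | succ d ih => rw [mul_add, mul_one, ← add_assoc, pow_add 2 (j + (2 * k + 1) * d), pow_mul, pow_q R, ih]
  rw [show m + i = k + i + (2 * k + 1) * d by rw [← hd]; omega]
  exact hper d _

include ι

theorem map_e (a : K) : ι a ^ (2 ^ (m + 1)) = ι (a ^ (2 ^ (k + 1))) := by
  rw [← map_pow, pow_agree Q R hdiv]

theorem map_e1 (a : K) : ι a ^ (2 ^ (m + 1) + 1) = ι (a ^ (2 ^ (k + 1) + 1)) := by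
  rw [pow_succ, map_e Q R hdiv, ← map_mul, ← pow_succ]

theorem map_T (a b : K) : Matrix.SpecialLinearGroup.map ι (T k a b) = T m (ι a) (ι b) := by
  refine Subtype.ext ?_
  show (Tmat k a b).map ι = Tmat m (ι a) (ι b)
  have h2 : ι a ^ (2 ^ (m + 1) + 2) = ι (a ^ (2 ^ (k + 1) + 2)) := by
    rw [pow_succ _ (2 ^ (m + 1) + 1), map_e1 Q R hdiv, ← map_mul, ← pow_succ]
  ext i j
  fin_cases i <;> fin_cases j <;> simp [Tmat, fn, map_e Q R hdiv, map_e1 Q R hdiv, h2]

theorem map_H (t : Kˣ) :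
    Matrix.SpecialLinearGroup.map ι (H k t) = H m (Units.map ι.toMonoidHom t) := by
  have e0 : t ^ hh k = t ^ hh m := Units.ext (by
    simp only [Units.val_pow_eq_pow_val]; exact (pow_agree Q R hdiv 0 _).symm)
  have e1 : t ^ (hh k + 1) = t ^ (hh m + 1) := by rw [pow_succ, pow_succ, e0]
  refine Subtype.ext ?_
  show (H k t).1.map ι = (H m _).1
  simp only [H, e0, e1]
  ext i j
  fin_cases i <;> fin_cases j <;> simp

theorem map_W : Matrix.SpecialLinearGroup.map ι (W K) = W F := by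
  refine Subtype.ext ?_
  show (W K).1.map ι = (W F).1
  ext i j
  fin_cases i <;> fin_cases j <;> simp [W]

theorem map_mem_sub {g : SL4 K} (hg : g ∈ SK) : Matrix.SpecialLinearGroup.map ι g ∈ SF := by
  refine Sz_le R (G := (Cfsg.Sz F m).comap (Matrix.SpecialLinearGroup.map ι)) (fun a b => ?_) (fun t => ?_) ?_ hg
  · show _ ∈ SF
    rw [map_T Q R hdiv]; exact T_mem Q _ _
  · show _ ∈ SF
    rw [map_H Q R hdiv]; exact H_mem Q _
  · show _ ∈ SF
    rw [map_W Q R hdiv]; exact W_mem Q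

/-- The standard embedding. -/
def emb : SK →* SF :=
  ((Matrix.SpecialLinearGroup.map ι).comp (Cfsg.Sz K k).subtype).codRestrict _ fun g => map_mem_sub Q R hdiv ι g.2

theorem emb_injective : Function.Injective (emb Q R hdiv ι) := fun g h e => by
  have e' := congrArg (fun x : SF => x.1.1) e
  exact Subtype.ext (Subtype.ext (Matrix.map_injective ι.injective e'))

/-- A subgroup containing the generators of the standard copy contains it. -/
theorem emb_range_le {G : Subgroup SF} (hU : ∀ a b, uu Q (ι a) (ι b) ∈ G)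
    (hH : ∀ t : Kˣ, hI Q (Units.map ι.toMonoidHom t) ∈ G) (hW : wS Q ∈ G) :
    (emb Q R hdiv ι).range ≤ G := by
  rintro _ ⟨g, rfl⟩
  rcases elt_cases R g.2 with ⟨a, b, t, e⟩ | ⟨a, b, c, d, t, e⟩
  · have he : emb Q R hdiv ι g = uu Q (ι a) (ι b) * hI Q (Units.map ι.toMonoidHom t) := Subtype.ext (by
      show Matrix.SpecialLinearGroup.map ι g.1 = _
      rw [e, map_mul, map_T Q R hdiv, map_H Q R hdiv]; rfl)
    rw [he]; exact mul_mem (hU _ _) (hH _)
  · have he : emb Q R hdiv ι g = uu Q (ι a) (ι b) * wS Q * (uu Q (ι c) (ι d) * hI Q (Units.map ι.toMonoidHom t)) :=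
      Subtype.ext (by
        show Matrix.SpecialLinearGroup.map ι g.1 = _
        rw [e, map_mul, map_mul, map_mul, map_T Q R hdiv, map_T Q R hdiv, map_H Q R hdiv, map_W Q R hdiv]; rfl)
    rw [he]; exact mul_mem (mul_mem (hU _ _) hW) (mul_mem (hU _ _) (hH _))

omit hdiv ι

theorem exists_unip_pos (θ : SK →* SF) :
    ∃ c : SF, ∀ u ∈ uSub R, c * θ u * c⁻¹ ∈ uSub Q := by
  have : Fact (Nat.Prime 2) := ⟨Nat.prime_two⟩
  obtain ⟨P, hP⟩ := ((isPGroup_uSub R).map θ).exists_le_sylow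
  obtain ⟨c, hc⟩ := exists_conj Q P
  exact ⟨c, fun u hu => (hc _).1 (hP ⟨u, hu, rfl⟩)⟩

theorem exists_torus_pos (θ : SK →* SF) (hθ : Function.Injective θ) (hU : ∀ u ∈ uSub R, θ u ∈ uSub Q)
    {t : Kˣ} (ht : orderOf t = 2 ^ (2 * k + 1) - 1) :
    ∃ c : SF, (∀ u ∈ uSub R, c * θ u * c⁻¹ ∈ uSub Q) ∧ ∃ l : Fˣ, c * θ (hI R t) * c⁻¹ = hI Q l := by
  have hne : uu R (1 : K) 0 ≠ 1 := fun e => one_ne_zero (uu_inj R (e.trans (uu_zero R).symm)).1
  have hfix : (θ (hI R t)).1 • inf∞ = inf∞ := by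
    refine ti Q (hU _ (uu_mem R 1 0)) (fun e => hne (hθ (e.trans (map_one θ).symm))) ?_
    rw [← map_inv, ← map_mul, ← map_mul]
    exact hU _ (conj_of_fix R (H_inf k t) (uu_mem R 1 0))
  obtain ⟨a, b, l, hl⟩ := stab_inf Q (θ (hI R t)).2 hfix
  have hl1 : l ≠ 1 := by
    rintro rfl
    rw [H_one Q, mul_one] at hl
    have h4 : θ (hI R t) ^ 4 = 1 := by
      rw [show θ (hI R t) = uu Q a b from Subtype.ext hl, uu_four]
    rw [← map_pow] at h4
    have h5 : hHom R (t ^ 4) = hHom R 1 := by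
      rw [map_pow, map_one]; exact hθ (h4.trans (map_one θ).symm)
    have h6 : orderOf t ∣ 4 := orderOf_dvd_of_pow_eq_one (hHom_injective R h5)
    rw [ht] at h6
    have h7 : 2 ^ 3 ≤ 2 ^ (2 * k + 1) := Nat.pow_le_pow_right two_pos (by have := R.hm; omega)
    have := Nat.le_of_dvd (by norm_num) h6
    omega
  obtain ⟨x, y, hxy⟩ : ∃ x y, T m a b • H m l • pt m x y = pt m x y := by
    have h1 : (1 : F) - (l : F) ≠ 0 := sub_ne_zero.2 fun e => hl1 (Units.ext e.symm)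
    have h2 : (1 : F) - (l : F) ^ (2 ^ (m + 1) + 1) ≠ 0 := sub_ne_zero.2 fun e => hl1 (units_s1 Q e.symm)
    refine ⟨a / (1 - l), (a ^ (2 ^ (m + 1)) * ((l : F) * (a / (1 - l))) + b) / (1 - (l : F) ^ (2 ^ (m + 1) + 1)), ?_⟩
    rw [H_pt Q, T_pt Q]
    congr 1 <;> field_simp <;> ring
  refine ⟨(uu Q x y)⁻¹, fun u hu => mul_mem (mul_mem (inv_mem (uu_mem Q x y)) (hU u hu))
    (inv_mem (inv_mem (uu_mem Q x y))), ?_⟩
  have hzero : (T m x y) • pt m (0 : F) 0 = pt m x y := by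
    rw [T_pt Q]; simp
  have hval : ((uu Q x y)⁻¹ * θ (hI R t) * (uu Q x y)⁻¹⁻¹).1 = (T m x y)⁻¹ * (T m a b * H m l) * T m x y := by
    rw [Subgroup.coe_mul, Subgroup.coe_mul, inv_inv, Subgroup.coe_inv, hl]; rfl
  obtain ⟨l', hl'⟩ := stab_pair Q ((uu Q x y)⁻¹ * θ (hI R t) * (uu Q x y)⁻¹⁻¹).2
    (by rw [hval, mul_smul, mul_smul, mul_smul, T_inf, H_inf, T_inf, inv_smul_eq_iff, T_inf])
    (by rw [hval, mul_smul, mul_smul, mul_smul, hzero, hxy, inv_smul_eq_iff, hzero])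
  exact ⟨l', Subtype.ext hl'⟩

include hdiv ι

/-- The roots of unity of the subfield. -/
theorem exists_of_pow_eq_one {l : Fˣ} (hl : l ^ (2 ^ (2 * k + 1) - 1) = 1) :
    ∃ t : Kˣ, Units.map ι.toMonoidHom t = l := by
  classical
  obtain ⟨r, hr⟩ : ∃ r, r = 2 ^ (2 * k + 1) := ⟨_, rfl⟩
  have hr1 : 1 < r := hr ▸ Nat.one_lt_two_pow (by omega)
  have hsub : (Finset.univ.image ι) = Finset.univ.filter fun x : F => x ^ r = x := by
    refine Finset.eq_of_subset_of_card_le (fun x hx => ?_) ?_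
    · obtain ⟨a, -, rfl⟩ := Finset.mem_image.1 hx
      rw [Finset.mem_filter]
      exact ⟨Finset.mem_univ _, by rw [← map_pow, hr, pow_q R]⟩
    · rw [Finset.card_image_of_injective _ ι.injective, Finset.card_univ, R.hF, ← hr]
      have hp : (Polynomial.X ^ r - Polynomial.X : Polynomial F) ≠ 0 := FiniteField.X_pow_card_sub_X_ne_zero F hr1
      refine (Polynomial.card_le_degree_of_subset_roots (p := Polynomial.X ^ r - Polynomial.X) fun x hx => ?_).trans ?_
      · rw [Polynomial.mem_roots hp]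
        simp [(Finset.mem_filter.1 hx).2]
      · exact (FiniteField.X_pow_card_sub_X_natDegree_eq F hr1).le
  have hmem : (l : F) ∈ Finset.univ.image ι := by
    rw [hsub, Finset.mem_filter]
    refine ⟨Finset.mem_univ _, ?_⟩
    have e : l ^ r = l := by
      rw [show r = (2 ^ (2 * k + 1) - 1) + 1 by omega, pow_succ, hl, one_mul]
    simpa using congrArg Units.val e
  obtain ⟨a, -, ha⟩ := Finset.mem_image.1 hmem
  have ha0 : a ≠ 0 := fun e => l.ne_zero (by rw [← ha, e, map_zero])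
  exact ⟨Units.mk0 a ha0, Units.ext (by simpa using ha)⟩

/-- An embedded copy in standard position, with a normalised element of order four, is the standard one. -/
theorem standard_of_pos (θ : SK →* SF) (hθ : Function.Injective θ) (hU : ∀ u ∈ uSub R, θ u ∈ uSub Q)
    {t₀ : Kˣ} (ht₀ : orderOf t₀ = 2 ^ (2 * k + 1) - 1) {l : Fˣ} (hl : θ (hI R t₀) = hI Q l)
    {γ : F} {u₁ : SK} (hu₁ : u₁ ∈ uSub R) (hγ : θ u₁ = uu Q 1 γ) :
    (emb Q R hdiv ι).range ≤ θ.range := by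
  classical
  have := charP Q
  -- the torus
  have hpow : ∀ n : ℕ, θ (hI R (t₀ ^ n)) = hI Q (l ^ n) := fun n => by
    show θ (hHom R (t₀ ^ n)) = hHom Q (l ^ n)
    rw [map_pow, map_pow, map_pow]
    exact congrArg (· ^ n) hl
  have hol : orderOf l = 2 ^ (2 * k + 1) - 1 := by
    rw [← ht₀, ← orderOf_injective (hHom R) (hHom_injective R) t₀, ← orderOf_injective θ hθ (hHom R t₀),
      show θ (hHom R t₀) = hHom Q l from hl, orderOf_injective (hHom Q) (hHom_injective Q) l]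
  have hl1 : l ≠ 1 := by
    rintro rfl
    rw [orderOf_one] at hol
    have h7 : 2 ^ 3 ≤ 2 ^ (2 * k + 1) := Nat.pow_le_pow_right two_pos (by have := R.hm; omega)
    omega
  have htor : ∀ s : Kˣ, ∃ t : Kˣ, θ (hI R t) = hI Q (Units.map ι.toMonoidHom s) := by
    intro s
    obtain ⟨s₀, hs₀⟩ := exists_of_pow_eq_one Q R hdiv ι (l := l) (by rw [← hol]; exact pow_orderOf_eq_one l)
    have hos : orderOf s₀ = 2 ^ (2 * k + 1) - 1 := by
      rw [← hol, ← hs₀, orderOf_injective _ (Units.map_injective (f := ι.toMonoidHom) ι.injective)]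
    have htop : Subgroup.zpowers s₀ = ⊤ := by
      refine Subgroup.eq_top_of_card_eq _ ?_
      rw [Nat.card_zpowers, hos, Nat.card_units, Nat.card_eq_fintype_card, R.hF]
    have hs : s ∈ Subgroup.zpowers s₀ := by rw [htop]; trivial
    rw [mem_zpowers_iff_mem_range_orderOf, Finset.mem_image] at hs
    obtain ⟨n, -, rfl⟩ := hs
    exact ⟨t₀ ^ n, by rw [hpow, map_pow, hs₀]⟩
  -- scaling the two basic elements
  have hsq : θ (u₁ ^ 2) = uu Q 0 1 := by rw [map_pow, hγ, uu_sq, one_pow]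
  have hA : ∀ s : K, ∃ u ∈ uSub R, θ u = uu Q (ι s) (ι s ^ (2 ^ (m + 1) + 1) * γ) := by
    intro s
    rcases eq_or_ne s 0 with rfl | hs
    · exact ⟨1, one_mem _, by rw [map_one, map_zero, zero_pow (Nat.succ_ne_zero _), zero_mul, uu_zero]⟩
    obtain ⟨t, ht⟩ := htor (Units.mk0 s hs)
    refine ⟨hI R t * u₁ * (hI R t)⁻¹, conj_of_fix R (H_inf k t) hu₁, ?_⟩
    rw [map_mul, map_mul, map_inv, hγ, ht, hI_conj]
    simp
  have hB : ∀ b : K, ∃ u ∈ uSub R, θ u = uu Q 0 (ι b) := by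
    intro b
    rcases eq_or_ne b 0 with rfl | hb
    · exact ⟨1, one_mem _, by rw [map_one, map_zero, uu_zero]⟩
    obtain ⟨s, hs⟩ := exists_s1_root R (Units.mk0 b hb)
    obtain ⟨t, ht⟩ := htor s
    refine ⟨hI R t * u₁ ^ 2 * (hI R t)⁻¹, conj_of_fix R (H_inf k t) (pow_mem hu₁ 2), ?_⟩
    rw [map_mul, map_mul, map_inv, hsq, ht, hI_conj, mul_zero, mul_one]
    congr 1
    show ι (s : K) ^ _ = _
    rw [map_e1 Q R hdiv ι, ← Units.val_pow_eq_pow_val, hs]; rfl
  choose gA hgA hgA' using hA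
  choose gB hgB hgB' using hB
  let Φ : K × K → uSub R := fun p => ⟨gA p.1 * gB p.2, mul_mem (hgA _) (hgB _)⟩
  have hΦ : ∀ p, θ (Φ p).1 = uu Q (ι p.1) (ι p.1 ^ (2 ^ (m + 1) + 1) * γ + ι p.2) := fun p => by
    show θ (gA p.1 * gB p.2) = _
    rw [map_mul, hgA', hgB', uu_mul, mul_zero, add_zero, add_zero]
  have hΦb : Function.Bijective Φ := by
    refine (Nat.bijective_iff_injective_and_card _).2 ⟨fun p q e => ?_, ?_⟩
    · have e' := congrArg (fun u : uSub R => θ u.1) e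
      simp only [hΦ] at e'
      obtain ⟨e1, e2⟩ := uu_inj Q e'
      rw [e1] at e2
      exact Prod.ext (ι.injective e1) (ι.injective (add_left_cancel e2))
    · rw [card_uSub R, Nat.card_prod, Nat.card_eq_fintype_card, R.hF, pow_two]
  have hall : ∀ u ∈ uSub R, ∃ a b : K, θ u = uu Q (ι a) (ι a ^ (2 ^ (m + 1) + 1) * γ + ι b) := fun u hu => by
    obtain ⟨p, hp⟩ := hΦb.2 ⟨u, hu⟩
    exact ⟨p.1, p.2, by rw [← hΦ, hp]⟩
  -- the parameter lies in the subfield
  obtain ⟨γ₀, hγ₀⟩ : ∃ g : K, ι g = γ := by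
    obtain ⟨x, hx⟩ := exists_s_ne R
    obtain ⟨a, b, e⟩ := hall (gA x * gA 1) (mul_mem (hgA _) (hgA _))
    rw [map_mul, hgA', hgA', map_one, one_pow, one_mul, uu_mul, mul_one, map_e Q R hdiv ι] at e
    obtain ⟨e1, e2⟩ := uu_inj Q e
    have hx' : x ^ (2 ^ (k + 1)) + x ≠ 0 := fun h => hx ((eq_neg_of_add_eq_zero_left h).trans (neg_eq R x))
    refine ⟨(b + x ^ (2 ^ (k + 1))) / (x ^ (2 ^ (k + 1)) + x), ?_⟩
    have hd : ι (x ^ (2 ^ (k + 1))) + ι x ≠ 0 := by
      rw [← map_add, ne_eq, map_eq_zero]; exact hx'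
    rw [map_div₀, map_add, map_add, div_eq_iff hd]
    rw [← e1, pow_succ (ι x + 1), add_pow_s Q, one_pow, map_e Q R hdiv ι, pow_succ (ι x), map_e Q R hdiv ι] at e2
    have h2 : (2 : F) = 0 := CharP.cast_eq_zero F 2
    linear_combination -e2 + (ι (x ^ (2 ^ (k + 1))) * 1) * h2 - (γ * ι (x ^ (2 ^ (k + 1))) + γ * ι x) * h2
  have hparam : ∀ u ∈ uSub R, ∃ a b : K, θ u = uu Q (ι a) (ι b) := fun u hu => by
    obtain ⟨a, b, e⟩ := hall u hu
    exact ⟨a, a ^ (2 ^ (k + 1) + 1) * γ₀ + b, by rw [e, map_add, map_mul, map_e1 Q R hdiv ι, hγ₀]⟩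
  have hattain : ∀ a b : K, ∃ u ∈ uSub R, θ u = uu Q (ι a) (ι b) := fun a b =>
    ⟨(Φ (a, b - a ^ (2 ^ (k + 1) + 1) * γ₀)).1, (Φ _).2, by
      rw [hΦ]; congr 1; rw [map_sub, map_mul, map_e1 Q R hdiv ι, hγ₀]; ring⟩
  -- the inverting involution
  obtain ⟨j, hj⟩ : ∃ j, j = θ (wS R) := ⟨_, rfl⟩
  have hrel : wS R * hI R t₀ = (hI R t₀)⁻¹ * wS R := by
    rw [eq_inv_mul_iff_mul_eq, ← mul_assoc]
    exact Subtype.ext (hwh R t₀)
  have hjj : j * j = 1 := by
    rw [hj, ← map_mul, show wS R * wS R = 1 from Subtype.ext (W_sq R), map_one]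
  have hj0 : j.1 • inf∞ = pt m 0 0 := by
    have h1 := congrArg (fun g : SK => (θ g).1 • inf∞) hrel
    simp only [map_mul, map_inv, hl, ← hj, Subgroup.coe_mul, Subgroup.coe_inv] at h1
    rw [mul_smul, mul_smul, show (hI Q l).1 • inf∞ = inf∞ from H_inf m l, eq_inv_smul_iff] at h1
    rcases fixed_point_hI Q hl1 (smul_ovoid Q j.2 (inf_mem m)) h1 with e | e
    · exfalso
      have hmax : (uSub Q).comap θ = uSub R := by
        have h2 : IsPGroup 2 ((uSub Q).comap θ) := (isPGroup_uSub Q).comap_of_injective θ hθ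
        exact (syl R).is_maximal' h2 (fun u hu => hU u hu)
      have h3 : wS R * uu R 1 0 * (wS R)⁻¹ ∈ (uSub Q).comap θ := by
        rw [Subgroup.mem_comap, map_mul, map_mul, map_inv, ← hj]
        exact conj_of_fix Q e (hU _ (uu_mem R 1 0))
      rw [hmax] at h3
      exact pt_ne_inf k 0 0 ((W_inf k).symm.trans (fix_of_conj R h3))
    · exact e
  have hj00 : j.1 • pt m 0 0 = inf∞ := by
    rw [← hj0, ← mul_smul, ← Subgroup.coe_mul, hjj, Subgroup.coe_one, one_smul]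
  obtain ⟨μ, hμ⟩ := stab_pair Q (g := (wS Q * j).1) (wS Q * j).2
    (by rw [Subgroup.coe_mul, mul_smul, hj0]; exact W_zero m)
    (by rw [Subgroup.coe_mul, mul_smul, hj00]; exact W_inf m)
  have hjW : j = wS Q * hI Q μ := by
    rw [show hI Q μ = wS Q * j from Subtype.ext hμ.symm, ← mul_assoc,
      show wS Q * wS Q = 1 from Subtype.ext (W_sq Q), one_mul]
  -- the orbit of the point at infinity
  have horb : ∀ g : SK, (θ g).1 • inf∞ = inf∞ ∨ ∃ a b : K, (θ g).1 • inf∞ = pt m (ι a) (ι b) := by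
    have hH' : ∀ t : Kˣ, (θ (hI R t)).1 • inf∞ = inf∞ := fun t => by
      have hs : t ∈ Subgroup.zpowers t₀ := by
        rw [show Subgroup.zpowers t₀ = ⊤ from Subgroup.eq_top_of_card_eq _ (by
          rw [Nat.card_zpowers, ht₀, Nat.card_units, Nat.card_eq_fintype_card, R.hF])]
        trivial
      rw [mem_zpowers_iff_mem_range_orderOf, Finset.mem_image] at hs
      obtain ⟨n, -, rfl⟩ := hs
      rw [hpow]; exact H_inf m _
    intro g
    rcases elt_cases R g.2 with ⟨a, b, t, e⟩ | ⟨a, b, c, d, t, e⟩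
    · left
      obtain ⟨a', b', e'⟩ := hparam _ (uu_mem R a b)
      rw [show g = uu R a b * hI R t from Subtype.ext e, map_mul, e', Subgroup.coe_mul, mul_smul, hH']
      exact T_inf m _ _
    · right
      obtain ⟨a', b', e'⟩ := hparam _ (uu_mem R a b)
      obtain ⟨c', d', e''⟩ := hparam _ (uu_mem R c d)
      refine ⟨a', b', ?_⟩
      rw [show g = uu R a b * wS R * (uu R c d * hI R t) from Subtype.ext e, map_mul, map_mul, map_mul, e', e'',
        ← hj, Subgroup.coe_mul, Subgroup.coe_mul, Subgroup.coe_mul, mul_smul, mul_smul, mul_smul, hH',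
        show (uu Q (ι c') (ι d')).1 • inf∞ = inf∞ from T_inf m _ _, hj0]
      show T m (ι a') (ι b') • pt m 0 0 = _
      rw [T_pt Q]; simp
  obtain ⟨s, hs⟩ : ∃ s : Kˣ, Units.map ι.toMonoidHom s = μ := by
    obtain ⟨u, -, hu⟩ := hattain 0 1
    have e : (θ (wS R * u * wS R)).1 • inf∞ = pt m ((μ⁻¹ : Fˣ) : F) 0 := by
      rw [map_mul, map_mul, ← hj, hu, map_zero, map_one, Subgroup.coe_mul, Subgroup.coe_mul, mul_smul, mul_smul, hj0]
      show j.1 • T m (0 : F) 1 • pt m 0 0 = _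
      rw [T_pt Q]
      simp only [add_zero, zero_add, zero_pow (pow_ne_zero (m + 1) two_ne_zero), mul_zero]
      rw [hjW]
      show (W F * H m μ) • pt m (0 : F) 1 = _
      have hswap : W F * H m μ = H m μ⁻¹ * W F := by
        have := hwh Q μ
        calc W F * H m μ = (H m μ)⁻¹ * (H m μ * W F * H m μ) := by group
          _ = H m μ⁻¹ * W F := by
            rw [this, show (H m μ)⁻¹ = H m μ⁻¹ from inv_eq_of_mul_eq_one_right (by
              rw [← H_mul Q, mul_inv_cancel, H_one Q])]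
      have hf : fn m (0 : F) 1 = 1 := by simp [fn]
      rw [hswap, mul_smul, W_pt Q (by rw [hf]; exact one_ne_zero), hf, H_pt Q]
      simp
    rcases horb (wS R * u * wS R) with h | ⟨a, b, h⟩
    · rw [e] at h
      exact absurd h (pt_ne_inf m _ _)
    · rw [e] at h
      obtain ⟨ha, -⟩ := pt_inj h
      have ha0 : a ≠ 0 := fun h0 => (μ⁻¹).ne_zero (by rw [ha, h0, map_zero])
      exact ⟨(Units.mk0 a ha0)⁻¹, by rw [map_inv]; exact inv_eq_iff_eq_inv.2 (Units.ext (by simpa using ha.symm))⟩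
  -- the generators
  refine emb_range_le Q R hdiv ι (fun a b => ?_) (fun t => ?_) ?_
  · obtain ⟨u, -, hu⟩ := hattain a b
    exact ⟨u, hu⟩
  · obtain ⟨t', ht'⟩ := htor t
    exact ⟨_, ht'⟩
  · obtain ⟨t', ht'⟩ := htor s
    refine ⟨wS R * (hI R t')⁻¹, ?_⟩
    rw [map_mul, map_inv, ← hj, ht', hs, hjW, mul_inv_cancel_right]

/-- Every embedded copy is conjugate to the standard one. -/
theorem exists_conj_standard (θ : SK →* SF) (hθ : Function.Injective θ) :
    ∃ c : SF, θ.range.map (MulAut.conj c).toMonoidHom = (emb Q R hdiv ι).range := by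
  classical
  obtain ⟨c₁, hc₁⟩ := exists_unip_pos Q R θ
  obtain ⟨t₀, ht₀⟩ := IsCyclic.exists_ofOrder_eq_natCard (α := Kˣ)
  rw [Nat.card_units, Nat.card_eq_fintype_card, R.hF] at ht₀
  set θ₁ := (MulAut.conj c₁).toMonoidHom.comp θ with hθ₁
  have hi₁ : Function.Injective θ₁ := (MulAut.conj c₁).injective.comp hθ
  obtain ⟨c₂, hc₂, l, hl⟩ := exists_torus_pos Q R θ₁ hi₁ hc₁ ht₀
  set θ₂ := (MulAut.conj c₂).toMonoidHom.comp θ₁ with hθ₂
  have hi₂ : Function.Injective θ₂ := (MulAut.conj c₂).injective.comp hi₁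
  obtain ⟨α, β, hαβ⟩ := exists_uu Q (show θ₂ (uu R 1 0) ∈ uSub Q from hc₂ _ (uu_mem R 1 0))
  have hα : α ≠ 0 := by
    rintro rfl
    have h := congrArg (· ^ 2) hαβ
    simp only [← map_pow, uu_sq, one_pow, zero_pow (Nat.succ_ne_zero _), uu_zero] at h
    exact one_ne_zero (uu_inj R ((hi₂ (h.trans (map_one θ₂).symm)).trans (uu_zero R).symm)).2
  obtain ⟨c₃, hc₃⟩ : ∃ c, c = hI Q (Units.mk0 α hα)⁻¹ := ⟨_, rfl⟩
  set θ₃ := (MulAut.conj c₃).toMonoidHom.comp θ₂ with hθ₃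
  have hi₃ : Function.Injective θ₃ := (MulAut.conj c₃).injective.comp hi₂
  have h3 : (emb Q R hdiv ι).range ≤ θ₃.range := by
    refine standard_of_pos Q R hdiv ι θ₃ hi₃ (fun u hu => conj_of_fix Q (hc₃ ▸ H_inf m _) (hc₂ u hu)) ht₀ (l := l) ?_
      (γ := ((Units.mk0 α hα)⁻¹ : Fˣ) ^ (2 ^ (m + 1) + 1) * β) (uu_mem R 1 0) ?_
    · show c₃ * θ₂ (hI R t₀) * c₃⁻¹ = _
      rw [show θ₂ (hI R t₀) = hI Q l from hl, hc₃]
      show hHom Q _ * hHom Q l * (hHom Q _)⁻¹ = hHom Q l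
      rw [← map_mul, mul_comm, map_mul, mul_inv_cancel_right]
    · show c₃ * θ₂ (uu R 1 0) * c₃⁻¹ = _
      rw [hαβ, hc₃, hI_conj]
      congr 1
      simp [hα]
  refine ⟨c₃ * c₂ * c₁, ?_⟩
  have e : θ₃.range = θ.range.map (MulAut.conj (c₃ * c₂ * c₁)).toMonoidHom := by
    rw [MonoidHom.map_range]
    congr 1
    refine MonoidHom.ext fun g => ?_
    show c₃ * (c₂ * (c₁ * θ g * c₁⁻¹) * c₂⁻¹) * c₃⁻¹ = (c₃ * c₂ * c₁) * θ g * (c₃ * c₂ * c₁)⁻¹
    group
  rw [← e]
  refine (Subgroup.eq_of_le_of_card_ge h3 ?_).symm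
  rw [Nat.card_congr (MonoidHom.ofInjective (emb_injective Q R hdiv ι)).symm.toEquiv,
    Nat.card_congr (MonoidHom.ofInjective hi₃).symm.toEquiv]

omit ι

/-- Subfield subgroups exist and are conjugate. -/
theorem subfield_subgroups :
    (∃ S : Subgroup SF, Nonempty (↥S ≃* SK)) ∧
      ∀ S₁ S₂ : Subgroup SF, Nonempty (↥S₁ ≃* SK) → Nonempty (↥S₂ ≃* SK) →
        ∃ g : SF, S₂ = S₁.map (MulAut.conj g).toMonoidHom := by
  obtain ⟨ι⟩ := exists_embedding Q R hdiv
  refine ⟨⟨(emb Q R hdiv ι).range, ⟨(MonoidHom.ofInjective (emb_injective Q R hdiv ι)).symm⟩⟩, ?_⟩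
  have key : ∀ S : Subgroup SF, Nonempty (↥S ≃* SK) → ∃ c : SF,
      S.map (MulAut.conj c).toMonoidHom = (emb Q R hdiv ι).range := by
    rintro S ⟨e⟩
    obtain ⟨c, hc⟩ := exists_conj_standard Q R hdiv ι (S.subtype.comp e.symm.toMonoidHom)
      (Subtype.coe_injective.comp e.symm.injective)
    refine ⟨c, ?_⟩
    rwa [MonoidHom.range_comp, MonoidHom.range_eq_top.2 e.symm.surjective, ← MonoidHom.range_eq_map,
      Subgroup.range_subtype] at hc
  intro S₁ S₂ h₁ h₂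
  obtain ⟨c, hc⟩ := key S₁ h₁
  obtain ⟨d, hd⟩ := key S₂ h₂
  refine ⟨d⁻¹ * c, ?_⟩
  refine Subgroup.map_injective (f := (MulAut.conj d).toMonoidHom) (MulAut.conj d).injective ?_
  rw [hd, Subgroup.map_map, ← hc]
  congr 1
  refine MonoidHom.ext fun g => ?_
  show c * g * c⁻¹ = d * (d⁻¹ * c * g * (d⁻¹ * c)⁻¹) * d⁻¹
  group

end Cfsg.Lib.Suz
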