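import Cfsg.Agent.Suz.SolubCount
import Mathlib

/-!
Transitive actions of the Suzuki groups in which nontrivial elements fix at most two points.
-/

set_option autoImplicit false
set_option linter.unusedSectionVars false
set_option linter.style.haveILetI false

open scoped Pointwise

namespace Cfsg.Lib.Suz.Fixity

open Cfsg.Lib.Suz Cfsg.Lib.Suz.Sub Cfsg.Lib.Suz.Solub

/-- In a finite cyclic group a subgroup contains every element killed by its order. -/
theorem mem_of_cyclic {G : Type*} [Group G] [Finite G] {T H : Subgroup G} (hT : IsCyclic T) (hle : H ≤ T) {x : G}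
    (hx : x ∈ T) (hpow : x ^ Nat.card H = 1) : x ∈ H := by
  classical
  let : Fintype T := Fintype.ofFinite _
  let : Fintype (H.subgroupOf T) := Fintype.ofFinite _
  set n := Nat.card H with hn
  have hsub : (H.subgroupOf T : Set T).toFinset ⊆ Finset.univ.filter fun a : T => a ^ n = 1 := fun a ha => by
    rw [Set.mem_toFinset] at ha
    simp only [Finset.mem_filter, Finset.mem_univ, true_and]
    have h : (⟨a.1, ha⟩ : H) ^ n = 1 := pow_card_eq_one'
    exact Subtype.ext (congrArg (fun z : H => z.1) h :)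
  have hle' : (Finset.univ.filter fun a : T => a ^ n = 1).card ≤ n := IsCyclic.card_pow_eq_one_le Nat.card_pos
  have hcard : (H.subgroupOf T : Set T).toFinset.card = n := by
    rw [← Set.ncard_eq_toFinset_card', ← Nat.card_coe_set_eq, hn]
    exact Nat.card_congr (Subgroup.subgroupOfEquivOfLe hle).toEquiv
  have heq := Finset.eq_of_subset_of_card_le hsub (hle'.trans hcard.ge)
  have hm : (⟨x, hx⟩ : T) ∈ (H.subgroupOf T : Set T).toFinset := by
    rw [heq]
    simp only [Finset.mem_filter, Finset.mem_univ, true_and]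
    exact Subtype.ext hpow
  rw [Set.mem_toFinset] at hm
  exact hm

theorem two_split {a b d e : ℕ} (hd : Odd d) (he : Odd e) (h : 2 ^ a * d = 2 ^ b * e) : a = b ∧ d = e := by
  have h1 : ∀ {a b d e : ℕ}, Odd e → 2 ^ a * d = 2 ^ b * e → a ≤ b := fun {a b d e} he h => by
    have hco : (2 ^ a).Coprime e := (Nat.coprime_two_left.2 he).pow_left a
    exact (Nat.pow_dvd_pow_iff_le_right (by norm_num)).1 (hco.dvd_of_dvd_mul_right (Dvd.intro d h))
  obtain rfl := le_antisymm (h1 he h) (h1 hd h.symm)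
  exact ⟨rfl, Nat.eq_of_mul_eq_mul_left (pow_pos two_pos _) h⟩

/-- Three distinct members give a lower bound of three. -/
theorem three_le {X : Type*} [Finite X] {a b c : X} (hab : a ≠ b) (hac : a ≠ c) (hbc : b ≠ c) : 3 ≤ Nat.card X := by
  classical
  let : Fintype X := Fintype.ofFinite X
  rw [Nat.card_eq_fintype_card]
  exact Finset.two_lt_card.2 ⟨a, Finset.mem_univ _, b, Finset.mem_univ _, c, Finset.mem_univ _, hab, hac, hbc⟩

variable {F : Type*} [Field F] [Fintype F] {m : ℕ} (Q : Par F m)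

local notation "SS" => Cfsg.Sz F m
local notation "inf∞" => Cfsg.suzukiPointInfinity F
local notation "qq" => (2 ^ (2 * m + 1) : ℕ)

include Q

/-- The fixed point formula bound used throughout. -/
def Small (H : Subgroup ↥(Cfsg.Sz F m)) : Prop :=
  ∀ g ∈ H, g ≠ 1 → ∃ f, 1 ≤ f ∧ f ≤ 2 ∧ f * Nat.card H =
    Nat.card {z : ↥(Cfsg.Sz F m) // z ∈ H ∧ IsConj g z} * Nat.card (Subgroup.centralizer ({g} : Set ↥(Cfsg.Sz F m)))

theorem small_le {H : Subgroup SS} (hS : Small H) {g : SS} (hg : g ∈ H) (h1 : g ≠ 1) :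
    Nat.card {z : SS // z ∈ H ∧ IsConj g z} * Nat.card (Subgroup.centralizer ({g} : Set SS)) ≤ 2 * Nat.card H := by
  obtain ⟨f, -, hf2, e⟩ := hS g hg h1
  rw [← e]
  exact Nat.mul_le_mul_right _ hf2

theorem odd_case {H : Subgroup SS} (hS : Small H) (hne : H ≠ ⊥) (hodd : Odd (Nat.card H)) :
    Nat.card H = qq - 1 := by
  obtain ⟨U, hU, hUc, hle⟩ := torus_of_odd Q hne hodd fun g hg a ha => mul_mem (mul_mem hg ha) (inv_mem hg)
  obtain ⟨h8, h4r, h2r, hq, hr⟩ := num_facts Q
  have hUodd : Odd (Nat.card U) := by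
    rw [Nat.odd_iff]
    rcases hUc with h | h | h <;> rw [h] <;> omega
  have : Nontrivial U := Finite.one_lt_card_iff_nontrivial.1 (by
    rcases hUc with h | h | h <;> rw [h] <;> omega)
  obtain ⟨u, hu⟩ := exists_ne (1 : U)
  have hu1 : (u : SS) ≠ 1 := fun h => hu (Subtype.ext h)
  have hus : Semi Q (u : SS) := semi_of_odd Q hu1 (hUodd.of_dvd_nat (Subgroup.orderOf_dvd_natCard _ u.2))
  have hHT : H ≤ tor (u : SS) := fun x hx => by
    rcases eq_or_ne x 1 with rfl | hx1
    · exact one_mem _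
    refine semi_mem Q hus (semi_of_odd Q hx1 (hodd.of_dvd_nat (Subgroup.orderOf_dvd_natCard _ hx))) ?_
    refine (fam0 Q).normalizer_iff hus (mem_tor.2 ?_)
    let := hU.commGroup
    exact congrArg Subtype.val
      (mul_comm (⟨_, (Subgroup.mem_normalizer_iff.1 (hle hx) (u : SS)).1 u.2⟩ : U) u)
  obtain ⟨⟨g, hgH⟩, hg1'⟩ := Subgroup.ne_bot_iff_exists_ne_one.1 hne
  have hg1 : g ≠ 1 := fun h => hg1' (Subtype.ext h)
  have hgs : Semi Q g := ((semi_spec Q hus).2.2 g (hHT hgH) hg1).1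
  have htor : tor g = tor (u : SS) := tor_eq_of_mem Q hus (hHT hgH) hg1
  rw [← htor] at hHT
  have hconj : ∀ n ∈ nor g, n * g * n⁻¹ ∈ H := fun n hn =>
    mem_of_cyclic (semi_spec Q hgs).1 hHT ((Subgroup.mem_normalizer_iff.1 hn g).1 (hHT hgH)) (by
      rw [conj_pow, show g ^ Nat.card H = 1 from congrArg Subtype.val (pow_card_eq_one' (x := (⟨g, hgH⟩ : H))),
        mul_one, mul_inv_cancel])
  have hbound := small_le Q hS hgH hg1
  have hcle : Nat.card H ≤ Nat.card (tor g) := Subgroup.card_le_of_le hHT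
  have : Fact (Nat.Prime 2) := ⟨Nat.prime_two⟩
  have h2N : 2 ∣ Nat.card (nor g) := by
    rcases nor_card Q hgs with ⟨-, h⟩ | ⟨-, h⟩ <;> rw [h]
    · exact dvd_mul_right _ _
    · exact Dvd.dvd.mul_right (by norm_num) _
  obtain ⟨i, hi⟩ := exists_prime_orderOf_dvd_card' (G := nor g) 2 h2N
  have hi2 : orderOf (i : SS) = 2 := by rw [Subgroup.orderOf_coe]; exact hi
  have hgi := inv_tor Q hgs hi2 i.2 (mem_tor.2 (Commute.refl g))
  have hgne : g ≠ g⁻¹ := fun h => (fam0 Q).not_self_inv hgs h.symm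
  let z1 : {z : SS // z ∈ H ∧ IsConj g z} := ⟨g, hgH, IsConj.refl g⟩
  let z2 : {z : SS // z ∈ H ∧ IsConj g z} := ⟨g⁻¹, inv_mem hgH, isConj_iff.2 ⟨_, hgi⟩⟩
  have hz12 : z1 ≠ z2 := fun h => hgne (congrArg Subtype.val h)
  rcases nor_card Q hgs with ⟨hT, -⟩ | ⟨-, hN⟩
  · have hn : 2 ≤ Nat.card {z : SS // z ∈ H ∧ IsConj g z} :=
      Finite.one_lt_card_iff_nontrivial.2 ⟨⟨z1, z2, hz12⟩⟩
    have h1 : 2 * Nat.card (tor g) ≤ 2 * Nat.card H := (Nat.mul_le_mul_right _ hn).trans hbound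
    omega
  · exfalso
    obtain ⟨t, ht, ht4⟩ := four_elt Q hgs hN
    have ht2 : orderOf (t ^ 2) = 2 := by rw [orderOf_pow, ht4]; norm_num
    have hinv := inv_tor Q hgs ht2 (pow_mem ht 2) (mem_tor.2 (Commute.refl g))
    have htt : ∀ y, t * g * t⁻¹ = y → t * y * t⁻¹ = g⁻¹ := fun y hy => by
      rw [← hy, ← hinv, pow_two]; group
    let z3 : {z : SS // z ∈ H ∧ IsConj g z} := ⟨t * g * t⁻¹, hconj t ht, isConj_iff.2 ⟨t, rfl⟩⟩
    have h13 : z1 ≠ z3 := fun h => by
      have e : t * g * t⁻¹ = g := (congrArg Subtype.val h).symm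
      exact hgne (e.symm.trans (htt g e))
    have h23 : z2 ≠ z3 := fun h => by
      have e : t * g * t⁻¹ = g⁻¹ := (congrArg Subtype.val h).symm
      have e2 := htt _ e
      rw [show t * g⁻¹ * t⁻¹ = (t * g * t⁻¹)⁻¹ by group, e, inv_inv] at e2
      exact hgne e2
    have h3 := three_le hz12 h13 h23
    have h1 : 3 * Nat.card (tor g) ≤ 2 * Nat.card H := (Nat.mul_le_mul_right _ h3).trans hbound
    have : 0 < Nat.card (tor g) := Nat.card_pos
    omega

theorem torus_case {H : Subgroup SS} (hS : Small H) {g i : SS} (hg : Semi Q g) (hle : H ≤ nor g)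
    (hi : orderOf i = 2) (hiH : i ∈ H) : False := by
  obtain ⟨h8, h4r, h2r, hq, hr⟩ := num_facts Q
  have hi1 : i ≠ 1 := fun h => by rw [h, orderOf_one] at hi; norm_num at hi
  have hb := small_le Q hS hiH hi1
  rw [cent_two Q hi] at hb
  let f : H →* nor g := Subgroup.inclusion hle
  let K : Subgroup H := (torIn g).comap f
  have hK : K.index ∣ (torIn g).index := by
    rw [Subgroup.index_comap]
    exact Subgroup.relIndex_dvd_index_of_normal _ _
  have h4 : K.index ≤ 4 := by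
    rcases index_torIn Q hg with e | e <;> rw [e] at hK <;> have := Nat.le_of_dvd (by norm_num) hK <;> omega
  have hn : Nat.card K ≤ Nat.card {z : SS // z ∈ H ∧ IsConj i z} := by
    let φ : K → {z : SS // z ∈ H ∧ IsConj i z} := fun v => ⟨i * v.1.1, mul_mem hiH v.1.2, by
      have hv : v.1.1 ∈ tor g := v.2
      refine (invol_conj Q hi).symm.trans (invol_conj Q ?_)
      refine orderOf_eq_prime ?_ fun e => ?_
      · have hii : i * i = 1 := by rw [← pow_two]; exact hi ▸ pow_orderOf_eq_one i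
        rw [pow_two, show i * v.1.1 * (i * v.1.1) = (i * v.1.1 * i⁻¹) * (i * i) * v.1.1 by group,
          inv_tor Q hg hi (hle hiH) hv, hii, mul_one, inv_mul_cancel]
      · exact (fam0 Q).not_mem_of_two hg hi (eq_inv_of_mul_eq_one_left e ▸ inv_mem hv)⟩
    exact Nat.card_le_card_of_injective φ fun a b e =>
      Subtype.ext (Subtype.ext (mul_left_cancel (congrArg Subtype.val e)))
  have hH : Nat.card H ≤ 4 * Nat.card K := by
    rw [← K.card_mul_index, mul_comm 4]
    exact Nat.mul_le_mul_left _ h4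
  have hpos : 0 < Nat.card K := Nat.card_pos
  have h1 : Nat.card K * qq ^ 2 ≤ Nat.card K * 8 :=
    ((Nat.mul_le_mul_right _ hn).trans hb).trans (by omega)
  have h2 := Nat.le_of_mul_le_mul_left h1 hpos
  nlinarith

theorem subfield_case {H : Subgroup SS} (hS : Small H) {i : SS} (hi : orderOf i = 2) (hiH : i ∈ H)
    {K : Type*} [Field K] [Fintype K] {k : ℕ} (R : Par K k) (hk : k < m) (hd : 2 * k + 1 ∣ 2 * m + 1)
    {S : Subgroup SS} (e : S ≃* Cfsg.Sz K k) (hle : H ≤ S) : False := by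
  have hi1 : i ≠ 1 := fun h => by rw [h, orderOf_one] at hi; norm_num at hi
  have hb := small_le Q hS hiH hi1
  rw [cent_two Q hi] at hb
  have hn : 1 ≤ Nat.card {z : SS // z ∈ H ∧ IsConj i z} :=
    have : Nonempty {z : SS // z ∈ H ∧ IsConj i z} := ⟨⟨i, hiH, IsConj.refl i⟩⟩
    Nat.card_pos
  have h1 : qq ^ 2 ≤ 2 * Nat.card H := by
    refine le_trans ?_ hb
    exact Nat.le_mul_of_pos_left _ hn
  have h2 : Nat.card H ≤ Nat.card (Cfsg.Sz K k) :=
    (Subgroup.card_le_of_le hle).trans (Nat.card_congr e.toEquiv).le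
  rw [card_Sz R] at h2
  obtain ⟨c, hc⟩ := hd
  have hc3 : 3 ≤ c := by
    rcases c with _ | _ | _ | c
    · omega
    · omega
    · omega
    · omega
  obtain ⟨s, hs⟩ : ∃ s, 2 ^ (2 * k + 1) = s := ⟨_, rfl⟩
  rw [hs] at h2
  have h3 : s ^ 3 ≤ qq := by
    rw [← hs, ← pow_mul, hc]
    exact Nat.pow_le_pow_right two_pos (Nat.mul_le_mul_left _ hc3)
  have hs8 : 8 ≤ s := by
    rw [← hs]
    calc 8 = 2 ^ (2 * 1 + 1) := rfl
      _ ≤ _ := Nat.pow_le_pow_right two_pos (by have := R.hm; omega)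
  have h4 : s ^ 6 ≤ qq ^ 2 := by
    calc s ^ 6 = (s ^ 3) ^ 2 := by ring
      _ ≤ qq ^ 2 := Nat.pow_le_pow_left h3 2
  have h5 : 2 * (s ^ 2 * (s ^ 2 + 1) * (s - 1)) < s ^ 6 := by
    have h6 : s ^ 2 * (s ^ 2 + 1) * (s - 1) ≤ s ^ 2 * (2 * s ^ 2) * s := by
      refine Nat.mul_le_mul (Nat.mul_le_mul_left _ ?_) (Nat.sub_le _ _)
      nlinarith
    calc 2 * (s ^ 2 * (s ^ 2 + 1) * (s - 1)) ≤ 2 * (s ^ 2 * (2 * s ^ 2) * s) := Nat.mul_le_mul_left _ h6
      _ = 4 * s ^ 5 := by ring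
      _ < s * s ^ 5 := Nat.mul_lt_mul_of_pos_right (by omega) (pow_pos (by omega) 5)
      _ = s ^ 6 := by ring
  omega

theorem borel_case {H : Subgroup SS} (hS : Small H) (hle : H ≤ stab (m := m) inf∞) {i : SS}
    (hi : orderOf i = 2) (hiH : i ∈ H) : H = stab (m := m) inf∞ := by
  classical
  obtain ⟨h8, h4r, h2r, hq, hr⟩ := num_facts Q
  have hi1 : i ≠ 1 := fun h => by rw [h, orderOf_one] at hi; norm_num at hi
  obtain ⟨f, hf1, hf2, hf⟩ := hS i hiH hi1
  rw [cent_two Q hi] at hf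
  -- the involutions
  have hn : Nat.card {z : SS // z ∈ H ∧ IsConj i z} + 1 = Nat.card (cen Q H) := by
    have e : Nat.card {z : SS // z ∈ H ∧ IsConj i z} = Nat.card {b : cen Q H // b ≠ 0} := by
      let φ : {b : cen Q H // b ≠ 0} → {z : SS // z ∈ H ∧ IsConj i z} := fun b => ⟨uu Q 0 b.1.1, b.1.2,
        (invol_conj Q hi).symm.trans (invol_conj Q (orderOf_uu_zero Q fun h => b.2 (Subtype.ext h)))⟩
      refine (Nat.card_eq_of_bijective φ ⟨fun a b e => ?_, fun z => ?_⟩).symm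
      · exact Subtype.ext (Subtype.ext (uu_inj Q (congrArg Subtype.val e)).2)
      · obtain ⟨c, hc⟩ := isConj_iff.1 z.2.2
        have hz2 : orderOf z.1 = 2 := hc ▸
          (orderOf_injective (MulAut.conj c).toMonoidHom (MulAut.conj c).injective i).trans hi
        obtain ⟨b, hb, eb⟩ := inv_at_inf Q hz2 (mem_stab.1 (hle z.2.1))
        exact ⟨⟨⟨b, show uu Q 0 b ∈ H from eb ▸ z.2.1⟩, fun h => hb (congrArg Subtype.val h)⟩, Subtype.ext eb.symm⟩
    let : Fintype (cen Q H) := Fintype.ofFinite _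
    have : 0 < Fintype.card (cen Q H) := Fintype.card_pos
    rw [e]
    simp [Nat.card_eq_fintype_card]
    omega
  -- the unipotent part
  obtain ⟨U, hUdef⟩ : ∃ U : Subgroup H, U = (uSub Q).subgroupOf H := ⟨_, rfl⟩
  have hUle : Nat.card U ≤ qq * Nat.card (cen Q H) := by
    have hex : ∀ x : U, ∃ a b, x.1.1 = uu Q a b := fun x => exists_uu Q (by
      have h := x.2
      exact Subgroup.mem_subgroupOf.1 (hUdef.le h))
    choose A B hAB using hex
    let φ : U →* Multiplicative F := MonoidHom.mk' (fun x => Multiplicative.ofAdd (A x)) fun x y => by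
      have h : (x * y).1.1 = x.1.1 * y.1.1 := rfl
      rw [hAB, hAB x, hAB y, uu_mul] at h
      rw [← ofAdd_add, (uu_inj Q h).1]
    have hker : Nat.card φ.ker ≤ Nat.card (cen Q H) := by
      let ψ : φ.ker → cen Q H := fun x => ⟨B x.1, by
        show uu Q 0 (B x.1) ∈ H
        have hA : A x.1 = 0 := Multiplicative.ofAdd.injective x.2
        rw [← hA, ← hAB]
        exact x.1.1.2⟩
      refine Nat.card_le_card_of_injective ψ fun x y e => ?_
      have hA : A x.1 = 0 := Multiplicative.ofAdd.injective x.2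
      have hA' : A y.1 = 0 := Multiplicative.ofAdd.injective y.2
      refine Subtype.ext (Subtype.ext (Subtype.ext ?_))
      rw [hAB, hAB y.1, hA, hA', show B x.1 = B y.1 from congrArg Subtype.val e]
    rw [← φ.ker.card_mul_index, Subgroup.index_ker, mul_comm qq]
    refine Nat.mul_le_mul hker ?_
    refine (Nat.card_le_card_of_injective _ Subtype.val_injective).trans ?_
    rw [Nat.card_congr Multiplicative.toAdd, Nat.card_eq_fintype_card, Q.hF]
  have hUpow : ∃ j, Nat.card U = 2 ^ j := by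
    have h : Nat.card U ∣ Nat.card (uSub Q) := by
      refine Subgroup.card_dvd_of_injective
        ((H.subtype.comp U.subtype).codRestrict _ fun x => Subgroup.mem_subgroupOf.1 (hUdef.le x.2)) fun x y e => ?_
      exact Subtype.ext (Subtype.ext (congrArg (fun z : uSub Q => z.1) e))
    rw [card_uSub Q, ← pow_mul] at h
    obtain ⟨j, -, hj⟩ := (Nat.dvd_prime_pow Nat.prime_two).1 h
    exact ⟨j, hj⟩
  have hd : U.index ∣ qq - 1 := by
    let V : Subgroup (stab (m := m) inf∞) := (uSub Q).subgroupOf (stab (m := m) inf∞)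
    have hUV : uSub Q ≤ stab (m := m) inf∞ := by
      rw [show stab (m := m) inf∞ = Subgroup.normalizer (uSub Q : Set SS) from (normalizer_uSub Q).symm]
      exact Subgroup.le_normalizer
    have : V.Normal := (Subgroup.normal_subgroupOf_iff_le_normalizer hUV).2 (normalizer_uSub Q).ge
    have hUV' : U = V.comap (Subgroup.inclusion hle) := hUdef
    have hidx : V.index = qq - 1 := by
      have h := V.card_mul_index
      rw [Nat.card_congr (Subgroup.subgroupOfEquivOfLe hUV).toEquiv, card_uSub, stab_inf_card Q] at h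
      exact Nat.eq_of_mul_eq_mul_left (by positivity) h
    rw [hUV', Subgroup.index_comap, ← hidx]
    exact Subgroup.relIndex_dvd_index_of_normal _ _
  have hdodd : Odd U.index := Odd.of_dvd_nat (by rw [Nat.odd_iff]; omega) hd
  obtain ⟨j, hj⟩ := hUpow
  obtain ⟨e, -, he⟩ : ∃ e, e ≤ 2 * m + 1 ∧ Nat.card (cen Q H) = 2 ^ e := by
    have hdd : Nat.card (cen Q H) ∣ qq := by
      have := AddSubgroup.card_addSubgroup_dvd_card (cen Q H)
      rwa [Nat.card_eq_fintype_card (α := F), Q.hF] at this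
    exact (Nat.dvd_prime_pow Nat.prime_two).1 hdd
  have he1 : e ≠ 0 := fun h => by
    rw [h, pow_zero] at he
    have : 0 < Nat.card {z : SS // z ∈ H ∧ IsConj i z} :=
      have : Nonempty {z : SS // z ∈ H ∧ IsConj i z} := ⟨⟨i, hiH, IsConj.refl i⟩⟩
      Nat.card_pos
    omega
  obtain ⟨n, hn'⟩ : ∃ n, n = Nat.card {z : SS // z ∈ H ∧ IsConj i z} := ⟨_, rfl⟩
  rw [← hn', he] at hn
  rw [← hn'] at hf
  have hnodd : Odd n := by
    rw [Nat.odd_iff]
    have : 2 ∣ 2 ^ e := dvd_pow_self 2 he1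
    omega
  rw [← U.card_mul_index, hj] at hf
  have hsq : qq ^ 2 = 2 ^ (4 * m + 2) := by rw [← pow_mul]; ring_nf
  obtain ⟨g, hg, hgv⟩ : ∃ g, g ≤ 1 ∧ f = 2 ^ g := by
    rcases (show f = 1 ∨ f = 2 by omega) with rfl | rfl
    · exact ⟨0, zero_le_one, rfl⟩
    · exact ⟨1, le_rfl, rfl⟩
  obtain ⟨hexp, hdn⟩ := two_split (a := g + j) (b := 4 * m + 2) hdodd hnodd (by
    rw [← hsq, pow_add, mul_comm (qq ^ 2), mul_assoc, ← hgv]; exact hf)
  rw [hj, he] at hUle
  have hje : j ≤ 2 * m + 1 + e := by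
    rw [← pow_add] at hUle
    exact (Nat.pow_le_pow_iff_right (by norm_num)).1 hUle
  have hez : e = 2 * m + 1 := by
    have hd' : 2 ^ e - 1 ∣ qq - 1 := by
      have h1 : 2 ^ e - 1 = n := by omega
      rw [h1, ← hdn]; exact hd
    have h2 := Nat.pow_sub_one_gcd_pow_sub_one 2 e (2 * m + 1)
    rw [Nat.gcd_eq_left hd'] at h2
    have hp1 : 1 ≤ 2 ^ e := Nat.one_le_two_pow
    have hp2 : 1 ≤ 2 ^ Nat.gcd e (2 * m + 1) := Nat.one_le_two_pow
    have h3 : e = Nat.gcd e (2 * m + 1) :=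
      Nat.pow_right_injective le_rfl (show 2 ^ e = 2 ^ Nat.gcd e (2 * m + 1) by omega)
    obtain ⟨c, hc⟩ : e ∣ 2 * m + 1 := h3 ▸ Nat.gcd_dvd_right _ _
    rcases c with _ | _ | c
    · omega
    · omega
    · exfalso
      have h5 : e * 2 ≤ e * (c + 1 + 1) := Nat.mul_le_mul_left _ (by omega)
      have := Q.hm
      omega
  have hfull : ∀ b, uu Q 0 b ∈ H := fun b => by
    have htop : cen Q H = ⊤ := by
      refine AddSubgroup.eq_top_of_card_eq _ ?_
      rw [he, hez, Nat.card_eq_fintype_card, Q.hF]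
    show b ∈ cen Q H
    rw [htop]; trivial
  have hdq : U.index = qq - 1 := by
    rw [hdn]
    rw [hez] at hn
    omega
  have hcard : Nat.card H * f = qq ^ 2 * (qq - 1) := by
    rw [← U.card_mul_index, hj, hdq, mul_comm, hgv, ← mul_assoc, ← pow_add, hexp, ← hsq]
  by_contra hne
  have hidx : (H.subgroupOf (stab (m := m) inf∞)).index = f := by
    have h := (H.subgroupOf (stab (m := m) inf∞)).card_mul_index
    rw [Nat.card_congr (Subgroup.subgroupOfEquivOfLe hle).toEquiv, stab_inf_card Q, ← hcard] at h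
    exact Nat.eq_of_mul_eq_mul_left Nat.card_pos h
  have hf2' : f = 2 := by
    by_contra hf'
    refine hne (le_antisymm hle (Subgroup.subgroupOf_eq_top.1 (Subgroup.index_eq_one.1 ?_)))
    omega
  rw [hf2'] at hidx
  have hcomm : ∀ x y : stab (m := m) inf∞, x * y * (x⁻¹ * y⁻¹) ∈ H.subgroupOf (stab (m := m) inf∞) := fun x y => by
    rw [Subgroup.mul_mem_iff_of_index_two hidx, Subgroup.mul_mem_iff_of_index_two hidx,
      Subgroup.mul_mem_iff_of_index_two hidx, Subgroup.inv_mem_iff, Subgroup.inv_mem_iff]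
  obtain ⟨l, hl⟩ := exists_unit_ne_one Q
  have hl' : (l : F) + 1 ≠ 0 := fun h => hl (Units.ext ((eq_neg_of_add_eq_zero_left h).trans (neg_eq Q 1)))
  have hall : ∀ a b, uu Q a b ∈ H := by
    intro a b
    obtain ⟨a', rfl⟩ : ∃ a', ((l : F) + 1) * a' = a := ⟨a / ((l : F) + 1), mul_div_cancel₀ a hl'⟩
    have hx : hI Q l ∈ stab (m := m) inf∞ := mem_stab.2 (H_inf m l)
    have hy : uu Q a' 0 ∈ stab (m := m) inf∞ := mem_stab.2 (T_inf m a' 0)
    have h := Subgroup.mem_subgroupOf.1 (hcomm ⟨_, hx⟩ ⟨_, hy⟩)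
    have h' : hI Q l * uu Q a' 0 * (hI Q l)⁻¹ * (uu Q a' 0)⁻¹ ∈ H := by
      simpa [mul_assoc] using h
    rw [hI_conj] at h'
    obtain ⟨b', hb'⟩ : ∃ b', uu Q ((l : F) * a') ((l : F) ^ (2 ^ (m + 1) + 1) * 0) * (uu Q a' 0)⁻¹ =
        uu Q (((l : F) + 1) * a') b' := by
      have e : (uu Q a' 0)⁻¹ = uu Q a' (a' ^ (2 ^ (m + 1) + 1)) := Subtype.ext (by
        show (T m a' 0)⁻¹ = _
        rw [T_inv Q, zero_add]; rfl)
      rw [e, uu_mul, add_mul, one_mul]
      exact ⟨_, rfl⟩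
    rw [hb'] at h'
    have h2 := mul_mem h' (hfull (b - b'))
    rwa [uu_mul, add_zero, mul_zero, add_zero, add_sub_cancel] at h2
  have hu : qq ^ 2 ≤ Nat.card U := by
    rw [← card_uSub Q]
    let φ : uSub Q → U := fun x => ⟨⟨x.1, by obtain ⟨a, b, e⟩ := exists_uu Q x.2; rw [e]; exact hall a b⟩,
      hUdef.ge (Subgroup.mem_subgroupOf.2 x.2)⟩
    exact Nat.card_le_card_of_injective φ fun x y e => Subtype.ext (congrArg (fun z : U => z.1.1) e)
  rw [hj, hsq] at hu
  have := (Nat.pow_le_pow_iff_right (by norm_num)).1 hu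
  have hg0 : g = 1 := Nat.pow_right_injective le_rfl (hgv.symm.trans hf2')
  omega

/-- The classification of the actions. -/
theorem main {Ω : Type*} [Fintype Ω] [MulAction SS Ω] (htr : MulAction.IsPretransitive SS Ω)
    (hfix : ∀ g : SS, g ≠ 1 → Nat.card (MulAction.fixedBy Ω g) ≤ 2)
    (hex : ∃ g : SS, g ≠ 1 ∧ Nat.card (MulAction.fixedBy Ω g) = 2) :
    (Fintype.card Ω = Fintype.card F ^ 2 + 1 ∧ MulAction.IsMultiplyPretransitive SS Ω 2) ∨
    (Fintype.card Ω = Fintype.card F ^ 2 * (Fintype.card F ^ 2 + 1) ∧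
      ∀ α : Ω, Nat.card (MulAction.stabilizer SS α) = Fintype.card F - 1) := by
  classical
  have horb : ∀ α : Ω, Nat.card Ω * Nat.card (MulAction.stabilizer SS α) = Nat.card SS := fun α => by
    rw [← MulAction.index_stabilizer_of_transitive SS α, mul_comm, Subgroup.card_mul_index]
  have hsmall : ∀ α : Ω, Small (MulAction.stabilizer SS α) := by
    intro α g hg hg1
    refine ⟨Nat.card (MulAction.fixedBy Ω g), ?_, hfix g hg1, ?_⟩
    · have : Nonempty (MulAction.fixedBy Ω g) := ⟨⟨α, hg⟩⟩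
      exact Nat.card_pos
    rw [← fibre_count (MulAction.stabilizer SS α) g]
    congr 1
    let φ : {q : SS ⧸ MulAction.stabilizer SS α // q.out⁻¹ * g * q.out ∈ MulAction.stabilizer SS α} →
        MulAction.fixedBy Ω g := fun q => ⟨q.1.out • α, by
      have h : (q.1.out⁻¹ * g * q.1.out) • α = α := q.2
      rw [mul_smul, mul_smul, inv_smul_eq_iff] at h
      exact h⟩
    refine (Nat.card_eq_of_bijective φ ⟨fun a b e => ?_, fun w => ?_⟩).symm
    · have e' : a.1.out • α = b.1.out • α := congrArg Subtype.val e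
      refine Subtype.ext ?_
      rw [← QuotientGroup.out_eq' a.1, ← QuotientGroup.out_eq' b.1, QuotientGroup.eq]
      show (a.1.out⁻¹ * b.1.out) • α = α
      rw [mul_smul, inv_smul_eq_iff, e']
    · obtain ⟨c, hc⟩ := htr.exists_smul_eq α w.1
      obtain ⟨n, hn⟩ := QuotientGroup.mk_out_eq_mul (MulAction.stabilizer SS α) c
      have hout : (QuotientGroup.mk c : SS ⧸ MulAction.stabilizer SS α).out • α = w.1 := by
        rw [hn, mul_smul, show (n : SS) • α = α from n.2, hc]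
      have hw : g • w.1 = w.1 := w.2
      refine ⟨⟨QuotientGroup.mk c, ?_⟩, Subtype.ext hout⟩
      show ((QuotientGroup.mk c : SS ⧸ MulAction.stabilizer SS α).out⁻¹ * g * _) • α = α
      rw [mul_smul, mul_smul, hout, hw, inv_smul_eq_iff, hout]
  obtain ⟨g, hg1, hg2⟩ := hex
  obtain ⟨⟨α, hα⟩⟩ : Nonempty (MulAction.fixedBy Ω g) := (Nat.card_pos_iff.1 (by rw [hg2]; norm_num)).1
  have hne : MulAction.stabilizer SS α ≠ ⊥ := fun h => hg1 (by
    have : g ∈ MulAction.stabilizer SS α := hα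
    rwa [h, Subgroup.mem_bot] at this)
  have hsz := card_Sz Q
  rw [← Q.hF] at hsz
  have h8 : 8 ≤ Fintype.card F := Q.hF ▸ (num_facts Q).1
  by_cases hodd : Odd (Nat.card (MulAction.stabilizer SS α))
  · right
    have hH := odd_case Q (hsmall α) hne hodd
    rw [← Q.hF] at hH
    have h := horb α
    rw [hH, hsz] at h
    rw [← Nat.card_eq_fintype_card (α := Ω)]
    have hcard := Nat.eq_of_mul_eq_mul_right (show 0 < Fintype.card F - 1 by omega) h
    refine ⟨hcard, fun β => ?_⟩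
    have h' := horb β
    rw [hsz, hcard] at h'
    exact Nat.eq_of_mul_eq_mul_left (by positivity) h'
  left
  have : Fact (Nat.Prime 2) := ⟨Nat.prime_two⟩
  rw [Nat.not_odd_iff_even, even_iff_two_dvd] at hodd
  obtain ⟨i, hi⟩ := exists_prime_orderOf_dvd_card' (G := MulAction.stabilizer SS α) 2 hodd
  have hi2 : orderOf (i : SS) = 2 := by rw [Subgroup.orderOf_coe]; exact hi
  have hproper : MulAction.stabilizer SS α ≠ ⊤ := by
    intro htop
    have h := horb α
    rw [htop, Subgroup.card_top] at h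
    have h1 : Nat.card Ω = 1 := Nat.eq_of_mul_eq_mul_right Nat.card_pos (h.trans (one_mul _).symm)
    have h2 := Nat.card_le_card_of_injective (Subtype.val : MulAction.fixedBy Ω g → Ω) Subtype.val_injective
    have h3 : 2 ≤ Nat.card Ω := hg2.symm.le.trans h2
    omega
  rcases Cfsg.Agent.S2251.result Q.hm Q.hF _ hproper with ⟨P, hP⟩ | ⟨U, hU, hUc, hU'⟩ |
    ⟨K, _, _, k, hk1, hk, hK, hd, S, ⟨e⟩, hS⟩
  swap
  · exfalso
    obtain ⟨h8', h4r, h2r, hq, hr⟩ := num_facts Q
    have hUodd : Odd (Nat.card U) := by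
      rw [Nat.odd_iff]
      rcases hUc with h | h | h <;> rw [h] <;> omega
    have : Nontrivial U := Finite.one_lt_card_iff_nontrivial.1 (by
      rcases hUc with h | h | h <;> rw [h] <;> omega)
    obtain ⟨u, hu⟩ := exists_ne (1 : U)
    have hu1 : (u : SS) ≠ 1 := fun h => hu (Subtype.ext h)
    have hus : Semi Q (u : SS) := semi_of_odd Q hu1 (hUodd.of_dvd_nat (Subgroup.orderOf_dvd_natCard _ u.2))
    refine torus_case Q (hsmall α) hus (fun x hx => (fam0 Q).normalizer_iff hus (mem_tor.2 ?_)) hi2 i.2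
    let := hU.commGroup
    exact congrArg Subtype.val
      (mul_comm (⟨_, (Subgroup.mem_normalizer_iff.1 (hU' hx) (u : SS)).1 u.2⟩ : U) u)
  swap
  · exact (subfield_case Q (hsmall α) hi2 i.2 ⟨hk1, hK⟩ hk hd e hS).elim
  -- inside a Borel subgroup
  obtain ⟨c, hc⟩ := exists_conj Q P
  obtain ⟨β, hβ⟩ : ∃ β, c • α = β := ⟨_, rfl⟩
  have hconj : ∀ x, x ∈ MulAction.stabilizer SS β ↔ c⁻¹ * x * c ∈ MulAction.stabilizer SS α := fun x => by
    show x • β = β ↔ (c⁻¹ * x * c) • α = α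
    rw [← hβ, mul_smul, mul_smul, inv_smul_eq_iff]
  have hleB : MulAction.stabilizer SS β ≤ stab (m := m) inf∞ := fun x hx => by
    have h := hP ((hconj x).1 hx)
    rw [show stab (m := m) inf∞ = Subgroup.normalizer (uSub Q : Set SS) from (normalizer_uSub Q).symm]
    rw [Subgroup.mem_normalizer_iff] at h ⊢
    intro u
    have := h (c⁻¹ * u * c)
    rw [hc, hc] at this
    simpa [mul_assoc] using this
  have hiβ : c * i * c⁻¹ ∈ MulAction.stabilizer SS β := (hconj _).2 (by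
    rw [show c⁻¹ * (c * i * c⁻¹) * c = (i : SS) by group]; exact i.2)
  have hH := borel_case Q (hsmall β) hleB
    ((orderOf_injective (MulAut.conj c).toMonoidHom (MulAut.conj c).injective (i : SS)).trans hi2) hiβ
  have hcard : Nat.card Ω = Fintype.card F ^ 2 + 1 := by
    have h := horb β
    rw [hH, stab_inf_card Q, hsz, ← Q.hF, mul_comm (Fintype.card F ^ 2) (Fintype.card F ^ 2 + 1), mul_assoc] at h
    exact Nat.eq_of_mul_eq_mul_right (Nat.mul_pos (by positivity) (by omega)) h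
  refine ⟨by rw [← Nat.card_eq_fintype_card, hcard], ?_⟩
  rw [MulAction.is_two_pretransitive_iff]
  intro a b c' d hab hcd
  choose r hr using fun w => htr.exists_smul_eq β w
  have hinj : ∀ {w w'}, w ≠ w' → (r w).1 • inf∞ ≠ (r w').1 • inf∞ := fun {w w'} hne' h => by
    have h1 : ((r w')⁻¹ * r w) ∈ MulAction.stabilizer SS β := by
      rw [hH, mem_stab, Subgroup.coe_mul, Subgroup.coe_inv, mul_smul, h, inv_smul_smul]
    have h2 : ((r w')⁻¹ * r w) • β = β := h1
    rw [mul_smul, hr, inv_smul_eq_iff, hr] at h2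
    exact hne' h2
  obtain ⟨x, hx, x1, x2⟩ := to_inf_zero Q (smul_ovoid Q (r a).2 (inf_mem m)) (smul_ovoid Q (r b).2 (inf_mem m))
    (hinj hab)
  obtain ⟨y, hy, y1, y2⟩ := to_inf_zero Q (smul_ovoid Q (r c').2 (inf_mem m)) (smul_ovoid Q (r d).2 (inf_mem m))
    (hinj hcd)
  obtain ⟨z, hz⟩ : ∃ z : SS, z.1 = y⁻¹ * x := ⟨⟨_, mul_mem (inv_mem hy) hx⟩, rfl⟩
  have key : ∀ w w', z.1 • (r w).1 • inf∞ = (r w').1 • inf∞ → z • w = w' := fun w w' h => by
    have h1 : ((r w')⁻¹ * z * r w) ∈ MulAction.stabilizer SS β := by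
      rw [hH, mem_stab, Subgroup.coe_mul, Subgroup.coe_mul, Subgroup.coe_inv, mul_smul, mul_smul, h, inv_smul_smul]
    have h2 : ((r w')⁻¹ * z * r w) • β = β := h1
    rw [mul_smul, mul_smul, hr, inv_smul_eq_iff, hr] at h2
    exact h2
  refine ⟨z, key a c' ?_, key b d ?_⟩
  · rw [hz, mul_smul, x1, inv_smul_eq_iff, y1]
  · rw [hz, mul_smul, x2, inv_smul_eq_iff, y2]

end Cfsg.Lib.Suz.Fixity
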