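import Cfsg.Agent.Suz.Sub.Count
import Cfsg.Agent.S2251
import Mathlib

/-!
The soluble maximal subgroups of a Suzuki group of prime exponent: point stabilisers and torus normalisers.
-/

set_option autoImplicit false
set_option linter.unusedSectionVars false
set_option linter.style.haveILetI false

open scoped Pointwise

namespace Cfsg.Lib.Suz.Solub

open Cfsg.Lib.Suz Cfsg.Lib.Suz.Sub

/-- A group of order two or four is commutative. -/
theorem comm_of_card {G : Type*} [Group G] (h : Nat.card G = 2 ∨ Nat.card G = 4) (a b : G) : a * b = b * a := by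
  have : Fact (Nat.Prime 2) := ⟨Nat.prime_two⟩
  rcases h with h | h
  · have : IsCyclic G := isCyclic_of_prime_card h
    let := IsCyclic.commGroup (α := G)
    exact mul_comm a b
  · exact IsPGroup.commutative_of_card_eq_prime_sq (p := 2) (by rw [h]; norm_num) a b

/-- Counting conjugates of an element inside a subgroup. -/
theorem fibre_count {G : Type*} [Group G] [Finite G] (N : Subgroup G) (x : G) :
    Nat.card {q : G ⧸ N // q.out⁻¹ * x * q.out ∈ N} * Nat.card N =
      Nat.card {z : G // z ∈ N ∧ IsConj x z} * Nat.card (Subgroup.centralizer ({x} : Set G)) := by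
  classical
  have hshift : ∀ c : G, ∀ n ∈ N, (c * n)⁻¹ * x * (c * n) ∈ N ↔ c⁻¹ * x * c ∈ N := fun c n hn => by
    rw [show (c * n)⁻¹ * x * (c * n) = n⁻¹ * (c⁻¹ * x * c) * n by group, Subgroup.mul_mem_cancel_right _ hn,
      Subgroup.mul_mem_cancel_left _ (inv_mem hn)]
  have h1 : Nat.card {q : G ⧸ N // q.out⁻¹ * x * q.out ∈ N} * Nat.card N = Nat.card {c : G // c⁻¹ * x * c ∈ N} := by
    rw [← Nat.card_prod]
    let f : {q : G ⧸ N // q.out⁻¹ * x * q.out ∈ N} × N → {c : G // c⁻¹ * x * c ∈ N} := fun z =>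
      ⟨z.1.1.out * z.2.1, (hshift _ _ z.2.2).2 z.1.2⟩
    refine Nat.card_eq_of_bijective f ⟨fun ⟨q, n⟩ ⟨q', n'⟩ e => ?_, fun c => ?_⟩
    · have e' : q.1.out * n.1 = q'.1.out * n'.1 := congrArg Subtype.val e
      have hq : q = q' := Subtype.ext (by
        rw [← QuotientGroup.out_eq' q.1, ← QuotientGroup.out_eq' q'.1, QuotientGroup.eq,
          show q.1.out⁻¹ * q'.1.out = n.1 * n'.1⁻¹ by
            rw [eq_mul_inv_iff_mul_eq, mul_assoc, inv_mul_eq_iff_eq_mul]; exact e'.symm]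
        exact mul_mem n.2 (inv_mem n'.2))
      subst hq
      exact Prod.ext rfl (Subtype.ext (mul_left_cancel e'))
    · obtain ⟨n, hn⟩ := QuotientGroup.mk_out_eq_mul N c.1
      refine ⟨(⟨QuotientGroup.mk c.1, ?_⟩, ⟨n.1⁻¹, inv_mem n.2⟩), Subtype.ext ?_⟩
      · rw [hn, hshift _ _ n.2]; exact c.2
      · show (QuotientGroup.mk c.1 : G ⧸ N).out * n.1⁻¹ = c.1
        rw [hn, mul_inv_cancel_right]
  rw [h1, ← Nat.card_prod]
  choose cz hcz using fun z : {z : G // z ∈ N ∧ IsConj x z} => isConj_iff.1 z.2.2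
  let f : {z : G // z ∈ N ∧ IsConj x z} × Subgroup.centralizer ({x} : Set G) → {c : G // c⁻¹ * x * c ∈ N} := fun z =>
    ⟨z.2.1 * (cz z.1)⁻¹, by
      rw [show (z.2.1 * (cz z.1)⁻¹)⁻¹ * x * (z.2.1 * (cz z.1)⁻¹) =
        cz z.1 * (z.2.1⁻¹ * (x * z.2.1)) * (cz z.1)⁻¹ by group,
        ← (mem_cent.1 z.2.2).eq, inv_mul_cancel_left, hcz]
      exact z.1.2.1⟩
  refine (Nat.card_eq_of_bijective f ⟨fun ⟨z, u⟩ ⟨z', u'⟩ e => ?_, fun c => ?_⟩).symm
  · have e' : u.1 * (cz z)⁻¹ = u'.1 * (cz z')⁻¹ := congrArg Subtype.val e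
    have hz : z = z' := Subtype.ext (by
      have h := congrArg (fun c => c⁻¹ * x * c) e'
      simp only [mul_inv_rev, inv_inv] at h
      have hu : ∀ (w : Subgroup.centralizer ({x} : Set G)) (c : G), c * w.1⁻¹ * x * (w.1 * c⁻¹) = c * x * c⁻¹ :=
        fun w c => by
          rw [show c * w.1⁻¹ * x * (w.1 * c⁻¹) = c * (w.1⁻¹ * (x * w.1)) * c⁻¹ by group,
            ← (mem_cent.1 w.2).eq, inv_mul_cancel_left]
      rw [hu, hu, hcz, hcz] at h
      exact h)
    subst hz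
    exact Prod.ext rfl (Subtype.ext (mul_right_cancel e'))
  · obtain ⟨z, hz⟩ : ∃ z : {z : G // z ∈ N ∧ IsConj x z}, z.1 = c.1⁻¹ * x * c.1 :=
      ⟨⟨_, c.2, isConj_iff.2 ⟨c.1⁻¹, by group⟩⟩, rfl⟩
    refine ⟨(z, ⟨c.1 * cz z, mem_cent.2 ?_⟩), Subtype.ext (mul_inv_cancel_right _ _)⟩
    have h := (hcz z).trans hz
    show _ = _
    calc c.1 * cz z * x = c.1 * (cz z * x * (cz z)⁻¹) * cz z := by group
      _ = x * (c.1 * cz z) := by rw [h]; group

variable {F : Type*} [Field F] [Fintype F] {m : ℕ} (Q : Par F m)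

local notation "SS" => Cfsg.Sz F m
local notation "inf∞" => Cfsg.suzukiPointInfinity F
local notation "qq" => (2 ^ (2 * m + 1) : ℕ)
local notation "rr" => (2 ^ (m + 1) : ℕ)

/-- The point stabiliser. -/
abbrev stab (p : Projectivization F (Fin 4 → F)) : Subgroup ↥(Cfsg.Sz F m) :=
  MulAction.stabilizer ↥(Cfsg.Sz F m) p

/-- The torus normaliser. -/
abbrev nor (g : Cfsg.Sz F m) : Subgroup ↥(Cfsg.Sz F m) := Subgroup.normalizer (tor g : Set ↥(Cfsg.Sz F m))

include Q

theorem num_facts : 8 ≤ qq ∧ 4 ≤ rr ∧ 2 * rr ≤ qq ∧ qq % 2 = 0 ∧ rr % 2 = 0 := by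
  refine ⟨?_, (exp_lt Q).2, ?_, ?_, ?_⟩
  · calc 8 = 2 ^ (2 * 1 + 1) := rfl
      _ ≤ qq := Nat.pow_le_pow_right two_pos (by have := Q.hm; omega)
  · rw [← pow_succ']; exact Nat.pow_le_pow_right two_pos (by have := Q.hm; omega)
  · rw [pow_succ]; omega
  · rw [pow_succ]; omega

theorem rr_sq : rr * rr = 2 * qq := by rw [← pow_add, ← pow_succ']; ring_nf

/-- The three torus orders are pairwise coprime. -/
theorem coprime_tori : Nat.Coprime (qq - 1) (qq + rr + 1) ∧ Nat.Coprime (qq - 1) (qq - rr + 1) ∧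
    Nat.Coprime (qq + rr + 1) (qq - rr + 1) := by
  obtain ⟨h8, h4, h2, hq, hr⟩ := num_facts Q
  have hprod : (qq + rr + 1) * (qq - rr + 1) = qq ^ 2 + 1 := by
    obtain ⟨d, hd⟩ : ∃ d, qq = rr + d := ⟨qq - rr, by omega⟩
    have hs := rr_sq Q
    rw [hd] at hs ⊢
    rw [Nat.add_sub_cancel_left]
    nlinarith
  have hc : Nat.Coprime (qq - 1) (qq ^ 2 + 1) := by
    refine Nat.coprime_of_dvd fun p hp h1 h2' => ?_
    have h3 : p ∣ qq ^ 2 - 1 := h1.trans (by
      have h := Nat.sub_dvd_pow_sub_pow qq 1 2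
      rwa [one_pow] at h)
    have h5 : p ∣ 2 := by
      have := Nat.dvd_sub h2' h3
      rwa [show qq ^ 2 + 1 - (qq ^ 2 - 1) = 2 by
        have : 1 ≤ qq ^ 2 := Nat.one_le_pow _ _ (by omega)
        omega] at this
    obtain rfl := (Nat.prime_dvd_prime_iff_eq hp Nat.prime_two).1 h5
    omega
  rw [← hprod] at hc
  refine ⟨hc.coprime_mul_right_right, hc.coprime_mul_left_right, Nat.coprime_of_dvd fun p hp h1 h2' => ?_⟩
  have h3 : p ∣ 2 ^ (m + 2) := by
    have := Nat.dvd_sub h1 h2'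
    rwa [show qq + rr + 1 - (qq - rr + 1) = 2 ^ (m + 2) by rw [pow_succ _ (m + 1)]; omega] at this
  obtain rfl := (Nat.prime_dvd_prime_iff_eq hp Nat.prime_two).1 (hp.dvd_of_dvd_pow h3)
  omega

theorem fam0 : TIFamily (Semi Q) where
  conj c _ h := h.conj Q c
  ne_one _ h := h.ne_one Q
  ti _ h x hx hx1 := (semi_spec Q h).2.2 x hx hx1
  odd _ h := (semi_spec Q h).2.1

theorem semi_of_not_four {x : SS} (h : x ^ 4 ≠ 1) : Semi Q x := fun c hc => by
  obtain ⟨a, b, e⟩ := exists_uu Q hc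
  have h4 : (c * x * c⁻¹) ^ 4 = 1 := by rw [e, uu_four]
  rw [conj_pow, mul_inv_eq_one, mul_eq_left] at h4
  exact h h4

theorem semi_of_odd {x : SS} (h1 : x ≠ 1) (ho : Odd (orderOf x)) : Semi Q x := by
  refine semi_of_not_four Q fun h => h1 ?_
  obtain ⟨j, -, hj⟩ := (Nat.dvd_prime_pow Nat.prime_two).1 (orderOf_dvd_of_pow_eq_one (n := 2 ^ 2) h)
  rcases Nat.eq_zero_or_pos j with hj0 | hj0
  · exact orderOf_eq_one_iff.1 (by rw [hj, hj0, pow_zero])
  · exfalso
    rw [hj, Nat.odd_pow_iff hj0.ne', Nat.odd_iff] at ho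
    omega

theorem odd_of_semi {x : SS} (h : Semi Q x) : Odd (orderOf x) :=
  (semi_spec Q h).2.1.of_dvd_nat (Subgroup.orderOf_dvd_natCard _ (mem_tor.2 (Commute.refl x)))

theorem not_semi_of_order {x : SS} (h : orderOf x = 2 ∨ orderOf x = 4) : ¬ Semi Q x := fun hs => by
  have := Nat.odd_iff.1 (odd_of_semi Q hs)
  omega

/-- A nontrivial element that is not semisimple fixes exactly one point. -/
theorem fix_unique {x : SS} (h1 : x ≠ 1) (hs : ¬ Semi Q x) : ∃ p ∈ Cfsg.suzukiOvoid F m, x.1 • p = p ∧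
    (∀ p' ∈ Cfsg.suzukiOvoid F m, x.1 • p' = p' → p' = p) ∧
    ∃ c : SS, c * x * c⁻¹ ∈ uSub Q ∧ c.1 • p = inf∞ := by
  simp only [Semi, not_forall, not_not] at hs
  obtain ⟨c, hc⟩ := hs
  obtain ⟨a, b, e⟩ := exists_uu Q hc
  have hne : ¬(a = 0 ∧ b = 0) := fun ⟨ha, hb⟩ => h1 (by
    rw [ha, hb, uu_zero, mul_inv_eq_one, mul_eq_left] at e
    exact e)
  have e' : c.1 * x.1 * c.1⁻¹ = T m a b := congrArg Subtype.val e
  refine ⟨c.1⁻¹ • inf∞, smul_ovoid Q (inv_mem c.2) (inf_mem m), ?_, fun p' hp' hfix => ?_, c, hc, smul_inv_smul _ _⟩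
  · have h : (c.1 * x.1 * c.1⁻¹) • inf∞ = inf∞ := by rw [e', T_inf]
    rw [mul_smul, mul_smul, ← eq_inv_smul_iff] at h
    exact h
  · have h : T m a b • c.1 • p' = c.1 • p' := by
      rw [← e', mul_smul, mul_smul, inv_smul_smul, hfix]
    rw [← fixes_only Q hne (smul_ovoid Q c.2 hp') h, inv_smul_smul]

/-- A point stabiliser is conjugate to the standard one. -/
theorem stab_data {p : Projectivization F (Fin 4 → F)} (hp : p ∈ Cfsg.suzukiOvoid F m) :
    Nat.card (stab (m := m) p) = qq ^ 2 * (qq - 1) ∧ Group.IsSolvable (stab (m := m) p) := by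
  obtain ⟨c0, hc0, hcp⟩ := transitive Q hp (inf_mem m)
  obtain ⟨c, rfl⟩ : ∃ c : SS, c.1 = c0 := ⟨⟨c0, hc0⟩, rfl⟩
  have e : stab (m := m) p = (stab (m := m) inf∞).map (MulAut.conj c⁻¹).toMonoidHom := by
    ext g
    rw [map_conj_mem, inv_inv]
    show g.1 • p = p ↔ (c.1 * g.1 * c.1⁻¹) • inf∞ = inf∞
    rw [← hcp, mul_smul, mul_smul, inv_smul_smul, smul_left_cancel_iff]
  have := isSolvable_stab Q
  rw [e]
  exact ⟨(Subgroup.card_map_of_injective (MulAut.conj c⁻¹).injective).trans (stab_inf_card Q),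
    Group.isSolvable_of_surjective
      (f := ((stab (m := m) inf∞).equivMapOfInjective (MulAut.conj c⁻¹).toMonoidHom (MulAut.conj c⁻¹).injective).toMonoidHom)
      ((stab (m := m) inf∞).equivMapOfInjective (MulAut.conj c⁻¹).toMonoidHom (MulAut.conj c⁻¹).injective).surjective⟩

theorem tor_conj (c g y : SS) : y ∈ tor (c * g * c⁻¹) ↔ c⁻¹ * y * c ∈ tor g := cent_conj c g y

theorem nor_of_tor {g g' : SS} (h : tor g' = tor g) : nor g' = nor g := by
  show Subgroup.normalizer _ = Subgroup.normalizer _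
  rw [h]

theorem nor_conj (c g y : SS) : y ∈ nor (c * g * c⁻¹) ↔ c⁻¹ * y * c ∈ nor g := by
  simp only [nor, Subgroup.mem_normalizer_iff, tor_conj Q]
  constructor
  · intro h u
    have := h (c * u * c⁻¹)
    simpa [mul_assoc] using this
  · intro h u
    have := h (c⁻¹ * u * c)
    simpa [mul_assoc] using this

/-- Tori of the same order are conjugate. -/
theorem tori_conj {g g' : SS} (hg : Semi Q g) (hg' : Semi Q g') (e : Nat.card (tor g') = Nat.card (tor g)) :
    ∃ c : SS, tor g' = tor (c * g * c⁻¹) := by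
  obtain ⟨hA, hB, -⟩ := coprime_tori Q
  obtain ⟨h8, h4, h2, hq, hr⟩ := num_facts Q
  have hsplit : ∀ {g : SS}, (∃ c k, k ≠ 1 ∧ c * g * c⁻¹ = hI Q k) → Nat.card (tor g) = qq - 1 := by
    rintro g ⟨c, k, hk, e⟩
    rw [← Subgroup.card_map_of_injective (f := (MulAut.conj c).toMonoidHom) (MulAut.conj c).injective,
      tor_eq_map Q hk e]
    exact (range_data Q).2
  have hfree : ∀ {g : SS}, Free Q g → Nat.card (tor g) = qq + rr + 1 ∨ Nat.card (tor g) = qq - rr + 1 := by
    obtain ⟨-, -, -, -, -, -, -, -, h⟩ := two_tori Q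
    exact fun hg => h _ hg
  rcases semi_cases Q hg with ⟨c, k, hk, ek⟩ | hf <;> rcases semi_cases Q hg' with ⟨c', k', hk', ek'⟩ | hf'
  · refine ⟨c'⁻¹ * c, SetLike.ext fun y => ?_⟩
    rw [tor_conj Q]
    have h1 : ∀ z, z ∈ tor g ↔ c * z * c⁻¹ ∈ (hHom Q).range := fun z => by
      rw [← tor_eq_map Q hk ek, map_conj_mem]; simp [mul_assoc]
    have h1' : ∀ z, z ∈ tor g' ↔ c' * z * c'⁻¹ ∈ (hHom Q).range := fun z => by
      rw [← tor_eq_map Q hk' ek', map_conj_mem]; simp [mul_assoc]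
    rw [h1, h1']; simp [mul_assoc]
  · exfalso
    rw [hsplit ⟨c, k, hk, ek⟩] at e
    rcases hfree hf' with h | h <;> omega
  · exfalso
    rw [hsplit ⟨c', k', hk', ek'⟩] at e
    rcases hfree hf with h | h <;> omega
  · obtain ⟨p, hp, hpd⟩ := Nat.exists_prime_and_dvd (n := Nat.card (tor g)) (by
      have := (card_tor Q hf).2.1; omega)
    have : Fact p.Prime := ⟨hp⟩
    obtain ⟨P, hP⟩ := tor_sylow Q hf hp hpd
    obtain ⟨P', hP'⟩ := tor_sylow Q hf' hp (e ▸ hpd)
    obtain ⟨c, hc⟩ := MulAction.exists_smul_eq SS P P'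
    obtain ⟨u, hu, hu1⟩ : ∃ u ∈ (P : Subgroup SS), u ≠ 1 := by
      obtain ⟨u, hu⟩ := exists_prime_orderOf_dvd_card' (G := (P : Subgroup SS)) p
        (P.dvd_card_of_dvd_card (hpd.trans (Subgroup.card_subgroup_dvd_card _)))
      exact ⟨u, u.2, fun h => hp.ne_one (by rw [← hu, ← Subgroup.orderOf_coe, h, orderOf_one])⟩
    refine ⟨c, ?_⟩
    have hu' : c * u * c⁻¹ ∈ (P' : Subgroup SS) := by
      rw [← hc, Sylow.coe_subgroup_smul, Subgroup.mem_pointwise_smul_iff_inv_smul_mem]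
      show (MulAut.conj c)⁻¹ (c * u * c⁻¹) ∈ (P : Subgroup SS)
      rw [← map_inv, MulAut.conj_apply]
      simpa [mul_assoc] using hu
    rw [← ((semi_spec Q hg').2.2 _ (hP' hu') (fun h => hu1 (by rwa [mul_inv_eq_one, mul_eq_left] at h))).2]
    ext y
    rw [tor_conj Q, tor_conj Q, ((semi_spec Q hg).2.2 _ (hP hu) hu1).2]

/-- The orders of tori and of their normalisers. -/
theorem nor_card {g : SS} (hg : Semi Q g) :
    (Nat.card (tor g) = qq - 1 ∧ Nat.card (nor g) = 2 * Nat.card (tor g)) ∨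
    ((Nat.card (tor g) = qq + rr + 1 ∨ Nat.card (tor g) = qq - rr + 1) ∧
      Nat.card (nor g) = 4 * Nat.card (tor g)) := by
  obtain ⟨h8, h4, h2, hq, hr⟩ := num_facts Q
  rcases semi_cases Q hg with ⟨c, k, hk, e⟩ | hf
  · left
    have hT : Nat.card (tor g) = qq - 1 := by
      rw [← Subgroup.card_map_of_injective (f := (MulAut.conj c).toMonoidHom) (MulAut.conj c).injective,
        tor_eq_map Q hk e]
      exact (range_data Q).2
    refine ⟨hT, ?_⟩
    obtain ⟨w, hw, hw4, hN⟩ := semi_weyl Q hg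
    have hodd := Nat.odd_iff.1 (semi_spec Q hg).2.1
    have hj : (c⁻¹ * wS Q * c) ∈ nor g := by
      refine (fam0 Q).normalizer_iff hg ?_
      have hwk : wS Q * hI Q k * (wS Q)⁻¹ = (hI Q k)⁻¹ := by
        have := hwh Q k
        refine Subtype.ext ?_
        show W F * H m k * (W F)⁻¹ = (H m k)⁻¹
        calc W F * H m k * (W F)⁻¹ = (H m k)⁻¹ * (H m k * W F * H m k) * (W F)⁻¹ := by group
          _ = (H m k)⁻¹ := by rw [this, mul_inv_cancel_right]
      refine mem_tor.2 ?_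
      rw [show c⁻¹ * wS Q * c * g * (c⁻¹ * wS Q * c)⁻¹ = c⁻¹ * (wS Q * (c * g * c⁻¹) * (wS Q)⁻¹) * c by group,
        e, hwk, ← e, show c⁻¹ * (c * g * c⁻¹)⁻¹ * c = g⁻¹ by group]
      exact (Commute.refl g).inv_left
    have h2 : 2 ∣ Nat.card (nor g) := by
      have ho : orderOf (c⁻¹ * wS Q * c) = 2 := by
        refine orderOf_eq_prime ?_ fun h => ?_
        · rw [pow_two, show c⁻¹ * wS Q * c * (c⁻¹ * wS Q * c) = c⁻¹ * (wS Q * wS Q) * c by group,
            show wS Q * wS Q = 1 from Subtype.ext (W_sq Q)]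
          group
        · have h' : wS Q = 1 := by
            rw [show wS Q = c * (c⁻¹ * wS Q * c) * c⁻¹ by group, h]; group
          have h'' : W F • inf∞ = inf∞ := by
            rw [show W F = 1 from congrArg Subtype.val h', one_smul]
          rw [W_inf m] at h''
          exact pt_ne_inf m 0 0 h''
      exact ho ▸ Subgroup.orderOf_dvd_natCard _ hj
    change Nat.card (nor g) = _ at hN
    rw [hN] at h2 ⊢
    have := hw4 ⟨c, k, hk, e⟩
    rcases hw with rfl | rfl | rfl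
    · omega
    · rfl
    · omega
  · right
    obtain ⟨a, b, ha, hb, ea, eb, na, nb, hall⟩ := two_tori Q
    refine ⟨hall g hf, ?_⟩
    have key : ∀ a, Free Q a → Nat.card (nor a) = 4 * Nat.card (tor a) → Nat.card (tor g) = Nat.card (tor a) →
        Nat.card (nor g) = 4 * Nat.card (tor g) := fun a ha hna e => by
      obtain ⟨c, hc⟩ := tori_conj Q (semi_free Q ha) hg e
      have h : g ∈ fam (Semi Q) a := ⟨hg, c, fun y => by
        show y ∈ tor g ↔ c⁻¹ * y * c ∈ tor a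
        rw [hc, tor_conj Q]⟩
      obtain ⟨e1, e2⟩ := (fam0 Q).card_normalizer_conj (semi_free Q ha) h
      exact e1.trans (hna.trans (congrArg (4 * ·) e2.symm))
    rcases hall g hf with h | h
    · exact key a ha na (h.trans ea.symm)
    · exact key b hb nb (h.trans eb.symm)

/-- The torus as a subgroup of its normaliser. -/
abbrev torIn (g : Cfsg.Sz F m) : Subgroup (nor g) := (tor g).subgroupOf (nor g)

omit Q in
instance torIn_normal (g : Cfsg.Sz F m) : (torIn g).Normal :=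
  Subgroup.normal_subgroupOf_iff_le_normalizer Subgroup.le_normalizer |>.2 le_rfl

theorem index_torIn {g : SS} (hg : Semi Q g) : (torIn g).index = 2 ∨ (torIn g).index = 4 := by
  have h := (torIn g).card_mul_index
  rw [Nat.card_congr (Subgroup.subgroupOfEquivOfLe (Subgroup.le_normalizer (H := tor g))).toEquiv] at h
  rcases nor_card Q hg with ⟨-, e⟩ | ⟨-, e⟩
  · exact Or.inl (Nat.eq_of_mul_eq_mul_left Nat.card_pos (h.trans (e.trans (mul_comm _ _))))
  · exact Or.inr (Nat.eq_of_mul_eq_mul_left Nat.card_pos (h.trans (e.trans (mul_comm _ _))))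

theorem nor_solvable {g : SS} (hg : Semi Q g) : Group.IsSolvable (nor g) := by
  have h1 : Group.IsSolvable (torIn g) := Group.isSolvable_of_comm fun a b => by
    have := (semi_spec Q hg).1
    let := this.commGroup
    exact Subtype.ext (Subtype.ext (congrArg (fun z : tor g => z.1)
      (mul_comm (⟨a.1.1, a.2⟩ : tor g) ⟨b.1.1, b.2⟩)))
  have h2 : Group.IsSolvable (nor g ⧸ torIn g) := Group.isSolvable_of_comm (comm_of_card (index_torIn Q hg))
  exact Group.isSolvable_of_ker_le_range (torIn g).subtype (QuotientGroup.mk' (torIn g)) (by simp)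

/-- A semisimple element of a torus normaliser lies in the torus. -/
theorem semi_mem {g x : SS} (hg : Semi Q g) (hx : Semi Q x) (hxn : x ∈ nor g) : x ∈ tor g := by
  have h : x ^ (torIn g).index ∈ tor g := Subgroup.pow_index_mem (torIn g) ⟨x, hxn⟩
  have ho := Nat.odd_iff.1 (odd_of_semi Q hx)
  have hco : (orderOf x).Coprime (torIn g).index := by
    have h2 : (orderOf x).Coprime 2 := Nat.coprime_two_right.2 (odd_of_semi Q hx)
    rcases index_torIn Q hg with e | e <;> rw [e]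
    · exact h2
    · exact h2.mul_right h2
  obtain ⟨j, hj⟩ := exists_pow_eq_self_of_coprime hco.symm
  rw [← hj]
  exact pow_mem h j

theorem tor_eq_of_mem {g x : SS} (hg : Semi Q g) (hx : x ∈ tor g) (h1 : x ≠ 1) : tor x = tor g :=
  ((semi_spec Q hg).2.2 x hx h1).2

theorem comm_mem {g x y : SS} (hg : Semi Q g) (hx : x ∈ nor g) (hy : y ∈ nor g) :
    x * y * x⁻¹ * y⁻¹ ∈ tor g := by
  have h := comm_of_card (index_torIn Q hg) (QuotientGroup.mk (⟨x, hx⟩ : nor g)) (QuotientGroup.mk ⟨y, hy⟩)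
  rw [← QuotientGroup.mk_mul, ← QuotientGroup.mk_mul, eq_comm, QuotientGroup.eq, Subgroup.mem_subgroupOf] at h
  have h' := (Subgroup.mem_normalizer_iff.1 (mul_mem hy hx) _).1 (show (y * x)⁻¹ * (x * y) ∈ tor g from h)
  rwa [show y * x * ((y * x)⁻¹ * (x * y)) * (y * x)⁻¹ = x * y * x⁻¹ * y⁻¹ by group] at h'

/-- An element that is not semisimple has no common fixed point with a torus it normalises. -/
theorem tor_stab {g x d : SS} {p : Projectivization F (Fin 4 → F)} (hg : Semi Q g) (hx1 : x ≠ 1)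
    (hxs : ¬ Semi Q x) (hxn : x ∈ nor g) (hp : p ∈ Cfsg.suzukiOvoid F m) (hfx : x.1 • p = p) (hd : d ∈ tor g)
    (hfd : d.1 • p = p) : d = 1 := by
  by_contra hd1
  obtain ⟨p', -, -, hu, c, hc, hcp⟩ := fix_unique Q hx1 hxs
  obtain rfl := hu p hp hfx
  have hcd : c * d * c⁻¹ ∈ Subgroup.normalizer (uSub Q : Set SS) := by
    rw [normalizer_uSub Q]
    show (c.1 * d.1 * c.1⁻¹) • inf∞ = inf∞
    rw [← hcp, mul_smul, mul_smul, inv_smul_smul, hfd]
  have he : x * d * x⁻¹ * d⁻¹ ∈ tor g := mul_mem ((Subgroup.mem_normalizer_iff.1 hxn d).1 hd) (inv_mem hd)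
  have hcu : c * (x * d * x⁻¹ * d⁻¹) * c⁻¹ ∈ uSub Q := by
    rw [show c * (x * d * x⁻¹ * d⁻¹) * c⁻¹ =
      c * x * c⁻¹ * ((c * d * c⁻¹) * (c * x * c⁻¹)⁻¹ * (c * d * c⁻¹)⁻¹) by group]
    exact mul_mem hc ((Subgroup.mem_normalizer_iff.1 hcd _).1 (inv_mem hc))
  by_cases h1 : x * d * x⁻¹ * d⁻¹ = 1
  · have hxd : x ∈ tor d := mem_tor.2 (mul_inv_eq_iff_eq_mul.1 (mul_inv_eq_one.1 h1))
    rw [tor_eq_of_mem Q hg hd hd1] at hxd
    exact hxs ((semi_spec Q hg).2.2 x hxd hx1).1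
  · exact ((semi_spec Q hg).2.2 _ he h1).1 c hcu

/-- Two torus normalisers containing an element fixing a single point meet inside its stabiliser. -/
theorem inter_stab {g g' x y : SS} {p : Projectivization F (Fin 4 → F)} (hg : Semi Q g) (hg' : Semi Q g')
    (hne : tor g ≠ tor g') (hx : x ∈ nor g) (hx' : x ∈ nor g') (hy : y ∈ nor g) (hy' : y ∈ nor g')
    (hp : p ∈ Cfsg.suzukiOvoid F m) (hfx : x.1 • p = p)
    (hu : ∀ p' ∈ Cfsg.suzukiOvoid F m, x.1 • p' = p' → p' = p) : y.1 • p = p := by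
  have h1 := comm_mem Q hg hx hy
  have h2 := comm_mem Q hg' hx' hy'
  have h3 : x * y * x⁻¹ * y⁻¹ = 1 := by
    by_contra h
    exact hne ((tor_eq_of_mem Q hg h1 h).symm.trans (tor_eq_of_mem Q hg' h2 h))
  have hxy : x.1 * y.1 = y.1 * x.1 :=
    congrArg Subtype.val (mul_inv_eq_iff_eq_mul.1 (mul_inv_eq_one.1 h3))
  exact hu _ (smul_ovoid Q y.2 hp) (by rw [← mul_smul, hxy, mul_smul, hfx])

/-- The common part of a torus normaliser and a stabiliser has order at most the index. -/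
theorem card_inter_le {g x : SS} {p : Projectivization F (Fin 4 → F)} (hg : Semi Q g) (hx1 : x ≠ 1)
    (hxs : ¬ Semi Q x) (hxn : x ∈ nor g) (hp : p ∈ Cfsg.suzukiOvoid F m) (hfx : x.1 • p = p) :
    Nat.card (nor g ⊓ stab (m := m) p : Subgroup SS) ≤ (torIn g).index := by
  let f : (nor g ⊓ stab (m := m) p : Subgroup SS) → nor g ⧸ torIn g := fun y => QuotientGroup.mk ⟨y.1, y.2.1⟩
  refine Nat.card_le_card_of_injective f fun a b e => ?_
  have h : a.1⁻¹ * b.1 ∈ tor g := Subgroup.mem_subgroupOf.1 (QuotientGroup.eq.1 e)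
  have hfix : (a.1⁻¹ * b.1).1 • p = p := (stab (m := m) p).mul_mem ((stab (m := m) p).inv_mem a.2.2) b.2.2
  exact Subtype.ext (inv_mul_eq_one.1 (tor_stab Q hg hx1 hxs hxn hp hfx h hfix))

/-- Soluble two-generated subgroups. -/
theorem sol_iff (hpr : (2 * m + 1).Prime) (x y : SS) :
    Group.IsSolvable (Subgroup.closure ({x, y} : Set SS)) ↔
      (∃ p ∈ Cfsg.suzukiOvoid F m, x.1 • p = p ∧ y.1 • p = p) ∨ ∃ g, Semi Q g ∧ x ∈ nor g ∧ y ∈ nor g := by
  have hle : ∀ {K : Subgroup SS}, x ∈ K → y ∈ K → Group.IsSolvable K →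
      Group.IsSolvable (Subgroup.closure ({x, y} : Set SS)) := fun {K} hx hy hK => by
    have hs : Subgroup.closure ({x, y} : Set SS) ≤ K := (Subgroup.closure_le K).2 (by
      rintro z (rfl | rfl)
      exacts [hx, hy])
    exact Group.isSolvable_of_isSolvable_injective (Subgroup.inclusion_injective hs)
  constructor
  · intro hsol
    have hne : Subgroup.closure ({x, y} : Set SS) ≠ ⊤ := fun h => by
      rw [h] at hsol
      have hS : Group.IsSolvable SS := Group.isSolvable_of_surjective (f := (Subgroup.topEquiv (G := SS)).toMonoidHom)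
        Subgroup.topEquiv.surjective
      have := simple Q
      have hc := IsSimpleGroup.comm_iff_isSolvable.2 hS (uu Q 1 0) (uu Q (exists_s_ne Q).choose 0)
      rw [uu_mul, uu_mul] at hc
      have h2 := (uu_inj Q hc).2
      simp only [add_zero, zero_add, one_pow, mul_one, one_mul] at h2
      exact (exists_s_ne Q).choose_spec h2.symm
    have hcl : ∀ {K : Subgroup SS}, Subgroup.closure ({x, y} : Set SS) ≤ K → x ∈ K ∧ y ∈ K := fun h =>
      ⟨h (Subgroup.subset_closure (Or.inl rfl)), h (Subgroup.subset_closure (Or.inr rfl))⟩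
    rcases Cfsg.Agent.S2251.result Q.hm Q.hF _ hne with ⟨P, hP⟩ | ⟨U, hU, hUc, hU'⟩ |
      ⟨K, _, _, k, hk1, hk, -, hd, -⟩
    · left
      obtain ⟨c, hc⟩ := exists_conj Q P
      obtain ⟨hx, hy⟩ := hcl hP
      refine ⟨c.1⁻¹ • inf∞, smul_ovoid Q (inv_mem c.2) (inf_mem m), ?_⟩
      have key : ∀ z : SS, z ∈ Subgroup.normalizer ((P : Subgroup SS) : Set SS) →
          z.1 • c.1⁻¹ • inf∞ = c.1⁻¹ • inf∞ := fun z hz => by
        have h : c * z * c⁻¹ ∈ Subgroup.normalizer (uSub Q : Set SS) := by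
          rw [Subgroup.mem_normalizer_iff] at hz ⊢
          intro u
          have := hz (c⁻¹ * u * c)
          rw [hc, hc] at this
          simpa [mul_assoc] using this
        rw [normalizer_uSub Q] at h
        have h' : (c.1 * z.1 * c.1⁻¹) • inf∞ = inf∞ := h
        rw [mul_smul, mul_smul, ← eq_inv_smul_iff] at h'
        exact h'
      exact ⟨key x hx, key y hy⟩
    · right
      obtain ⟨h8, h4, h2, hq, hr⟩ := num_facts Q
      have hodd : Odd (Nat.card U) := by
        rw [Nat.odd_iff]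
        rcases hUc with h | h | h <;> rw [h] <;> omega
      have : Nontrivial U := Finite.one_lt_card_iff_nontrivial.1 (by
        rcases hUc with h | h | h <;> rw [h] <;> omega)
      obtain ⟨u, hu⟩ := exists_ne (1 : U)
      have hu1 : (u : SS) ≠ 1 := fun h => hu (Subtype.ext h)
      have hus : Semi Q (u : SS) := semi_of_odd Q hu1 (hodd.of_dvd_nat (Subgroup.orderOf_dvd_natCard _ u.2))
      obtain ⟨hx, hy⟩ := hcl hU'
      refine ⟨u, hus, ?_⟩
      have key : ∀ z : SS, z ∈ Subgroup.normalizer (U : Set SS) → z ∈ nor (u : SS) := fun z hz =>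
        (fam0 Q).normalizer_iff hus (mem_tor.2 (by
          let := hU.commGroup
          exact congrArg Subtype.val (mul_comm
            (⟨_, (Subgroup.mem_normalizer_iff.1 hz (u : SS)).1 u.2⟩ : U) u)))
      exact ⟨key x hx, key y hy⟩
    · exfalso
      rcases hpr.eq_one_or_self_of_dvd _ hd with h | h <;> omega
  · rintro (⟨p, hp, hx, hy⟩ | ⟨g, hg, hx, hy⟩)
    · exact hle (K := stab p) hx hy (stab_data Q hp).2
    · exact hle hx hy (nor_solvable Q hg)

end Cfsg.Lib.Suz.Solub
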