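import Mathlib.Algebra.Group.Shrink
import Cfsg.Agent.Suz.Lie
import Cfsg.Agent.Suz.Partition

/-!
Elements of odd prime order of the Suzuki group fix no nonzero vector of the natural module; groups with the
same prime graph as the Suzuki group.
-/

set_option autoImplicit false

open Matrix
open scoped MatrixGroups

namespace Cfsg.Lib.Suz

/-- Every finite group has a copy in the lowest universe. -/
theorem small_copy (X₀ : Type*) [Group X₀] [Finite X₀] : ∃ (X : Type) (_ : Group X) (_ : Fintype X),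
    Nat.card X = Nat.card X₀ ∧ ∀ n : ℕ, (∃ x : X, orderOf x = n) ↔ ∃ y : X₀, orderOf y = n := by
  have : Finite (Shrink.{0} X₀) := Finite.of_equiv _ (equivShrink.{0} X₀)
  let f : Shrink.{0} X₀ ≃* X₀ := Shrink.mulEquiv
  exact ⟨Shrink.{0} X₀, inferInstance, Fintype.ofFinite _, Nat.card_congr f.toEquiv,
    fun n => ⟨fun ⟨x, hx⟩ => ⟨f x, by rw [MulEquiv.orderOf_eq, hx]⟩,
      fun ⟨y, hy⟩ => ⟨f.symm y, by rw [MulEquiv.orderOf_eq, hy]⟩⟩⟩

variable {F : Type*} [Field F] [Fintype F] {m : ℕ} (Q : Par F m)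
include Q

theorem not_fix_hI {k : Fˣ} (hk : k ≠ 1) {v : Fin 4 → F} (h : (H m k).1 *ᵥ v = v) : v = 0 := by
  classical
  have hq : Fintype.card Fˣ = 2 ^ (2 * m + 1) - 1 := by rw [Fintype.card_units, Q.hF]
  have key : ∀ e : ℕ, Nat.Coprime e (2 ^ (2 * m + 1) - 1) → k ^ e ≠ 1 := fun e he h => hk
    (orderOf_eq_one_iff.1 (Nat.eq_one_of_dvd_coprimes he (orderOf_dvd_of_pow_eq_one h) (hq ▸ orderOf_dvd_card)))
  have h1 : k ^ hh m ≠ 1 := key _ (by
    rw [hh]
    refine Nat.Coprime.pow_left _ (Nat.coprime_two_left.2 ?_)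
    exact Nat.Even.sub_odd (Nat.one_le_two_pow) (Nat.even_pow.2 ⟨even_two, Nat.succ_ne_zero _⟩) odd_one)
  have h2 : k ^ (hh m + 1) ≠ 1 := key _ (by
    rw [hh]
    refine Nat.coprime_of_dvd fun p hp hd1 hd2 => ?_
    have : Fact p.Prime := ⟨hp⟩
    have e1 : (2 : ZMod p) ^ m = -1 := by
      have := (ZMod.natCast_eq_zero_iff _ _).2 hd1
      push_cast at this
      exact eq_neg_of_add_eq_zero_left this
    have e2 := (ZMod.natCast_eq_zero_iff _ _).2 hd2
    rw [Nat.cast_sub Nat.one_le_two_pow] at e2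
    push_cast at e2
    rw [pow_succ, pow_mul', e1] at e2
    norm_num at e2)
  funext i
  have hi := congrFun h i
  simp only [H, Matrix.mulVec_diagonal] at hi
  have h1' : ((k ^ hh m)⁻¹ : Fˣ) ≠ 1 := by simpa using h1
  have h2' : ((k ^ (hh m + 1))⁻¹ : Fˣ) ≠ 1 := by simpa using h2
  show v i = 0
  by_contra hv
  fin_cases i
  · exact h2 (Units.ext ((mul_eq_right₀ hv).1 hi))
  · exact h1 (Units.ext ((mul_eq_right₀ hv).1 hi))
  · exact h1' (Units.ext ((mul_eq_right₀ hv).1 hi))
  · exact h2' (Units.ext ((mul_eq_right₀ hv).1 hi))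

/-- The fixed space of an element. -/
theorem fixed_card_pow {g : Cfsg.Sz F m} {r : ℕ} (hr : r.Prime) (ho : orderOf g = r)
    (hd : r ∣ (2 ^ (2 * m + 1)) ^ 2 + 1) {v : Fin 4 → F} (h : g.1.1 *ᵥ v = v) : v = 0 := by
  classical
  by_contra hv
  have : Fact r.Prime := ⟨hr⟩
  let W : Submodule F (Fin 4 → F) := LinearMap.ker (g.1.1.mulVecLin - LinearMap.id)
  have hW : ∀ w, w ∈ W ↔ g.1.1 *ᵥ w = w := fun w => by simp [W, sub_eq_zero]
  have hG : IsPGroup r (Subgroup.zpowers g) := IsPGroup.of_card (n := 1) (by rw [Nat.card_zpowers, ho, pow_one])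
  let act : MulAction (Subgroup.zpowers g) (Fin 4 → F) :=
    { smul := fun u w => u.1.1.1 *ᵥ w
      one_smul := fun w => Matrix.one_mulVec w
      mul_smul := fun a b w => (Matrix.mulVec_mulVec w a.1.1.1 b.1.1.1).symm }
  have hfix : MulAction.fixedPoints (Subgroup.zpowers g) (Fin 4 → F) = (W : Set (Fin 4 → F)) := by
    ext w
    refine ⟨fun hw => (hW w).2 (hw ⟨g, Subgroup.mem_zpowers g⟩), fun hw => ?_⟩
    have hs : (⟨g, Subgroup.mem_zpowers g⟩ : Subgroup.zpowers g) ∈ MulAction.stabilizer (Subgroup.zpowers g) w :=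
      (hW w).1 hw
    intro u
    obtain ⟨n, hn⟩ := u.2
    have hu : u = (⟨g, Subgroup.mem_zpowers g⟩ : Subgroup.zpowers g) ^ n := Subtype.ext (by simpa using hn.symm)
    rw [hu]
    exact (MulAction.stabilizer (Subgroup.zpowers g) w).zpow_mem hs n
  have hmod := hG.card_modEq_card_fixedPoints (Fin 4 → F)
  rw [hfix, Nat.card_eq_fintype_card (α := Fin 4 → F), Fintype.card_fun, Fintype.card_fin, Q.hF,
    show Nat.card ((W : Set (Fin 4 → F))) = Nat.card W from rfl, Module.natCard_eq_pow_finrank (K := F),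
    Nat.card_eq_fintype_card, Q.hF] at hmod
  have hk1 : 1 ≤ Module.finrank F W := by
    refine Submodule.one_le_finrank_iff.2 fun hb => hv ?_
    have hvW : v ∈ W := (hW v).2 h
    rw [hb] at hvW
    exact (Submodule.mem_bot F).1 hvW
  have hk4 : Module.finrank F W < 4 := by
    refine lt_of_lt_of_eq (Submodule.finrank_lt ?_) (Module.finrank_fin_fun F)
    intro hW'
    have : g.1.1 = 1 := Matrix.ext_of_mulVec_single fun i => by
      rw [Matrix.one_mulVec]
      exact (hW _).1 (hW' ▸ Submodule.mem_top)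
    have hg : g = 1 := Subtype.ext (Subtype.ext this)
    rw [hg, orderOf_one] at ho
    exact hr.ne_one ho.symm
  set z : ZMod r := ((2 ^ (2 * m + 1) : ℕ) : ZMod r)
  have e2 : z ^ 2 = -1 := by
    have := (ZMod.natCast_eq_zero_iff _ _).2 hd
    rw [Nat.cast_add, Nat.cast_one, Nat.cast_pow] at this
    exact eq_neg_of_add_eq_zero_left this
  have e4 : z ^ 4 = z ^ Module.finrank F W := by
    have := (ZMod.natCast_eq_natCast_iff _ _ _).2 hmod
    simpa [z, Nat.cast_pow] using this
  have hodd : (2 : ZMod r) ≠ 0 := by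
    intro h2
    have h2' : r ∣ 2 := (ZMod.natCast_eq_zero_iff 2 r).1 (by exact_mod_cast h2)
    rw [(Nat.prime_dvd_prime_iff_eq hr Nat.prime_two).1 h2', ← pow_mul,
      show (2 * m + 1) * 2 = (4 * m + 1) + 1 by ring, pow_succ] at hd
    omega
  have e4' : z ^ 4 = 1 := by rw [show (4 : ℕ) = 2 * 2 by rfl, pow_mul, e2]; ring
  rw [e4'] at e4
  generalize Module.finrank F W = k at e4 hk1 hk4
  apply hodd
  interval_cases k
  · rw [pow_one] at e4
    rw [← e4] at e2
    linear_combination e2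
  · rw [e2] at e4
    linear_combination e4
  · rw [pow_succ, e2] at e4
    have : z = -1 := by linear_combination e4
    rw [this] at e2
    linear_combination e2

theorem natural_fpf {g : Cfsg.Sz F m} {r : ℕ} (hr : r.Prime) (hr2 : r ≠ 2) (ho : orderOf g = r)
    {v : Fin 4 → F} (h : g.1.1 *ᵥ v = v) : v = 0 := by
  have hg1 : g ≠ 1 := fun h => hr.ne_one (by rw [← ho, h, orderOf_one])
  rcases elt_split Q hg1 with ⟨c, hc⟩ | ⟨c, k, hk, e⟩ | hf
  · exfalso
    have hc4 : (c * g * c⁻¹) ^ 4 = 1 := by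
      obtain ⟨a, b, e⟩ := exists_uu Q hc
      rw [e, uu_four Q]
    rw [conj_pow, mul_inv_eq_one, mul_eq_left] at hc4
    have := orderOf_dvd_of_pow_eq_one hc4
    rw [ho, show (4 : ℕ) = 2 ^ 2 by norm_num] at this
    exact hr2 ((Nat.prime_dvd_prime_iff_eq hr Nat.prime_two).1 (hr.dvd_of_dvd_pow this))
  · have hz := not_fix_hI Q hk (v := c.1.1 *ᵥ v) (by
      have e' : (c * g * c⁻¹).1.1 = (H m k).1 := by rw [e]; rfl
      rw [← e', Matrix.mulVec_mulVec]
      have e2 : (c * g * c⁻¹).1.1 * c.1.1 = c.1.1 * g.1.1 :=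
        congrArg (fun x : Cfsg.Sz F m => x.1.1) (inv_mul_cancel_right (c * g) c)
      rw [e2, ← Matrix.mulVec_mulVec, h])
    have e3 : (c⁻¹).1.1 * c.1.1 = (1 : Matrix (Fin 4) (Fin 4) F) :=
      congrArg (fun x : Cfsg.Sz F m => x.1.1) (inv_mul_cancel c)
    rw [← Matrix.one_mulVec v, ← e3, ← Matrix.mulVec_mulVec, hz, Matrix.mulVec_zero]
  · exact fixed_card_pow Q hr ho (free_dvd Q hf hr (dvd_of_eq ho.symm)) h

theorem lie_natural_fpf {g : Cfsg.Lie.Sz F (2 ^ (m + 1))} {r : ℕ} (hr : r.Prime) (hr2 : r ≠ 2) (ho : orderOf g = r)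
    {v : Fin 4 → F} (h : (g.1 : Matrix (Fin 4) (Fin 4) F) *ᵥ v = v) : v = 0 := by
  refine natural_fpf Q (g := (lieEquiv Q).symm g) hr hr2 (by rw [MulEquiv.orderOf_eq, ho]) ?_
  have h1 : ((toL Q) ((lieEquiv Q).symm g).1) = g.1 :=
    congrArg Subtype.val ((lieEquiv Q).apply_symm_apply g)
  have h2 : (((lieEquiv Q).symm g).1).1 = (g.1 : Matrix (Fin 4) (Fin 4) F) := congrArg Units.val h1
  rw [h2]
  exact h

theorem primeGraph_unbounded (N : ℕ) :
    ∃ (X : Type) (_ : Group X) (_ : Fintype X), N < Fintype.card X ∧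
      ((∀ r : ℕ, r.Prime → (r ∣ Nat.card ↥(Cfsg.Lie.Sz F (2 ^ (m + 1))) ↔ r ∣ Nat.card X)) ∧
      (∀ r s : ℕ, r.Prime → s.Prime → r ≠ s → ((∃ x : ↥(Cfsg.Lie.Sz F (2 ^ (m + 1))), orderOf x = r * s) ↔
        (∃ y : X, orderOf y = r * s)))) := by
  classical
  have := charP Q
  set L := Cfsg.Lie.Sz F (2 ^ (m + 1)) with hLdef
  let V := Multiplicative (Fin (N + 1) → Fin 4 → F)
  let toAdd : L → ((Fin (N + 1) → Fin 4 → F) ≃+ (Fin (N + 1) → Fin 4 → F)) := fun g =>
    { toFun := fun w i => (g.1 : Matrix (Fin 4) (Fin 4) F) *ᵥ w i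
      invFun := fun w i => ((g.1⁻¹ : GL (Fin 4) F) : Matrix (Fin 4) (Fin 4) F) *ᵥ w i
      left_inv := fun w => funext fun i => by dsimp only; rw [Matrix.mulVec_mulVec, ← Units.val_mul, inv_mul_cancel,
        Units.val_one, Matrix.one_mulVec]
      right_inv := fun w => funext fun i => by dsimp only; rw [Matrix.mulVec_mulVec, ← Units.val_mul, mul_inv_cancel,
        Units.val_one, Matrix.one_mulVec]
      map_add' := fun a b => funext fun i => Matrix.mulVec_add _ _ _ }
  let φ : L →* MulAut V := MonoidHom.mk' (fun g => AddEquiv.toMultiplicative (toAdd g)) fun a b =>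
    MulEquiv.ext fun w => funext fun i => (Matrix.mulVec_mulVec (Multiplicative.toAdd w i) (a.1 : Matrix (Fin 4) (Fin 4) F) (b.1 : Matrix (Fin 4) (Fin 4) F)).symm
  let X₀ := V ⋊[φ] L
  have : Finite V := inferInstanceAs (Finite (Multiplicative (Fin (N + 1) → Fin 4 → F)))
  have : Finite X₀ := Finite.of_equiv _ SemidirectProduct.equivProd.symm
  have hcardX : Nat.card X₀ = Nat.card V * Nat.card L := SemidirectProduct.card
  have hV : Nat.card V = 2 ^ ((2 * m + 1) * (4 * (N + 1))) := by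
    show Nat.card (Multiplicative (Fin (N + 1) → Fin 4 → F)) = _
    rw [Nat.card_eq_fintype_card, Fintype.card_multiplicative, Fintype.card_fun, Fintype.card_fun, Q.hF,
      Fintype.card_fin, Fintype.card_fin, ← pow_mul, ← pow_mul]
  have h2L : 2 ∣ Nat.card L := by
    rw [hLdef, (lie_structure Q).1]
    exact Dvd.dvd.mul_right (Dvd.dvd.mul_right (dvd_pow (dvd_pow_self 2 (Nat.succ_ne_zero _)) two_ne_zero) _) _
  have hV2 : ∀ w : V, w * w = 1 := fun w => congrArg Multiplicative.ofAdd (funext fun i => funext fun j =>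
    add_self Q _)
  have hgraph : ∀ r s : ℕ, r.Prime → s.Prime → r ≠ s →
      ((∃ x : L, orderOf x = r * s) ↔ ∃ y : X₀, orderOf y = r * s) := by
    intro r s hr hs hrs
    constructor
    · rintro ⟨x, hx⟩
      exact ⟨SemidirectProduct.inr x, by rw [orderOf_injective _ SemidirectProduct.inr_injective, hx]⟩
    rintro ⟨y, hy⟩
    have key : ∀ a b : ℕ, a.Prime → b.Prime → a * b = r * s → orderOf y.right ≠ a := by
      intro a b ha hb hab hx
      have hu1 : (y ^ a).right = 1 := by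
        rw [show (y ^ a).right = y.right ^ a from map_pow SemidirectProduct.rightHom y a, ← hx, pow_orderOf_eq_one]
      have hya : y ^ a = SemidirectProduct.inl (y ^ a).left := SemidirectProduct.ext rfl hu1
      have hord : orderOf (y ^ a) = b := by
        rw [orderOf_pow_of_dvd ha.ne_zero (hy ▸ hab ▸ dvd_mul_right a b), hy, ← hab,
          Nat.mul_div_cancel_left _ ha.pos]
      have hb2 : b = 2 := by
        have h2 : (y ^ a) ^ 2 = 1 := by rw [hya, ← map_pow, pow_two, hV2, map_one]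
        exact (Nat.prime_dvd_prime_iff_eq hb Nat.prime_two).1 (hord ▸ orderOf_dvd_of_pow_eq_one h2)
      have ha2 : a ≠ 2 := fun h => by
        subst h; subst hb2
        have h4 : ∀ p q : ℕ, p.Prime → q.Prime → p * q = 2 * 2 → p = 2 := fun p q hp hq hpq =>
          (Nat.prime_dvd_prime_iff_eq hp Nat.prime_two).1
            (((Nat.Prime.dvd_mul hp).1 (hpq ▸ dvd_mul_right p q)).elim id id)
        exact hrs ((h4 r s hr hs hab.symm).trans (h4 s r hs hr ((mul_comm s r).trans hab.symm)).symm)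
      set u := (y ^ a).left with hu
      have hc : y.left * φ y.right u = u * y.left := by
        have h1 := congrArg SemidirectProduct.left ((Commute.pow_right (Commute.refl y) a).eq)
        rw [hya, SemidirectProduct.mul_left, SemidirectProduct.mul_left, SemidirectProduct.left_inl,
          SemidirectProduct.right_inl, map_one] at h1
        exact h1
      have hfixu : φ y.right u = u := mul_left_cancel (hc.trans (mul_comm u y.left))
      have hu0 : u = 1 := congrArg Multiplicative.ofAdd (funext fun i =>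
        lie_natural_fpf Q ha ha2 hx (congrFun (congrArg Multiplicative.toAdd hfixu) i))
      rw [hya, hu0, map_one, orderOf_one] at hord
      exact hb.ne_one hord.symm
    have hx : orderOf y.right ∣ r * s := hy ▸ orderOf_map_dvd SemidirectProduct.rightHom y
    obtain ⟨d₁, d₂, h1, h2, he⟩ := exists_dvd_and_dvd_of_dvd_mul hx
    rcases (Nat.dvd_prime hr).1 h1 with rfl | rfl <;> rcases (Nat.dvd_prime hs).1 h2 with rfl | rfl
    · exfalso
      have hy1 : y = SemidirectProduct.inl y.left :=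
        SemidirectProduct.ext rfl (orderOf_eq_one_iff.1 (by simpa using he))
      have h2' : orderOf y ∣ 2 := orderOf_dvd_of_pow_eq_one (by rw [hy1, ← map_pow, pow_two, hV2, map_one])
      have := Nat.le_of_dvd two_pos h2'
      rw [hy] at this
      nlinarith [hr.two_le, hs.two_le]
    · exact absurd (by rw [he, one_mul]) (key _ _ hs hr (mul_comm _ _))
    · exact absurd (by rw [he, mul_one]) (key _ _ hr hs rfl)
    · exact ⟨y.right, he⟩
  obtain ⟨X, instG, instF, hc, ho⟩ := small_copy X₀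
  refine ⟨X, instG, instF, ?_, ?_, ?_⟩
  · rw [← Nat.card_eq_fintype_card, hc, hcardX, hV]
    refine lt_of_lt_of_le (Nat.lt_two_pow_self) ((Nat.pow_le_pow_right two_pos ?_).trans (Nat.le_mul_of_pos_right _ Nat.card_pos))
    calc N ≤ 4 * (N + 1) := by omega
      _ ≤ _ := Nat.le_mul_of_pos_left _ (Nat.succ_pos _)
  · intro r hr
    rw [hc, hcardX, hV]
    refine ⟨fun h => h.mul_left _, fun h => ((Nat.Prime.dvd_mul hr).1 h).elim (fun h => ?_) id⟩
    rwa [(Nat.prime_dvd_prime_iff_eq hr Nat.prime_two).1 (hr.dvd_of_dvd_pow h)]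
  · intro r s hr hs hrs
    rw [hgraph r s hr hs hrs]
    exact (ho _).symm

end Cfsg.Lib.Suz
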