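import Cfsg.Agent.Suz.PrincipalSeries
import Cfsg.Agent.Known.SzMinDegree
import Cfsg.Agent.Chars.AbelianTIExc
import Cfsg.Agent.Chars.ClassEigen

/-! The degrees of the irreducible characters of a Suzuki group. -/

set_option autoImplicit false
set_option linter.unusedSectionVars false
set_option linter.style.haveILetI false

open scoped ComplexConjugate

namespace Cfsg.Lib.Suz

section General

variable {G : Type*} [Group G] [Fintype G]

theorem exists_dvd_sub_of_const (A : Subgroup G) (hA : ∀ x ∈ A, ∀ y ∈ A, x * y = y * x) (hA1 : A ≠ ⊥)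
    {χ : G → ℂ} (hχ : Cfsg.IsCharacter G χ) {c : ℤ} (hc : ∀ a ∈ A, a ≠ 1 → χ a = c) :
    (Nat.card A : ℤ) ∣ (Cfsg.Lib.Chars.deg χ : ℤ) - c := by
  classical
  haveI : Fintype A := Fintype.ofFinite _
  obtain ⟨a, ha⟩ := A.ne_bot_iff_exists_ne_one.1 hA1
  obtain ⟨f, hf⟩ := Cfsg.Lib.Dual.exists_hom_ne_one (fun x y => Subtype.ext (hA x x.2 y y.2)) ha
  obtain ⟨k, hk⟩ := Cfsg.Lib.Chars.classInner_char_nat (Cfsg.Lib.Chars.IsCharacter.restrict hχ A)
    (Cfsg.Lib.Chars.isCharacter_linear f)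
  have h1 : ∀ b : A, χ b * conj (f b : ℂ) = c * conj (f b : ℂ) + if b = 1 then χ 1 - c else 0 := by
    intro b
    by_cases hb : b = 1
    · subst hb; simp
    · rw [hc b b.2 (fun e => hb (Subtype.ext e)), if_neg hb, add_zero]
  rw [Cfsg.Lib.Chars.classInner_def, Finset.sum_congr rfl fun b _ => h1 b, Finset.sum_add_distrib,
    ← Finset.mul_sum, ← map_sum, show ∑ b : A, ((f b : ℂˣ) : ℂ) = 0 from
      sum_hom_units_eq_zero ((Units.coeHom ℂ).comp f) fun h' => hf (Units.ext (DFunLike.congr_fun h' a)),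
    map_zero, mul_zero, zero_add, Finset.sum_ite_eq' Finset.univ (1 : A), if_pos (Finset.mem_univ _),
    inv_mul_eq_iff_eq_mul₀ (by exact_mod_cast Nat.card_pos.ne'),
    Cfsg.Lib.Chars.IsCharacter.apply_one_eq_deg hχ] at hk
  exact ⟨k, by exact_mod_cast hk⟩

theorem dvd_deg_of_vanish (A : Subgroup G) (hA : ∀ x ∈ A, ∀ y ∈ A, x * y = y * x) (hA1 : A ≠ ⊥)
    {χ : G → ℂ} (hχ : Cfsg.IsCharacter G χ) (hc : ∀ a ∈ A, a ≠ 1 → χ a = 0) :
    Nat.card A ∣ Cfsg.Lib.Chars.deg χ := by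
  have h := exists_dvd_sub_of_const A hA hA1 hχ (c := 0) (by simpa using hc)
  rw [sub_zero] at h
  exact_mod_cast h

theorem normSq_int_column (a : G) :
    ∑ χ : Cfsg.IrrCharacter G, Complex.normSq ((χ : G → ℂ) a) =
      (Nat.card (Subgroup.centralizer ({a} : Set G)) : ℝ) := by
  classical
  apply Complex.ofReal_injective
  simp only [Complex.ofReal_sum, Complex.normSq_eq_conj_mul_self]
  rw [Finset.sum_congr rfl fun χ _ => mul_comm _ _, Cfsg.Lib.Chars.second_orthogonality,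
    if_pos (IsConj.refl _)]
  simp

theorem no_sq_two {f K : ℕ} (hK : 0 < K) : f * f ≠ 2 * (K * K) := by
  intro h
  have hf : f ≠ 0 := fun h0 => by subst h0; simp at h; omega
  have h1 := congrArg (fun x => x.factorization 2) h
  simp only [Nat.factorization_mul hf hf, Nat.factorization_mul two_ne_zero (Nat.mul_pos hK hK).ne',
    Nat.factorization_mul hK.ne' hK.ne', Finsupp.add_apply, Nat.prime_two.factorization_self] at h1
  omega

theorem two_squares {ι : Type*} (s : Finset ι) (f : ι → ℕ) {K : ℕ} (hK : 0 < K)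
    (hf : ∀ i ∈ s, K ≤ f i) (hsum : ∑ i ∈ s, f i * f i = 2 * (K * K)) :
    s.Nonempty ∧ ∀ i ∈ s, f i = K := by
  classical
  have hKK : 0 < K * K := Nat.mul_pos hK hK
  have hge : ∀ i ∈ s, K * K ≤ f i * f i := fun i hi => Nat.mul_le_mul (hf i hi) (hf i hi)
  have h1 : s.card * (K * K) ≤ 2 * (K * K) := by
    rw [← hsum, ← smul_eq_mul]
    exact Finset.card_nsmul_le_sum s _ _ hge
  have h2 : s.card ≤ 2 := Nat.le_of_mul_le_mul_right h1 hKK
  interval_cases hc : s.card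
  · rw [Finset.card_eq_zero] at hc
    subst hc
    simp at hsum
    omega
  · obtain ⟨i, rfl⟩ := Finset.card_eq_one.1 hc
    rw [Finset.sum_singleton] at hsum
    exact absurd hsum (no_sq_two hK)
  · obtain ⟨i, j, hij, rfl⟩ := Finset.card_eq_two.1 hc
    rw [Finset.sum_pair hij] at hsum
    have hi := hge i (by simp)
    have hj := hge j (by simp)
    refine ⟨⟨i, by simp⟩, fun x hx => ?_⟩
    rcases Finset.mem_insert.1 hx with rfl | hx
    · exact Nat.mul_self_inj.1 (by omega)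
    · rw [Finset.mem_singleton] at hx
      subst hx
      exact Nat.mul_self_inj.1 (by omega)

theorem sq_le_two {c : ℤ} (h : c * c ≤ 2) : -1 ≤ c ∧ c ≤ 1 := ⟨by nlinarith, by nlinarith⟩

theorem one_le_sq {c : ℤ} (h : c ≠ 0) : 1 ≤ c * c := by
  rcases lt_or_gt_of_ne h with h | h <;> nlinarith

theorem le_fifteen {w : ℕ} (h : 7 * w * (7 * w) ≤ 12348) : w ≤ 15 := by nlinarith

theorem le_nine {v : ℕ} (h : v * v ≤ 84) : v ≤ 9 := by nlinarith

theorem not_mem_of_card_ne (A : Subgroup G) {g : G}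
    (hA : ∀ a ∈ A, a ≠ 1 → Subgroup.centralizer ({a} : Set G) = A)
    (hg : Nat.card (Subgroup.centralizer ({g} : Set G)) ≠ Nat.card A) (x : G)
    (hx : x⁻¹ * g * x ∈ A) : x⁻¹ * g * x = 1 := by
  by_contra h1
  refine hg ?_
  have h := hA _ hx h1
  rw [← h]
  refine Nat.card_congr (((Subgroup.centralizer ({g} : Set G)).equivMapOfInjective
    (MulAut.conj x⁻¹).toMonoidHom (MulAut.conj x⁻¹).injective).toEquiv.trans (Equiv.setCongr ?_))
  ext y
  constructor
  · rintro ⟨z, hz, rfl⟩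
    rw [SetLike.mem_coe, Subgroup.mem_centralizer_singleton_iff] at hz ⊢
    simp only [MulEquiv.coe_toMonoidHom, MulAut.conj_apply, inv_inv]
    calc x⁻¹ * z * x * (x⁻¹ * g * x) = x⁻¹ * (z * g) * x := by group
      _ = x⁻¹ * (g * z) * x := by rw [hz]
      _ = x⁻¹ * g * x * (x⁻¹ * z * x) := by group
  · intro hy
    refine ⟨x * y * x⁻¹, ?_, by simp [mul_assoc]⟩
    rw [SetLike.mem_coe, Subgroup.mem_centralizer_singleton_iff] at hy ⊢
    calc x * y * x⁻¹ * g = x * (y * (x⁻¹ * g * x)) * x⁻¹ := by group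
      _ = x * (x⁻¹ * g * x * y) * x⁻¹ := by rw [hy]
      _ = g * (x * y * x⁻¹) := by group

end General

variable {F : Type*} [Field F] [Fintype F] {m : ℕ} (Q : Par F m)
include Q

/-- An irreducible character of degree above one has degree at least `2^m (q - 1)`. -/
theorem irr_min_degree (χ : Cfsg.IrrCharacter (Cfsg.Sz F m))
    (h2 : 2 ≤ Cfsg.Lib.Chars.deg (χ : Cfsg.Sz F m → ℂ)) :
    2 ^ m * (2 ^ (2 * m + 1) - 1) ≤ Cfsg.Lib.Chars.deg (χ : Cfsg.Sz F m → ℂ) := by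
  haveI : IsSimpleGroup (Cfsg.Sz F m) := simple Q
  obtain ⟨k, ρ, hirr, hρ⟩ := χ.2
  have hdeg : Cfsg.Lib.Chars.deg (χ : Cfsg.Sz F m → ℂ) = k := by
    rw [← hρ, Cfsg.Lib.Chars.deg_character, Module.finrank_fin_fun]
  rw [hdeg] at h2 ⊢
  have hinj : Function.Injective ρ := by
    rw [← MonoidHom.ker_eq_bot_iff]
    refine (MonoidHom.normal_ker ρ).eq_bot_or_eq_top.resolve_right fun h => ?_
    have hall : ∀ g, ρ g = 1 := fun g => MonoidHom.mem_ker.1 (h ▸ Subgroup.mem_top g)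
    let S : Subrepresentation ρ :=
      ⟨Submodule.span ℂ {(Pi.single ⟨0, by omega⟩ 1 : Fin k → ℂ)}, fun g v hv => by rw [hall]; exact hv⟩
    have h1 : Module.finrank ℂ S.toSubmodule = 1 := finrank_span_singleton (by simp)
    have : IsSimpleOrder (Subrepresentation ρ) := hirr
    rcases IsSimpleOrder.eq_bot_or_eq_top S with h' | h' <;>
      rw [show S.toSubmodule = _ from congrArg Subrepresentation.toSubmodule h'] at h1
    · rw [show ((⊥ : Subrepresentation ρ).toSubmodule) = ⊥ from rfl, finrank_bot] at h1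
      exact zero_ne_one h1
    · rw [show ((⊤ : Subrepresentation ρ).toSubmodule) = ⊤ from rfl, finrank_top, Module.finrank_fin_fun] at h1
      omega
  have h := min_degree Q ρ hinj
  rwa [Module.finrank_fin_fun] at h

/-- A cyclic torus acting freely, with its family of exceptional characters. -/
structure TorusFam [Fintype (Cfsg.Sz F m)] (A : Subgroup (Cfsg.Sz F m))
    (Y : Finset (Cfsg.IrrCharacter (Cfsg.Sz F m))) : Prop where
  free : ∀ a ∈ A, a ≠ 1 → Free Q a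
  cent : ∀ a ∈ A, a ≠ 1 → Subgroup.centralizer ({a} : Set (Cfsg.Sz F m)) = A
  card : 4 * Y.card + 1 = Nat.card A
  same : ∀ χ ∈ Y, ∀ χ' ∈ Y, ∀ g : Cfsg.Sz F m, (∀ x, x⁻¹ * g * x ∈ A → x⁻¹ * g * x = 1) →
    (χ : Cfsg.Sz F m → ℂ) g = (χ' : Cfsg.Sz F m → ℂ) g
  outside : ∀ χ, χ ∉ Y → ∃ c : ℤ, ∀ a ∈ A, a ≠ 1 → (χ : Cfsg.Sz F m → ℂ) a = c
  nonconst : ∀ χ ∈ Y, ∀ c : ℂ, ∃ a ∈ A, a ≠ 1 ∧ (χ : Cfsg.Sz F m → ℂ) a ≠ c
  distinct : ∀ χ ∈ Y, ∀ χ' ∈ Y, χ ≠ χ' →
    ∃ a ∈ A, a ≠ 1 ∧ (χ : Cfsg.Sz F m → ℂ) a ≠ (χ' : Cfsg.Sz F m → ℂ) a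
  column : ∀ a ∈ A, a ≠ 1 → (Nat.card A : ℝ) - 4 ≤ ∑ χ ∈ Y, Complex.normSq ((χ : Cfsg.Sz F m → ℂ) a)

theorem exists_torusFam [Fintype (Cfsg.Sz F m)] {g : Cfsg.Sz F m} (hg : Free Q g)
    (hN : Nat.card (Subgroup.normalizer (tor g : Set (Cfsg.Sz F m))) = 4 * Nat.card (tor g))
    (h9 : 9 ≤ Nat.card (tor g)) : ∃ Y, TorusFam Q (tor g) Y := by
  classical
  obtain ⟨-, hall, -⟩ := tor_spec Q hg
  haveI : Fintype (tor g) := Fintype.ofFinite _
  haveI : Fintype (tor g →* ℂˣ) := Fintype.ofFinite _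
  have hC : ∀ a ∈ tor g, a ≠ 1 → Subgroup.centralizer ({a} : Set (Cfsg.Sz F m)) = tor g :=
    fun a ha h1 => (hall a ha h1).2
  have he : ((tor g).subgroupOf (Subgroup.normalizer (tor g : Set (Cfsg.Sz F m)))).index = 4 := by
    have h1 := ((tor g).subgroupOf (Subgroup.normalizer (tor g : Set (Cfsg.Sz F m)))).card_mul_index
    rw [hN, Nat.card_congr (Subgroup.subgroupOfEquivOfLe Subgroup.le_normalizer).toEquiv, mul_comm 4] at h1
    exact Nat.eq_of_mul_eq_mul_left Nat.card_pos h1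
  obtain ⟨Y, h1, h2, h3, h4, h5, h6⟩ := Cfsg.Lib.Chars.AbelianTI.exists_exceptional hC he (by omega)
  exact ⟨Y, fun a ha ha1 => (hall a ha ha1).1, hC, h1, h2, h3, h4, h5, fun a ha ha1 => by
    simpa using h6 a ha ha1⟩

set_option maxHeartbeats 4000000 in
theorem char_degrees :
    (∀ χ : Cfsg.IrrCharacter (Cfsg.Sz F m), Cfsg.Lib.Chars.deg (χ : Cfsg.Sz F m → ℂ) ∈ ({1,
      (2 ^ (2 * m + 1)) ^ 2, (2 ^ (2 * m + 1)) ^ 2 + 1,
      (2 ^ (2 * m + 1) - 1) * (2 ^ (2 * m + 1) - 2 ^ (m + 1) + 1),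
      (2 ^ (2 * m + 1) - 1) * (2 ^ (2 * m + 1) + 2 ^ (m + 1) + 1),
      2 ^ m * (2 ^ (2 * m + 1) - 1)} : Set ℕ)) ∧
    ∀ d ∈ ({(2 ^ (2 * m + 1)) ^ 2, (2 ^ (2 * m + 1)) ^ 2 + 1,
      (2 ^ (2 * m + 1) - 1) * (2 ^ (2 * m + 1) - 2 ^ (m + 1) + 1),
      (2 ^ (2 * m + 1) - 1) * (2 ^ (2 * m + 1) + 2 ^ (m + 1) + 1),
      2 ^ m * (2 ^ (2 * m + 1) - 1)} : Set ℕ),
      ∃ χ : Cfsg.IrrCharacter (Cfsg.Sz F m), Cfsg.Lib.Chars.deg (χ : Cfsg.Sz F m → ℂ) = d := by
  classical
  haveI : Fintype (Cfsg.Sz F m) := Fintype.ofFinite _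
  haveI : IsSimpleGroup (Cfsg.Sz F m) := simple Q
  obtain ⟨St, X, hSt1, hStF, hXc, hX1, hXF, hvan⟩ := exists_known Q
  obtain ⟨a, b, ha, hb, ea, eb, na, nb, -⟩ := two_tori Q
  have hm := Q.hm
  set q := 2 ^ (2 * m + 1) with hq
  set s := 2 ^ (m + 1) with hs
  set K := 2 ^ m with hK
  have hqK : q = 2 * (K * K) := by rw [hq, hK, ← pow_add, ← pow_succ', two_mul]
  have hsK : s = 2 * K := by rw [hs, hK, pow_succ']
  have hK2 : 2 ≤ K := by
    calc 2 = 2 ^ 1 := rfl
      _ ≤ K := Nat.pow_le_pow_right two_pos hm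
  have hsq : s ≤ q := by
    rw [hqK, hsK]
    have := Nat.mul_le_mul_right K hK2
    omega
  set one := Cfsg.Lib.Chars.principal (Cfsg.Sz F m) with hone
  let d : Cfsg.IrrCharacter (Cfsg.Sz F m) → ℕ := fun χ => Cfsg.Lib.Chars.deg (χ : Cfsg.Sz F m → ℂ)
  have hd : ∀ (χ : Cfsg.IrrCharacter (Cfsg.Sz F m)) (n : ℕ), (χ : Cfsg.Sz F m → ℂ) 1 = n → d χ = n := by
    intro χ n h
    rw [Cfsg.Lib.Chars.irr_apply_one_eq_deg] at h
    exact_mod_cast h
  have hd1 : d one = 1 := hd one 1 (by simp [hone, Cfsg.Lib.Chars.principal])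
  have hdSt : d St = q ^ 2 := hd St _ hSt1
  have hdX : ∀ χ ∈ X, d χ = q ^ 2 + 1 := fun χ hχ => hd χ _ (hX1 χ hχ)
  have hq8 : 8 ≤ q := by
    rw [hqK]
    have := Nat.mul_le_mul hK2 hK2
    omega
  have hq64 : 64 ≤ q ^ 2 := Nat.pow_le_pow_left hq8 2
  have h1St : one ≠ St := fun h => by rw [h, hdSt] at hd1; omega
  have h1X : one ∉ X := fun h => by
    have := hdX one h
    rw [hd1] at this
    omega
  have hStX : St ∉ X := fun h => by
    have := hdX St h
    omega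
  set R := (((Finset.univ : Finset (Cfsg.IrrCharacter (Cfsg.Sz F m))).erase one).erase St) \ X with hR
  have hRmem : ∀ χ, χ ∈ R ↔ χ ∉ X ∧ χ ≠ St ∧ χ ≠ one := fun χ => by
    simp only [hR, Finset.mem_sdiff, Finset.mem_erase, Finset.mem_univ, and_true]
    tauto
  have hsplit : ∀ f : Cfsg.IrrCharacter (Cfsg.Sz F m) → ℝ,
      ∑ χ, f χ = f one + (f St + (∑ χ ∈ X, f χ + ∑ χ ∈ R, f χ)) := by
    intro f
    rw [← Finset.add_sum_erase Finset.univ _ (Finset.mem_univ one),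
      ← Finset.add_sum_erase _ _ (Finset.mem_erase.2 ⟨h1St.symm, Finset.mem_univ St⟩)]
    congr 2
    rw [hR, add_comm, Finset.sum_sdiff]
    intro χ hχ
    exact Finset.mem_erase.2 ⟨fun e => hStX (e ▸ hχ),
      Finset.mem_erase.2 ⟨fun e => h1X (e ▸ hχ), Finset.mem_univ _⟩⟩
  -- sum of the squares
  have htot : ∑ χ ∈ R, d χ * d χ + 1 + q ^ 4 + X.card * (q ^ 2 + 1) ^ 2 = q ^ 2 * (q ^ 2 + 1) * (q - 1) := by
    have h := Cfsg.Lib.Chars.sum_deg_sq_nat (G := Cfsg.Sz F m)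
    rw [card_Sz Q] at h
    have h' : ((∑ χ, d χ * d χ : ℕ) : ℝ) = ((q ^ 2 * (q ^ 2 + 1) * (q - 1) : ℕ) : ℝ) := by
      rw [← h]; congr 1; exact Finset.sum_congr rfl fun χ _ => (sq _).symm
    rw [Nat.cast_sum, hsplit, Finset.sum_congr rfl (s₁ := X) fun χ hχ => by rw [hdX χ hχ],
      Finset.sum_const, hd1, hdSt, nsmul_eq_mul] at h'
    rw [← Nat.cast_inj (R := ℝ)]
    push_cast at h' ⊢
    linear_combination h'
  -- divisibility by q - 1
  have hH : ∀ χ ∈ R, q - 1 ∣ d χ := by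
    intro χ hχ
    obtain ⟨h1, h2, h3⟩ := (hRmem χ).1 hχ
    rw [← (range_data Q).2]
    refine dvd_deg_of_vanish _ ?_ ?_ (Cfsg.Lib.Chars.isCharacter_of_irr χ.2) ?_
    · rintro _ ⟨x, rfl⟩ _ ⟨y, rfl⟩
      rw [← map_mul, ← map_mul, mul_comm]
    · intro h
      have := (range_data Q).2
      rw [h, Subgroup.card_bot] at this
      omega
    · rintro _ ⟨k, rfl⟩ hk
      exact hvan χ h1 h2 h3 k fun e => hk (by rw [e, map_one])
  have hmin : ∀ χ ∈ R, K * (q - 1) ≤ d χ := by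
    intro χ hχ
    refine irr_min_degree Q χ ?_
    have h : q - 1 ≤ d χ := Nat.le_of_dvd (Cfsg.Lib.Chars.deg_irr_pos χ) (hH χ hχ)
    show 2 ≤ d χ
    omega
  -- the torus families lie in R
  have hsub : ∀ {A : Subgroup (Cfsg.Sz F m)} {Y : Finset (Cfsg.IrrCharacter (Cfsg.Sz F m))},
      TorusFam Q A Y → ∀ χ ∈ Y, χ ∈ R := by
    intro A Y hY χ hχ
    refine (hRmem χ).2 ⟨fun h => ?_, fun h => ?_, fun h => ?_⟩
    · obtain ⟨x, hx, hx1, hne⟩ := hY.nonconst χ hχ 0
      exact hne (hXF χ h x (hY.free x hx hx1))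
    · obtain ⟨x, hx, hx1, hne⟩ := hY.nonconst χ hχ (-1)
      exact hne (h ▸ hStF x (hY.free x hx hx1))
    · obtain ⟨x, hx, hx1, hne⟩ := hY.nonconst χ hχ 1
      exact hne (by rw [h]; rfl)
  have hrest : ∀ {A : Subgroup (Cfsg.Sz F m)} {Y : Finset (Cfsg.IrrCharacter (Cfsg.Sz F m))},
      TorusFam Q A Y → ∀ x ∈ A, x ≠ 1 →
        ∑ χ ∈ R \ Y, Complex.normSq ((χ : Cfsg.Sz F m → ℂ) x) ≤ 2 := by
    intro A Y hY x hx hx1
    have h1 := normSq_int_column (G := Cfsg.Sz F m) x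
    rw [hY.cent x hx hx1, hsplit, ← Finset.sum_sdiff (hsub hY), hStF x (hY.free x hx hx1),
      Finset.sum_eq_zero (s := X) fun χ hχ => by rw [hXF χ hχ x (hY.free x hx hx1), map_zero]] at h1
    have h2 := hY.column x hx hx1
    have h3 : Complex.normSq ((one : Cfsg.Sz F m → ℂ) x) = 1 := by simp [hone, Cfsg.Lib.Chars.principal]
    have h4 : Complex.normSq (-1 : ℂ) = 1 := by simp
    rw [h3, h4] at h1
    linarith
  have hcomm : ∀ {A : Subgroup (Cfsg.Sz F m)} {Y : Finset (Cfsg.IrrCharacter (Cfsg.Sz F m))},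
      TorusFam Q A Y → ∀ x ∈ A, ∀ y ∈ A, x * y = y * x := by
    intro A Y hY x hx y hy
    exact (Cfsg.Lib.Chars.AbelianTI.setting hY.cent).central x hx y hy
  have hnebot : ∀ {A : Subgroup (Cfsg.Sz F m)}, 2 ≤ Nat.card A → A ≠ ⊥ := by
    intro A h hb
    rw [hb, Subgroup.card_bot] at h
    omega
  have hdeg_same : ∀ {A : Subgroup (Cfsg.Sz F m)} {Y : Finset (Cfsg.IrrCharacter (Cfsg.Sz F m))},
      TorusFam Q A Y → ∀ χ ∈ Y, ∀ χ' ∈ Y, d χ = d χ' := by
    intro A Y hY χ hχ χ' hχ'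
    refine hd χ _ ?_
    rw [hY.same χ hχ χ' hχ' 1 (fun x _ => by simp), Cfsg.Lib.Chars.irr_apply_one_eq_deg]
  have hmemR : ∀ χ, χ ∈ R ∨ d χ = 1 ∨ d χ = q ^ 2 ∨ d χ = q ^ 2 + 1 := by
    intro χ
    by_cases h1 : χ = one
    · exact Or.inr (Or.inl (h1 ▸ hd1))
    by_cases h2 : χ = St
    · exact Or.inr (Or.inr (Or.inl (h2 ▸ hdSt)))
    by_cases h3 : χ ∈ X
    · exact Or.inr (Or.inr (Or.inr (hdX χ h3)))
    exact Or.inl ((hRmem χ).2 ⟨h3, h2, h1⟩)
  obtain ⟨r, hr⟩ : ∃ r, q = s + r := ⟨q - s, (Nat.add_sub_cancel' hsq).symm⟩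
  have hprod : (q - s + 1) * (q + s + 1) = q ^ 2 + 1 := by
    have hss : s * s = 2 * q := by rw [hsK, hqK]; ring
    rw [hr, Nat.add_sub_cancel_left]
    rw [hr] at hss
    zify at hss ⊢
    linear_combination (-1 : ℤ) * hss
  -- it suffices to find the three remaining degrees
  suffices hkey : (∀ χ ∈ R, d χ = (q - 1) * (q - s + 1) ∨ d χ = (q - 1) * (q + s + 1) ∨ d χ = K * (q - 1)) ∧
      (∃ χ, d χ = (q - 1) * (q - s + 1)) ∧ (∃ χ, d χ = (q - 1) * (q + s + 1)) ∧ ∃ χ, d χ = K * (q - 1) by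
    obtain ⟨hall, h1, h2, h3⟩ := hkey
    refine ⟨fun χ => ?_, fun e he => ?_⟩
    · simp only [Set.mem_insert_iff, Set.mem_singleton_iff]
      rcases hmemR χ with h | h | h | h
      · rcases hall χ h with h' | h' | h' <;> simp only [d] at h' <;> simp [h']
      all_goals simp only [d] at h; simp [h]
    · simp only [Set.mem_insert_iff, Set.mem_singleton_iff] at he
      rcases he with rfl | rfl | rfl | rfl | rfl
      · exact ⟨St, hdSt⟩
      · obtain ⟨χ, hχ⟩ : X.Nonempty := Finset.card_pos.1 (by omega)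
        exact ⟨χ, hdX χ hχ⟩
      · exact h1
      · exact h2
      · exact h3
  obtain ⟨hca, hcb⟩ : (∀ x ∈ tor a, x ≠ 1 → tor x = tor a) ∧ (∀ x ∈ tor b, x ≠ 1 → tor x = tor b) :=
    ⟨fun x hx h1 => ((tor_spec Q ha).2.1 x hx h1).2, fun x hx h1 => ((tor_spec Q hb).2.1 x hx h1).2⟩
  obtain ⟨Ya, hYa⟩ := exists_torusFam Q ha na (by rw [ea]; omega)
  have hab : Nat.card (tor a) ≠ Nat.card (tor b) := by rw [ea, eb]; omega
  rcases Nat.lt_or_ge m 2 with hm2 | hm2
  · -- the group Sz(8)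
    obtain rfl : m = 1 := by omega
    have hq' : q = 8 := by rw [hq]; rfl
    have hs' : s = 4 := by rw [hs]; rfl
    have hK' : K = 2 := by rw [hK]; rfl
    have hA13 : Nat.card (tor a) = 13 := by rw [ea, hq', hs']
    have hXc' : X.card = 3 := by omega
    have hYc : Ya.card = 3 := by have := hYa.card; omega
    obtain ⟨y, hy⟩ : Ya.Nonempty := Finset.card_pos.1 (by omega)
    obtain ⟨v, hv⟩ := hH y (hsub hYa y hy)
    rw [hq'] at hv htot hH hmin ⊢
    rw [hs', hK'] at *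
    rw [hXc'] at htot
    have hdiv : ∀ χ : Cfsg.IrrCharacter (Cfsg.Sz F 1), d χ ∣ 29120 := by
      intro χ
      have h := Cfsg.Lib.Chars.charDegree_dvd_card (H := Cfsg.Sz F 1) (d := d χ) ⟨χ, rfl⟩
      rwa [card_Sz Q, ← hq, hq'] at h
    -- the characters outside the family
    have hout : ∀ χ ∈ R \ Ya, (d χ = 14 ∧ 1 ≤ Complex.normSq ((χ : Cfsg.Sz F 1 → ℂ) a)) ∨ d χ = 91 := by
      intro χ hχ
      obtain ⟨hχR, hχY⟩ := Finset.mem_sdiff.1 hχ
      obtain ⟨c, hc⟩ := hYa.outside χ hχY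
      have haa : a ∈ tor a := mem_tor.2 (Commute.refl a)
      have ha1 := free_ne_one Q ha
      have hb2 := le_trans (Finset.single_le_sum (f := fun χ : Cfsg.IrrCharacter (Cfsg.Sz F 1) =>
        Complex.normSq ((χ : Cfsg.Sz F 1 → ℂ) a)) (fun _ _ => Complex.normSq_nonneg _) hχ)
        (hrest hYa a haa ha1)
      have hcc : Complex.normSq ((χ : Cfsg.Sz F 1 → ℂ) a) = ((c * c : ℤ) : ℝ) := by
        rw [hc a haa ha1, ← Complex.ofReal_intCast, Complex.normSq_ofReal]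
        push_cast; rfl
      rw [hcc] at hb2
      have hc2 : c * c ≤ 2 := by exact_mod_cast hb2
      have hc1 : -1 ≤ c ∧ c ≤ 1 := sq_le_two hc2
      have hdvd := exists_dvd_sub_of_const (tor a) (hcomm hYa) (hnebot (by omega))
        (Cfsg.Lib.Chars.isCharacter_of_irr χ.2) hc
      rw [hA13] at hdvd
      change ((13 : ℕ) : ℤ) ∣ (d χ : ℤ) - c at hdvd
      obtain ⟨w, hw⟩ := hH χ hχR
      have hmin' := hmin χ hχR
      have hle : d χ * d χ ≤ 12348 := by
        have := Finset.single_le_sum (f := fun χ => d χ * d χ) (fun _ _ => Nat.zero_le _) hχR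
        omega
      have hwd : w ∣ 4160 := by
        have := hdiv χ
        rw [hw, show (8 - 1 : ℕ) = 7 from rfl, show (29120 : ℕ) = 7 * 4160 from rfl] at this
        exact Nat.dvd_of_mul_dvd_mul_left (by norm_num) this
      have hw15 : w ≤ 15 := le_fifteen (by rw [← show d χ = 7 * w from hw]; exact hle)
      have hw2 : 2 ≤ w := by omega
      rcases eq_or_ne c 0 with rfl | hc0
      · right
        interval_cases w <;> norm_num at hwd <;> omega
      · left
        refine ⟨?_, ?_⟩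
        · interval_cases w <;> norm_num at hwd <;> omega
        · rw [hcc]
          have : 1 ≤ c * c := one_le_sq hc0
          exact_mod_cast this
    set j := ((R \ Ya).filter fun χ => d χ = 14).card with hj
    set i := ((R \ Ya).filter fun χ => ¬ d χ = 14).card with hi
    have hj2 : j ≤ 2 := by
      have haa : a ∈ tor a := mem_tor.2 (Commute.refl a)
      have h1 : (j : ℝ) ≤ ∑ χ ∈ (R \ Ya).filter (fun χ => d χ = 14), Complex.normSq ((χ : Cfsg.Sz F 1 → ℂ) a) := by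
        have := Finset.card_nsmul_le_sum ((R \ Ya).filter fun χ => d χ = 14)
          (fun χ : Cfsg.IrrCharacter (Cfsg.Sz F 1) => Complex.normSq ((χ : Cfsg.Sz F 1 → ℂ) a)) 1 fun χ hχ => by
          obtain ⟨hχ1, hχ2⟩ := Finset.mem_filter.1 hχ
          rcases hout χ hχ1 with h | h
          · exact h.2
          · omega
        simpa using this
      have h2 : (j : ℝ) ≤ ((2 : ℕ) : ℝ) := by
        push_cast
        exact h1.trans ((Finset.sum_le_sum_of_subset_of_nonneg (Finset.filter_subset _ _)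
          fun _ _ _ => Complex.normSq_nonneg _).trans (hrest hYa a haa (free_ne_one Q ha)))
      exact_mod_cast h2
    have hsum : ∑ χ ∈ R, d χ * d χ = 3 * (49 * (v * v)) + j * 196 + i * 8281 := by
      rw [← Finset.sum_sdiff (hsub hYa), ← Finset.sum_filter_add_sum_filter_not (R \ Ya) (fun χ => d χ = 14),
        Finset.sum_congr rfl (g := fun _ => 196) fun χ hχ => by rw [(Finset.mem_filter.1 hχ).2],
        Finset.sum_congr rfl (s₁ := (R \ Ya).filter fun χ => ¬ d χ = 14) (g := fun _ => 8281) fun χ hχ => by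
          obtain ⟨hχ1, hχ2⟩ := Finset.mem_filter.1 hχ
          rcases hout χ hχ1 with h | h
          · exact absurd h.1 hχ2
          · rw [h],
        Finset.sum_congr rfl (s₁ := Ya) (g := fun _ => 49 * (v * v)) fun χ hχ => by
          rw [hdeg_same hYa χ hχ y hy, hv]; ring,
        Finset.sum_const, Finset.sum_const, Finset.sum_const, hYc, ← hj, ← hi, smul_eq_mul, smul_eq_mul,
        smul_eq_mul]
      ring
    have hvd : v ∣ 4160 := by
      have := hdiv y
      rw [hv, show (8 - 1 : ℕ) = 7 from rfl, show (29120 : ℕ) = 7 * 4160 from rfl] at this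
      exact Nat.dvd_of_mul_dvd_mul_left (by norm_num) this
    rw [hsum] at htot
    have hv15 : v ≤ 9 := le_nine (by omega)
    have hv2 : 2 ≤ v := by have := hmin y (hsub hYa y hy); omega
    have hsol : v = 5 ∧ j = 2 ∧ i = 1 := by
      have hi1 : i ≤ 1 := by omega
      interval_cases v <;> norm_num at hvd <;> interval_cases i <;> omega
    obtain ⟨rfl, hj', hi'⟩ := hsol
    refine ⟨fun χ hχ => ?_, ⟨y, by rw [hv]⟩, ?_, ?_⟩
    · by_cases hχY : χ ∈ Ya
      · exact Or.inl (by rw [hdeg_same hYa χ hχY y hy |>.trans hv])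
      · rcases hout χ (Finset.mem_sdiff.2 ⟨hχ, hχY⟩) with h | h
        · exact Or.inr (Or.inr (by rw [h.1]))
        · exact Or.inr (Or.inl (by rw [h]))
    · obtain ⟨χ, hχ⟩ : ((R \ Ya).filter fun χ => ¬ d χ = 14).Nonempty := Finset.card_pos.1 (by omega)
      obtain ⟨hχ1, hχ2⟩ := Finset.mem_filter.1 hχ
      rcases hout χ hχ1 with h | h
      · exact absurd h.1 hχ2
      · exact ⟨χ, h⟩
    · obtain ⟨χ, hχ⟩ : ((R \ Ya).filter fun χ => d χ = 14).Nonempty := Finset.card_pos.1 (by omega)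
      exact ⟨χ, (Finset.mem_filter.1 hχ).2⟩
  · -- the larger groups
    have hK4 : 4 ≤ K := by
      calc 4 = 2 ^ 2 := rfl
        _ ≤ K := Nat.pow_le_pow_right two_pos hm2
    have hr25 : 24 ≤ r := by
      rw [hsK, hqK] at hr
      have := Nat.mul_le_mul_right K hK4
      omega
    obtain ⟨Yb, hYb⟩ := exists_torusFam Q hb nb (by rw [eb]; omega)
    have hna : 3 ≤ Ya.card := by have := hYa.card; omega
    have hnb : 3 ≤ Yb.card := by have := hYb.card; omega
    -- one family is constant, hence zero, on the other torus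
    have key : ∀ {A B : Subgroup (Cfsg.Sz F m)} {Y Z : Finset (Cfsg.IrrCharacter (Cfsg.Sz F m))},
        TorusFam Q A Y → TorusFam Q B Z → Nat.card A ≠ Nat.card B → 2 ≤ Nat.card B → 3 ≤ Y.card →
          Disjoint Y Z ∧ ∀ χ ∈ Y, Nat.card B ∣ d χ := by
      intro A B Y Z hY hZ hne h2 h3
      have hagree : ∀ χ ∈ Y, ∀ χ' ∈ Y, ∀ x ∈ B, x ≠ 1 →
          (χ : Cfsg.Sz F m → ℂ) x = (χ' : Cfsg.Sz F m → ℂ) x := fun χ hχ χ' hχ' x hx hx1 =>
        hY.same χ hχ χ' hχ' x fun g hg => not_mem_of_card_ne A hY.cent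
          (by rw [hZ.cent x hx hx1]; exact hne.symm) g hg
      have hdisj : Disjoint Y Z := by
        refine Finset.disjoint_left.2 fun χ hχ hχZ => ?_
        have hall : ∀ χ' ∈ Y, χ' ∈ Z := by
          intro χ' hχ'
          by_contra hn
          obtain ⟨c, hc⟩ := hZ.outside χ' hn
          obtain ⟨x, hx, hx1, hne'⟩ := hZ.nonconst χ hχZ c
          exact hne' ((hagree χ hχ χ' hχ' x hx hx1).trans (hc x hx hx1))
        obtain ⟨χ', hχ', hne'⟩ := Finset.exists_mem_ne (show 1 < Y.card by omega) χ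
        obtain ⟨x, hx, hx1, hne''⟩ := hZ.distinct χ' (hall χ' hχ') χ hχZ hne'
        exact hne'' (hagree χ' hχ' χ hχ x hx hx1)
      refine ⟨hdisj, fun χ hχ => dvd_deg_of_vanish B (hcomm hZ) (hnebot h2)
        (Cfsg.Lib.Chars.isCharacter_of_irr χ.2) fun x hx hx1 => ?_⟩
      obtain ⟨c, hc⟩ := hZ.outside χ (Finset.disjoint_left.1 hdisj hχ)
      have hcY : ∀ χ' ∈ Y, Complex.normSq ((χ' : Cfsg.Sz F m → ℂ) x) = ((c * c : ℤ) : ℝ) := by
        intro χ' hχ'
        rw [hagree χ' hχ' χ hχ x hx hx1, hc x hx hx1, ← Complex.ofReal_intCast, Complex.normSq_ofReal]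
        push_cast; rfl
      have h1 : ((Y.card : ℤ) * (c * c) : ℤ) ≤ (2 : ℤ) := by
        have h := (Finset.sum_le_sum_of_subset_of_nonneg (f := fun χ : Cfsg.IrrCharacter (Cfsg.Sz F m) =>
          Complex.normSq ((χ : Cfsg.Sz F m → ℂ) x)) (fun χ' hχ' => Finset.mem_sdiff.2
            ⟨hsub hY χ' hχ', Finset.disjoint_left.1 hdisj hχ'⟩) fun _ _ _ => Complex.normSq_nonneg _).trans
          (hrest hZ x hx hx1)
        rw [Finset.sum_congr rfl hcY, Finset.sum_const, nsmul_eq_mul] at h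
        exact_mod_cast h
      have h3' : (3 : ℤ) ≤ Y.card := by exact_mod_cast h3
      have hc0 : c = 0 := by
        by_contra hc0
        have : 1 ≤ c * c := one_le_sq hc0
        have := mul_le_mul h3' this zero_le_one (by omega)
        linarith
      rw [hc x hx hx1, hc0]; simp
    obtain ⟨hdisj, hdvdA⟩ := key hYa hYb hab (by rw [eb]; omega) hna
    obtain ⟨-, hdvdB⟩ := key hYb hYa hab.symm (by rw [ea]; omega) hnb
    -- coprimality
    have hcop : ∀ n, n ∣ q ^ 2 + 1 → Nat.Coprime (q - 1) n := by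
      intro n hn
      refine Nat.Coprime.coprime_dvd_right hn (Nat.coprime_of_dvd fun p hp h1 h2 => ?_)
      have hz1 : (q : ZMod p) = 1 := by
        have := (ZMod.natCast_eq_zero_iff _ _).2 h1
        rw [Nat.cast_sub (by omega), sub_eq_zero] at this
        simpa using this
      have hz2 := (ZMod.natCast_eq_zero_iff _ _).2 h2
      push_cast at hz2
      rw [hz1] at hz2
      have hp2 : ((2 : ℕ) : ZMod p) = 0 := by push_cast; linear_combination hz2
      rw [ZMod.natCast_eq_zero_iff, Nat.prime_dvd_prime_iff_eq hp Nat.prime_two] at hp2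
      subst hp2
      omega
    have hA' : Nat.card (tor a) ∣ q ^ 2 + 1 := by rw [ea, ← hprod]; exact Dvd.intro_left _ rfl
    have hB' : Nat.card (tor b) ∣ q ^ 2 + 1 := by rw [eb, ← hprod]; exact Dvd.intro _ rfl
    have hYaR : ∀ χ ∈ Ya, ∃ u, 1 ≤ u ∧ d χ = (q - 1) * (q - s + 1) * u := by
      intro χ hχ
      obtain ⟨u, hu⟩ := (hcop _ hB').mul_dvd_of_dvd_of_dvd (hH χ (hsub hYa χ hχ)) (hdvdA χ hχ)
      rw [eb] at hu
      exact ⟨u, Nat.pos_of_ne_zero fun h0 => (Cfsg.Lib.Chars.deg_irr_pos χ).ne' (by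
        show d χ = 0
        rw [hu, h0, mul_zero]), hu⟩
    have hYbR : ∀ χ ∈ Yb, ∃ u, 1 ≤ u ∧ d χ = (q - 1) * (q + s + 1) * u := by
      intro χ hχ
      obtain ⟨u, hu⟩ := (hcop _ hA').mul_dvd_of_dvd_of_dvd (hH χ (hsub hYb χ hχ)) (hdvdB χ hχ)
      rw [ea] at hu
      exact ⟨u, Nat.pos_of_ne_zero fun h0 => (Cfsg.Lib.Chars.deg_irr_pos χ).ne' (by
        show d χ = 0
        rw [hu, h0, mul_zero]), hu⟩
    set Rest := R \ (Ya ∪ Yb) with hRest
    have hU : Ya ∪ Yb ⊆ R := Finset.union_subset (hsub hYa) (hsub hYb)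
    rw [← Finset.sum_sdiff hU, Finset.sum_union hdisj, ← hRest] at htot
    -- the sum of squares is as small as it can be
    set P := (q - 1) * (q - s + 1) with hP
    set M := (q - 1) * (q + s + 1) with hM
    have hident : 2 * ((K * (q - 1)) * (K * (q - 1))) + Ya.card * (P * P) + Yb.card * (M * M) + 1 + q ^ 4 +
        X.card * (q ^ 2 + 1) ^ 2 = q ^ 2 * (q ^ 2 + 1) * (q - 1) := by
      have hnYa : (4 : ℤ) * Ya.card + 1 = q + s + 1 := by exact_mod_cast hYa.card.trans ea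
      have hnYb : (4 : ℤ) * Yb.card + 1 = (q : ℤ) - s + 1 := by
        have := hYb.card.trans eb
        zify [hsq] at this
        exact this
      have hX' : (2 : ℤ) * X.card + 2 = q := by exact_mod_cast hXc
      have hss : (q : ℤ) = 2 * (K * K) := by exact_mod_cast hqK
      have hsK' : (s : ℤ) = 2 * K := by exact_mod_cast hsK
      zify [hP, hM, hsq, show 1 ≤ q by omega]
      simp only [hss, hsK'] at hnYa hnYb hX' ⊢
      apply mul_left_cancel₀ (show (4 : ℤ) ≠ 0 by norm_num)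
      linear_combination ((2 * ((K : ℤ) * K) - 1) * (2 * (K * K) - 2 * K + 1)) ^ 2 * hnYa +
        ((2 * ((K : ℤ) * K) - 1) * (2 * (K * K) + 2 * K + 1)) ^ 2 * hnYb +
        2 * ((2 * ((K : ℤ) * K)) ^ 2 + 1) ^ 2 * hX'
    have hsmall : q * ((q - 1) * (q - 1)) < 3 * (P * P) ∧ q * ((q - 1) * (q - 1)) < 3 * (M * M) := by
      have h1 : q < (q - s + 1) * (q - s + 1) := by
        rw [hr, Nat.add_sub_cancel_left]
        have : s ≤ r := by
          rw [hsK, hqK] at hr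
          have := Nat.mul_le_mul_right K hK2
          omega
        have := Nat.mul_le_mul_left (r + 1) (show 2 ≤ r + 1 by omega)
        omega
      have h2 : (q - s + 1) ≤ (q + s + 1) := by omega
      have h3 : 0 < (q - 1) * (q - 1) := Nat.mul_pos (by omega) (by omega)
      have h4 := Nat.mul_lt_mul_of_pos_right h1 h3
      have hPP : P * P = (q - s + 1) * (q - s + 1) * ((q - 1) * (q - 1)) := by rw [hP]; ring
      have hPM : P * P ≤ M * M := Nat.mul_le_mul (Nat.mul_le_mul_left _ h2) (Nat.mul_le_mul_left _ h2)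
      constructor <;> omega
    have hqK' : q * ((q - 1) * (q - 1)) = 2 * ((K * (q - 1)) * (K * (q - 1))) := by
      conv_lhs => rw [hqK]
      rw [hqK]; ring
    have hone' : (∀ χ ∈ Ya, d χ = P) ∧ ∀ χ ∈ Yb, d χ = M := by
      have hgeA : ∀ χ ∈ Ya, P * P ≤ d χ * d χ := fun χ hχ => by
        obtain ⟨u, hu, he⟩ := hYaR χ hχ
        rw [he]
        exact Nat.mul_le_mul (Nat.le_mul_of_pos_right _ hu) (Nat.le_mul_of_pos_right _ hu)
      have hgeB : ∀ χ ∈ Yb, M * M ≤ d χ * d χ := fun χ hχ => by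
        obtain ⟨u, hu, he⟩ := hYbR χ hχ
        rw [he]
        exact Nat.mul_le_mul (Nat.le_mul_of_pos_right _ hu) (Nat.le_mul_of_pos_right _ hu)
      have hA := Finset.card_nsmul_le_sum Ya (fun χ => d χ * d χ) _ hgeA
      have hB := Finset.card_nsmul_le_sum Yb (fun χ => d χ * d χ) _ hgeB
      simp only [smul_eq_mul] at hA hB
      refine ⟨fun χ hχ => ?_, fun χ hχ => ?_⟩
      · obtain ⟨u, hu, he⟩ := hYaR χ hχ
        by_contra hne
        have hu2 : 2 ≤ u := by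
          by_contra h
          exact hne (by rw [he, show u = 1 by omega, mul_one])
        have h4 : 4 * (P * P) ≤ d χ * d χ := by
          rw [he]
          calc 4 * (P * P) = P * 2 * (P * 2) := by ring
            _ ≤ _ := Nat.mul_le_mul (Nat.mul_le_mul_left _ hu2) (Nat.mul_le_mul_left _ hu2)
        have h5 : ∑ x ∈ Ya.erase χ, P * P ≤ ∑ x ∈ Ya.erase χ, d x * d x :=
          Finset.sum_le_sum fun x hx => hgeA x (Finset.mem_of_mem_erase hx)
        rw [Finset.sum_const, smul_eq_mul, Finset.card_erase_of_mem hχ] at h5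
        rw [← Finset.add_sum_erase Ya _ hχ] at htot
        have h6 : (Ya.card - 1) * (P * P) + P * P = Ya.card * (P * P) := by
          rw [← Nat.succ_mul, Nat.succ_eq_add_one, Nat.sub_add_cancel (by omega)]
        omega
      · obtain ⟨u, hu, he⟩ := hYbR χ hχ
        by_contra hne
        have hu2 : 2 ≤ u := by
          by_contra h
          exact hne (by rw [he, show u = 1 by omega, mul_one])
        have h4 : 4 * (M * M) ≤ d χ * d χ := by
          rw [he]
          calc 4 * (M * M) = M * 2 * (M * 2) := by ring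
            _ ≤ _ := Nat.mul_le_mul (Nat.mul_le_mul_left _ hu2) (Nat.mul_le_mul_left _ hu2)
        have h5 : ∑ x ∈ Yb.erase χ, M * M ≤ ∑ x ∈ Yb.erase χ, d x * d x :=
          Finset.sum_le_sum fun x hx => hgeB x (Finset.mem_of_mem_erase hx)
        rw [Finset.sum_const, smul_eq_mul, Finset.card_erase_of_mem hχ] at h5
        rw [← Finset.add_sum_erase Yb _ hχ] at htot
        have h6 : (Yb.card - 1) * (M * M) + M * M = Yb.card * (M * M) := by
          rw [← Nat.succ_mul, Nat.succ_eq_add_one, Nat.sub_add_cancel (by omega)]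
        omega
    obtain ⟨hA1, hB1⟩ := hone'
    rw [Finset.sum_congr rfl (s₁ := Ya) (g := fun _ => P * P) fun χ hχ => by rw [hA1 χ hχ],
      Finset.sum_congr rfl (s₁ := Yb) (g := fun _ => M * M) fun χ hχ => by rw [hB1 χ hχ],
      Finset.sum_const, Finset.sum_const, smul_eq_mul, smul_eq_mul] at htot
    obtain ⟨hne, hall⟩ := two_squares Rest d (Nat.mul_pos (by omega) (by omega) : 0 < K * (q - 1))
      (fun χ hχ => hmin χ (Finset.mem_sdiff.1 hχ).1) (by omega)
    refine ⟨fun χ hχ => ?_, ?_, ?_, ?_⟩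
    · by_cases h1 : χ ∈ Ya
      · exact Or.inl (hA1 χ h1)
      by_cases h2 : χ ∈ Yb
      · exact Or.inr (Or.inl (hB1 χ h2))
      exact Or.inr (Or.inr (hall χ (Finset.mem_sdiff.2 ⟨hχ, by simp [h1, h2]⟩)))
    · obtain ⟨χ, hχ⟩ : Ya.Nonempty := Finset.card_pos.1 (by omega)
      exact ⟨χ, hA1 χ hχ⟩
    · obtain ⟨χ, hχ⟩ : Yb.Nonempty := Finset.card_pos.1 (by omega)
      exact ⟨χ, hB1 χ hχ⟩
    · obtain ⟨χ, hχ⟩ := hne
      exact ⟨χ, hall χ hχ⟩

end Cfsg.Lib.Suz
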