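import Cfsg.Agent.Suz.Sylow

/-! Centralisers in the Suzuki groups and the cyclic subgroups acting freely on the points. -/

set_option autoImplicit false

open Polynomial
open scoped Pointwise

namespace Cfsg.Lib.Suz

section Linear

variable {F : Type*} [Field F] [Fintype F]

theorem minpoly_deg_four (M : Matrix (Fin 4) (Fin 4) F) {p q : ℕ} (hp : p.Prime) (hq : Fintype.card F = q)
    (h2 : CharP F 2) (hp2 : p ≠ 2) (hdvd : p ∣ q ^ 2 + 1) (hM : M ^ p = 1) (hM1 : M ≠ 1) :
    Irreducible (minpoly F M) ∧ (minpoly F M).natDegree = 4 := by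
  classical
  set φ := minpoly F M with hφ
  have hint : IsIntegral F M := Matrix.isIntegral M
  have hφ0 : φ ≠ 0 := minpoly.ne_zero hint
  set S : F[X] := ∑ i ∈ Finset.range p, X ^ i with hS
  have hnc : ¬ IsCoprime φ S := fun ⟨a, b, h⟩ => hM1 (by
    have h1 := congrArg (fun f => aeval M f) h
    simp only [map_add, map_mul, map_one, hφ, minpoly.aeval, mul_zero, zero_add] at h1
    have h2 : aeval M S * (M - 1) = 0 := by
      rw [hS, map_sum]; simp only [map_pow, aeval_X]; rw [geom_sum_mul, hM, sub_self]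
    have h3 : aeval M b * (aeval M S * (M - 1)) = 0 := by rw [h2, mul_zero]
    rw [← mul_assoc, h1, one_mul, sub_eq_zero] at h3
    exact h3)
  rw [← isRelPrime_iff_isCoprime, IsRelPrime] at hnc
  push Not at hnc
  obtain ⟨d, hd1, hd2, hdu⟩ := hnc
  obtain ⟨ψ, hψ, hψd⟩ := WfDvdMonoid.exists_irreducible_factor hdu (fun h => hφ0 (zero_dvd_iff.1 (h ▸ hd1)))
  have hψφ : ψ ∣ φ := hψd.trans hd1
  have : Fact (Irreducible ψ) := ⟨hψ⟩
  set x : AdjoinRoot ψ := AdjoinRoot.root ψ with hx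
  have hSx : aeval x S = 0 := by
    obtain ⟨c, hc⟩ := hψd.trans hd2
    rw [hc, map_mul, AdjoinRoot.aeval_eq, AdjoinRoot.mk_self, zero_mul]
  have hSx' : ∑ i ∈ Finset.range p, x ^ i = 0 := by simpa [hS] using hSx
  have hxp : x ^ p = 1 := by
    have := geom_sum_mul x p
    rw [hSx', zero_mul] at this
    exact sub_eq_zero.1 this.symm
  have hx1 : x ≠ 1 := fun h => by
    rw [h] at hSx'
    simp only [one_pow, Finset.sum_const, Finset.card_range, nsmul_eq_mul, mul_one] at hSx'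
    have hF : (p : F) = 0 := (algebraMap F (AdjoinRoot ψ)).injective (by rw [map_natCast, map_zero]; exact hSx')
    rw [CharP.cast_eq_zero_iff F 2] at hF
    exact hp2 ((Nat.prime_dvd_prime_iff_eq Nat.prime_two hp).1 hF).symm
  have hord : orderOf x = p := by
    have : Fact p.Prime := ⟨hp⟩
    exact orderOf_eq_prime hxp hx1
  let pb := AdjoinRoot.powerBasis hψ.ne_zero
  have hfin : FiniteDimensional F (AdjoinRoot ψ) := pb.finite
  have : Finite (AdjoinRoot ψ) := Module.finite_of_finite F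
  let : Fintype (AdjoinRoot ψ) := Fintype.ofFinite _
  have hfr : Module.finrank F (AdjoinRoot ψ) = ψ.natDegree := by rw [pb.finrank, AdjoinRoot.powerBasis_dim]
  have hcardE : Fintype.card (AdjoinRoot ψ) = q ^ ψ.natDegree := by
    rw [Module.card_eq_pow_finrank (K := F), hfr, hq]
  have hx0 : x ≠ 0 := fun h => by rw [h, zero_pow hp.ne_zero] at hxp; exact zero_ne_one hxp
  have hpd : p ∣ q ^ ψ.natDegree - 1 := by
    rw [← hord, ← hcardE]
    exact orderOf_dvd_of_pow_eq_one (FiniteField.pow_card_sub_one_eq_one x hx0)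
  have hle : φ.natDegree ≤ 4 := by
    have h := natDegree_le_of_dvd (Matrix.minpoly_dvd_charpoly M) (Matrix.charpoly_monic M).ne_zero
    rwa [Matrix.charpoly_natDegree_eq_dim, Fintype.card_fin] at h
  have hdle : ψ.natDegree ≤ 4 := (natDegree_le_of_dvd hψφ hφ0).trans hle
  have hd4 : ψ.natDegree = 4 := by
    have : Fact p.Prime := ⟨hp⟩
    have hq1 : 1 ≤ q ^ ψ.natDegree := Nat.one_le_pow _ _ (hq ▸ Fintype.card_pos)
    have e1 : ((q : ZMod p)) ^ ψ.natDegree = 1 := by
      have := (ZMod.natCast_eq_zero_iff _ _).2 hpd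
      rw [Nat.cast_sub hq1, sub_eq_zero] at this
      simpa using this
    have e2 : (q : ZMod p) ^ 2 + 1 = 0 := by
      have := (ZMod.natCast_eq_zero_iff _ _).2 hdvd
      simpa using this
    have two : (2 : ZMod p) ≠ 0 := fun h => hp2 (by
      have : ((2 : ℕ) : ZMod p) = 0 := by exact_mod_cast h
      exact (Nat.prime_dvd_prime_iff_eq hp Nat.prime_two).1 ((ZMod.natCast_eq_zero_iff _ _).1 this))
    have hpos := hψ.natDegree_pos
    interval_cases hn : ψ.natDegree
    · exact absurd (by linear_combination e2 - (((q : ZMod p)) + 1) * e1) two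
    · exact absurd (by linear_combination e2 - e1) two
    · exact absurd (by linear_combination e2 - ((q : ZMod p) - 1) * ((q : ZMod p) * e2 - e1)) two
    · rfl
  obtain ⟨c, hc⟩ := hψφ
  have hc0 : c ≠ 0 := fun h => hφ0 (by rw [hc, h, mul_zero])
  have hcdeg : c.natDegree = 0 := by
    rw [hc, natDegree_mul hψ.ne_zero hc0, hd4] at hle
    omega
  have hcu : IsUnit c := by
    rw [eq_C_of_natDegree_eq_zero hcdeg] at hc0 ⊢
    exact isUnit_C.2 (isUnit_iff_ne_zero.2 (fun h => hc0 (by rw [h, C_0])))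
  refine ⟨?_, ?_⟩
  · exact (associated_mul_unit_left ψ c hcu).symm.irreducible hψ |> fun h => hc ▸ h
  · rw [hc, natDegree_mul hψ.ne_zero hc0, hd4, hcdeg]

theorem commutant (M : Matrix (Fin 4) (Fin 4) F) (hirr : Irreducible (minpoly F M))
    (hdeg : (minpoly F M).natDegree = 4) :
    ∃ ι : AdjoinRoot (minpoly F M) →ₐ[F] Matrix (Fin 4) (Fin 4) F, Function.Injective ι ∧
      ∀ A, A * M = M * A → ∃ f, ι f = A := by
  have : Fact (Irreducible (minpoly F M)) := ⟨hirr⟩
  set E := AdjoinRoot (minpoly F M)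
  let ι : E →ₐ[F] Matrix (Fin 4) (Fin 4) F :=
    Ideal.Quotient.liftₐ _ (aeval M) (fun a ha => by
      obtain ⟨c, rfl⟩ := Ideal.mem_span_singleton.1 ha
      rw [map_mul, minpoly.aeval, zero_mul])
  have hι : ∀ g : F[X], ι (AdjoinRoot.mk _ g) = aeval M g := fun g => Ideal.Quotient.liftₐ_apply _ _ _ _
  have hinj : Function.Injective ι := (ι : E →+* Matrix (Fin 4) (Fin 4) F).injective
  refine ⟨ι, hinj, fun A hA => ?_⟩
  let v0 : Fin 4 → F := fun i => if i = 0 then 1 else 0
  have hv0 : v0 ≠ 0 := fun h => by simpa [v0] using congrFun h 0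
  let L : E →ₗ[F] (Fin 4 → F) :=
    { toFun := fun f => Matrix.mulVec (ι f) v0
      map_add' := fun f g => by rw [map_add, Matrix.add_mulVec]
      map_smul' := fun c f => by rw [map_smul, Matrix.smul_mulVec, RingHom.id_apply] }
  have hL : Function.Injective L := (injective_iff_map_eq_zero L).2 fun f hf => by
    by_contra hf0
    apply hv0
    have h1 : ι f⁻¹ * ι f = 1 := by rw [← map_mul, inv_mul_cancel₀ hf0, map_one]
    calc v0 = Matrix.mulVec (ι f⁻¹ * ι f) v0 := by rw [h1, Matrix.one_mulVec]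
      _ = Matrix.mulVec (ι f⁻¹) (Matrix.mulVec (ι f) v0) := (Matrix.mulVec_mulVec _ _ _).symm
      _ = 0 := by rw [show Matrix.mulVec (ι f) v0 = 0 from hf, Matrix.mulVec_zero]
  let pb := AdjoinRoot.powerBasis hirr.ne_zero
  have hfd : FiniteDimensional F E := pb.finite
  have hfr : Module.finrank F E = Module.finrank F (Fin 4 → F) := by
    rw [pb.finrank, AdjoinRoot.powerBasis_dim, hdeg, Module.finrank_fin_fun]
  have hsurj := (LinearMap.injective_iff_surjective_of_finrank_eq_finrank hfr).1 hL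
  obtain ⟨f, hf⟩ := hsurj (Matrix.mulVec A v0)
  refine ⟨f, Matrix.ext_of_mulVec_single fun i => ?_⟩
  obtain ⟨g, hg⟩ := hsurj (Pi.single i 1)
  rw [← hg]
  show Matrix.mulVec (ι f) (Matrix.mulVec (ι g) v0) = Matrix.mulVec A (Matrix.mulVec (ι g) v0)
  obtain ⟨g, rfl⟩ := AdjoinRoot.mk_surjective g
  have hcomm : A * ι (AdjoinRoot.mk _ g) = ι (AdjoinRoot.mk _ g) * A := by
    rw [hι]
    exact Algebra.commute_of_mem_adjoin_singleton_of_commute (aeval_mem_adjoin_singleton F M) hA
  rw [Matrix.mulVec_mulVec, Matrix.mulVec_mulVec, hcomm, ← map_mul, mul_comm, map_mul,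
    ← Matrix.mulVec_mulVec, ← Matrix.mulVec_mulVec]
  exact congrArg _ hf

end Linear

variable {F : Type*} [Field F] [Fintype F] {m : ℕ} (Q : Par F m)
include Q

/-- An element moving every point. -/
def Free (_ : Par F m) (g : Cfsg.Sz F m) : Prop := ∀ p ∈ Cfsg.suzukiOvoid F m, g.1 • p ≠ p

/-- The diagonal element in the group. -/
def hI (k : Fˣ) : Cfsg.Sz F m := ⟨H m k, H_mem Q k⟩

/-- The diagonal homomorphism. -/
def hHom : Fˣ →* Cfsg.Sz F m := MonoidHom.mk' (hI Q) fun k l => Subtype.ext (H_mul Q k l)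

theorem hHom_injective : Function.Injective (hHom Q) := fun _ _ h => H_injective Q (congrArg Subtype.val h)

theorem hwh (l : Fˣ) : H m l * W F * H m l = W F := by
  refine Subtype.ext ?_
  show (H m l).1 * (W F).1 * (H m l).1 = (W F).1
  have := l.ne_zero
  simp only [H, W, Units.val_pow_eq_pow_val, Units.val_inv_eq_inv_val]
  ext i j
  fin_cases i <;> fin_cases j <;> simp [Matrix.diagonal_mul, Matrix.mul_diagonal, this]

theorem cent_uu {g x : Cfsg.Sz F m} (hx : x ∈ uSub Q) (hx1 : x ≠ 1) (hc : Commute g x) : g ∈ uSub Q := by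
  have hg := ti Q hx hx1 (g := g) (by rw [hc.eq, mul_inv_cancel_right]; exact hx)
  obtain ⟨c, d, k, e⟩ := stab_inf Q g.2 hg
  obtain ⟨a, b, rfl⟩ := exists_uu Q hx
  suffices hk : k = 1 by
    subst hk
    exact ⟨c, d, by rw [e, H_one Q, mul_one]⟩
  have h : g.1 * T m a b = T m a b * g.1 := congrArg Subtype.val hc.eq
  rw [e, mul_assoc, show H m k * T m a b = T m ((k : F) * a) ((k : F) ^ (2 ^ (m + 1) + 1) * b) * H m k by
    rw [← H_conj_T Q, inv_mul_cancel_right], ← mul_assoc, ← mul_assoc, T_mul Q, T_mul Q] at h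
  obtain ⟨e1, e2⟩ := T_inj Q (mul_right_cancel h)
  rcases eq_or_ne a 0 with rfl | ha
  · have hb : b ≠ 0 := fun hb => hx1 (by rw [hb]; exact uu_zero Q)
    refine units_s1 Q ((mul_eq_right₀ hb).1 ?_)
    simp [zero_pow (pow_ne_zero (m + 1) two_ne_zero)] at e2
    linear_combination e2
  · exact Units.ext ((mul_eq_right₀ ha).1 (by linear_combination e1))

theorem cent_hI {g : Cfsg.Sz F m} {k : Fˣ} (hk : k ≠ 1) (hc : Commute g (hI Q k)) : g ∈ (hHom Q).range := by
  have hc' : g.1 * H m k = H m k * g.1 := congrArg Subtype.val hc.eq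
  have himg : ∀ p ∈ Cfsg.suzukiOvoid F m, H m k • p = p →
      g.1 • p = Cfsg.suzukiPointInfinity F ∨ g.1 • p = pt m 0 0 := by
    intro p hp hfix
    have h : H m k • g.1 • p = g.1 • p := by rw [← mul_smul, ← hc', mul_smul, hfix]
    rcases mem_ovoid_iff.1 (smul_ovoid Q g.2 hp) with e | ⟨x, y, e⟩
    · exact Or.inl e
    · rw [e, H_pt Q] at h
      obtain ⟨hx, hy⟩ := pt_inj h
      right
      have hx0 : x = 0 := by
        by_contra h0
        exact hk (Units.ext ((mul_eq_right₀ h0).1 hx))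
      have hy0 : y = 0 := by
        by_contra h0
        exact hk (units_s1 Q ((mul_eq_right₀ h0).1 hy))
      rw [e, hx0, hy0]
  have h00 : H m k • pt m (0 : F) 0 = pt m 0 0 := by rw [H_pt Q, mul_zero, mul_zero]
  have hne := fun e => pt_ne_inf m (0 : F) 0 (MulAction.injective g.1 e)
  rcases himg _ (inf_mem m) (H_inf m k) with e1 | e1 <;> rcases himg _ (pt_mem m 0 0) h00 with e2 | e2
  · exact absurd (e2.trans e1.symm) hne
  · obtain ⟨l, hl⟩ := stab_pair Q g.2 e1 e2
    exact ⟨l, Subtype.ext hl.symm⟩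
  · exfalso
    obtain ⟨l, hl⟩ := stab_pair Q (g := W F * g.1) (mul_mem (W_mem Q) g.2) (by rw [mul_smul, e1, W_zero])
      (by rw [mul_smul, e2, W_inf m])
    have hg : g.1 = W F * H m l := by rw [← hl, ← mul_assoc, W_sq Q, one_mul]
    rw [hg, mul_assoc, ← H_mul Q, mul_comm, H_mul Q, ← mul_assoc, ← mul_assoc] at hc'
    have h1 : W F * H m k = H m k * W F := mul_right_cancel hc'
    have h2 : W F * H m (k * k) = W F := by rw [H_mul Q, ← mul_assoc, h1, hwh Q]
    have h3 : k * k = 1 := H_injective Q ((mul_eq_left.1 h2).trans (H_one Q).symm)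
    refine hk (Units.ext ?_)
    have h4 : ((k : F) + 1) ^ 2 = 0 := by
      rw [add_sq' Q, pow_two, ← Units.val_mul, h3, Units.val_one, one_pow, add_self Q]
    exact (eq_neg_of_add_eq_zero_left (pow_eq_zero_iff two_ne_zero |>.1 h4)).trans (neg_eq Q 1)
  · exact absurd (e2.trans e1.symm) hne

theorem elt_split {g : Cfsg.Sz F m} (hg : g ≠ 1) :
    (∃ c, c * g * c⁻¹ ∈ uSub Q) ∨ (∃ c k, k ≠ 1 ∧ c * g * c⁻¹ = hI Q k) ∨ Free Q g := by
  by_cases hf : Free Q g
  · exact Or.inr (Or.inr hf)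
  simp only [Free, not_forall, not_not] at hf
  obtain ⟨p, hp, hfix⟩ := hf
  obtain ⟨c, hc, hcp⟩ := transitive Q hp (inf_mem m)
  obtain ⟨a, b, k, e⟩ := stab_inf Q (g := c * g.1 * c⁻¹) (mul_mem (mul_mem hc g.2) (inv_mem hc))
    (by rw [← hcp, mul_smul, mul_smul, inv_smul_smul, hfix])
  rcases eq_or_ne k 1 with rfl | hk
  · exact Or.inl ⟨⟨c, hc⟩, a, b, by rw [← mul_one (T m a b), ← H_one Q, ← e]; rfl⟩
  set x := a / (1 + (k : F)) with hxdef
  have h1 : (1 : F) + (k : F) ≠ 0 := fun h => hk (Units.ext ((eq_neg_of_add_eq_zero_right h).trans (neg_eq Q 1)))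
  have h2 : (1 : F) + (k : F) ^ (2 ^ (m + 1) + 1) ≠ 0 :=
    fun h => hk (units_s1 Q ((eq_neg_of_add_eq_zero_right h).trans (neg_eq Q 1)))
  set y := (a ^ (2 ^ (m + 1)) * ((k : F) * x) + b) / (1 + (k : F) ^ (2 ^ (m + 1) + 1)) with hydef
  have hxy : (T m a b * H m k) • pt m x y = pt m x y := by
    rw [mul_smul, H_pt Q, T_pt Q]
    have ex : x * (1 + (k : F)) = a := div_mul_cancel₀ _ h1
    have ey : y * (1 + (k : F) ^ (2 ^ (m + 1) + 1)) = a ^ (2 ^ (m + 1)) * ((k : F) * x) + b := div_mul_cancel₀ _ h2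
    congr 1
    · linear_combination (-1 : F) * ex + add_self Q ((k : F) * x)
    · linear_combination (-1 : F) * ey + add_self Q ((k : F) ^ (2 ^ (m + 1) + 1) * y)
  obtain ⟨d, hd, d1, d2⟩ := to_inf_zero Q (inf_mem m) (pt_mem m x y) (pt_ne_inf m x y).symm
  obtain ⟨l, hl⟩ := stab_pair Q (g := d * (c * g.1 * c⁻¹) * d⁻¹)
    (mul_mem (mul_mem hd (mul_mem (mul_mem hc g.2) (inv_mem hc))) (inv_mem hd))
    (by rw [e, ← d1, mul_smul, mul_smul, inv_smul_smul, mul_smul, H_inf, T_inf])
    (by rw [e, ← d2, mul_smul, mul_smul, inv_smul_smul, hxy])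
  refine Or.inr (Or.inl ⟨⟨d * c, mul_mem hd hc⟩, l, fun h => hg ?_, Subtype.ext ?_⟩)
  · rw [h, H_one Q, mul_inv_eq_one, mul_eq_left, mul_inv_eq_one, mul_eq_left] at hl
    exact Subtype.ext hl
  · show d * c * g.1 * (d * c)⁻¹ = H m l
    rw [← hl]; group

theorem free_comm {g h : Cfsg.Sz F m} (hg : Free Q g) (hh : h ≠ 1) (hc : Commute g h) : Free Q h := by
  have key : ∀ c : Cfsg.Sz F m, (c.1 * g.1 * c.1⁻¹) • Cfsg.suzukiPointInfinity F ≠ Cfsg.suzukiPointInfinity F := by
    intro c e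
    refine hg _ (smul_ovoid Q (inv_mem c.2) (inf_mem m)) ?_
    conv_rhs => rw [← e]
    rw [mul_smul, mul_smul, inv_smul_smul]
  have hc' : ∀ c, Commute (c * g * c⁻¹) (c * h * c⁻¹) := fun c => by
    show _ = _
    rw [show c * g * c⁻¹ * (c * h * c⁻¹) = c * (g * h) * c⁻¹ by group, hc.eq]; group
  rcases elt_split Q hh with ⟨c, hcu⟩ | ⟨c, k, hk, e⟩ | hf
  · exfalso
    obtain ⟨a, b, e⟩ := cent_uu Q hcu (fun h' => hh (by rwa [mul_inv_eq_one, mul_eq_left] at h')) (hc' c)
    exact key c (by rw [show c.1 * g.1 * c.1⁻¹ = T m a b from e, T_inf])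
  · exfalso
    obtain ⟨l, el⟩ := cent_hI Q hk (e ▸ hc' c)
    exact key c (by rw [show c.1 * g.1 * c.1⁻¹ = H m l from (congrArg Subtype.val el).symm, H_inf])
  · exact hf

theorem free_prime {h : Cfsg.Sz F m} (hf : Free Q h) {l : ℕ} (hl : l.Prime) (ho : orderOf h = l) :
    l ∣ (2 ^ (2 * m + 1)) ^ 2 + 1 := by
  classical
  have : Fact l.Prime := ⟨hl⟩
  have : Fintype (Cfsg.suzukiOvoid F m) := Fintype.ofFinite _
  by_contra hnd
  let ρ : Cfsg.Sz F m →* Equiv.Perm (Cfsg.suzukiOvoid F m) :=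
    MulAction.toPermHom (Cfsg.Sz F m) (Cfsg.suzukiOvoid F m)
  have hpow : ρ h ^ l ^ 1 = 1 := by rw [pow_one, ← map_pow, ← ho, pow_orderOf_eq_one, map_one]
  obtain ⟨p, hp⟩ := Equiv.Perm.exists_fixed_point_of_prime
    (by rwa [← Nat.card_eq_fintype_card, card_ovoid, Q.hF]) hpow
  exact hf p.1 p.2 (congrArg Subtype.val hp)

theorem free_dvd {g : Cfsg.Sz F m} (hg : Free Q g) {l : ℕ} (hl : l.Prime) (hd : l ∣ orderOf g) :
    l ∣ (2 ^ (2 * m + 1)) ^ 2 + 1 := by
  have ho : orderOf (g ^ (orderOf g / l)) = l :=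
    orderOf_pow_orderOf_div (orderOf_pos g).ne' hd
  refine free_prime Q (free_comm Q hg (fun h => ?_) (Commute.self_pow g _)) hl ho
  rw [h, orderOf_one] at ho
  exact hl.ne_one ho.symm

theorem free_ne_one {g : Cfsg.Sz F m} (hg : Free Q g) : g ≠ 1 :=
  fun h => hg _ (inf_mem m) (by rw [h]; exact one_smul _ _)

theorem coprime_orders :
    Nat.Coprime ((2 ^ (2 * m + 1)) ^ 2 + 1) ((2 ^ (2 * m + 1)) ^ 2 * (2 ^ (2 * m + 1) - 1)) := by
  refine Nat.Coprime.mul_right ?_ ?_
  · refine Nat.Coprime.pow_right _ (Nat.Coprime.pow_right _ ?_)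
    rw [Nat.coprime_two_right, Nat.odd_iff, ← pow_mul, show (2 * m + 1) * 2 = (4 * m + 1) + 1 by ring, pow_succ]
    omega
  · refine Nat.coprime_of_dvd fun p hp h1 h2 => ?_
    have : Fact p.Prime := ⟨hp⟩
    have hpos : 1 ≤ 2 ^ (2 * m + 1) := Nat.one_le_pow _ _ two_pos
    have e2 : ((2 ^ (2 * m + 1) : ℕ) : ZMod p) = 1 := by
      have := (ZMod.natCast_eq_zero_iff _ _).2 h2
      rw [Nat.cast_sub hpos, sub_eq_zero] at this
      simpa using this
    have e1 := (ZMod.natCast_eq_zero_iff _ _).2 h1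
    rw [Nat.cast_add, Nat.cast_pow, e2, Nat.cast_one, one_pow] at e1
    have : p ∣ 2 := (ZMod.natCast_eq_zero_iff 2 p).1 (by push_cast; rw [← one_add_one_eq_two]; exact e1)
    rw [(Nat.prime_dvd_prime_iff_eq hp Nat.prime_two).1 this, pow_succ] at h1
    revert h1
    rw [← pow_succ, ← pow_mul, show (2 * m + 1) * 2 = (4 * m + 1) + 1 by ring, pow_succ]
    omega

theorem free_of_dvd {g : Cfsg.Sz F m} {p : ℕ} (hp : p.Prime) (ho : orderOf g = p)
    (hd : p ∣ (2 ^ (2 * m + 1)) ^ 2 + 1) : Free Q g := by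
  intro x hx hfix
  obtain ⟨c, hc, hcx⟩ := transitive Q hx (inf_mem m)
  let z : Cfsg.Sz F m := ⟨c, hc⟩
  have hmem : z * g * z⁻¹ ∈ MulAction.stabilizer (Cfsg.Sz F m) (Cfsg.suzukiPointInfinity F) := by
    show (c * g.1 * c⁻¹) • Cfsg.suzukiPointInfinity F = _
    rw [← hcx, mul_smul, mul_smul, inv_smul_smul, hfix]
  have h1 := Subgroup.orderOf_dvd_natCard _ hmem
  rw [stab_inf_card Q, show z * g * z⁻¹ = MulAut.conj z g from rfl, orderOf_injective (MulAut.conj z).toMonoidHom
    (MulAut.conj z).injective g |> fun e => show orderOf (MulAut.conj z g) = orderOf g from e, ho] at h1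
  exact Nat.not_coprime_of_dvd_of_dvd hp.one_lt hd h1 (coprime_orders Q)

theorem matrix_data {h : Cfsg.Sz F m} {p : ℕ} (hp : p.Prime) (ho : orderOf h = p)
    (hd : p ∣ (2 ^ (2 * m + 1)) ^ 2 + 1) :
    IsCyclic (Subgroup.centralizer ({h} : Set (Cfsg.Sz F m))) ∧
      Nat.card {x : Cfsg.Sz F m // x ∈ Subgroup.centralizer ({h} : Set (Cfsg.Sz F m)) ∧ IsConj h x} ≤ 4 := by
  have hp2 : p ≠ 2 := by
    rintro rfl
    rw [← pow_mul, show (2 * m + 1) * 2 = (4 * m + 1) + 1 by ring, pow_succ] at hd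
    omega
  let coeM : Cfsg.Sz F m →* Matrix (Fin 4) (Fin 4) F :=
    { toFun := fun g => g.1.1, map_one' := rfl, map_mul' := fun _ _ => rfl }
  have hcoe : Function.Injective coeM := fun g g' e => Subtype.ext (Subtype.ext e)
  set M := coeM h with hMdef
  obtain ⟨hirr, hdeg⟩ := minpoly_deg_four M hp Q.hF (charP Q) hp2 hd
    (by rw [hMdef, ← map_pow, ← ho, pow_orderOf_eq_one, map_one])
    (fun e => hp.ne_one (by rw [← ho, orderOf_eq_one_iff]; exact hcoe (e.trans (map_one coeM).symm)))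
  have : Fact (Irreducible (minpoly F M)) := ⟨hirr⟩
  obtain ⟨ι, hι, hsurj⟩ := commutant M hirr hdeg
  have hmem : ∀ g ∈ Subgroup.centralizer ({h} : Set (Cfsg.Sz F m)), ∃ f, ι f = coeM g := fun g hg => hsurj _ (by
    rw [hMdef, ← map_mul, ← map_mul, Subgroup.mem_centralizer_singleton_iff.1 hg])
  choose e he using hmem
  constructor
  · let f : Subgroup.centralizer ({h} : Set (Cfsg.Sz F m)) →* AdjoinRoot (minpoly F M) :=
      { toFun := fun g => e g.1 g.2
        map_one' := hι (by rw [he, map_one]; exact map_one coeM)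
        map_mul' := fun a b => hι (by rw [he, map_mul, he, he]; exact map_mul coeM a.1 b.1) }
    refine isCyclic_of_injective_ringHom f fun a b hab => Subtype.ext (hcoe ?_)
    rw [← he a.1 a.2, ← he b.1 b.2]
    exact congrArg ι hab
  · classical
    let R := (minpoly F M).rootSet (AdjoinRoot (minpoly F M))
    let f : {x : Cfsg.Sz F m // x ∈ Subgroup.centralizer ({h} : Set (Cfsg.Sz F m)) ∧ IsConj h x} → R := fun x =>
      ⟨e x.1 x.2.1, by
        rw [Polynomial.mem_rootSet_of_ne (minpoly.ne_zero (Matrix.isIntegral M))]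
        apply hι
        rw [← aeval_algHom_apply, he, map_zero]
        obtain ⟨c, hc⟩ := isConj_iff.1 x.2.2
        have hu : IsUnit (coeM c) := (Group.isUnit c).map coeM
        rw [← hc, map_mul, map_mul]
        have key : ∀ P : F[X], aeval (coeM c * M * coeM c⁻¹) P = coeM c * aeval M P * coeM c⁻¹ := by
          have h1 : coeM c⁻¹ * coeM c = 1 := by rw [← map_mul, inv_mul_cancel, map_one]
          have h2 : coeM c * coeM c⁻¹ = 1 := by rw [← map_mul, mul_inv_cancel, map_one]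
          intro P
          induction P using Polynomial.induction_on' with
          | add p q hp hq => rw [map_add, map_add, hp, hq, mul_add, add_mul]
          | monomial n a =>
            rw [aeval_monomial, aeval_monomial, ← Algebra.smul_def, ← Algebra.smul_def, mul_smul_comm, smul_mul_assoc]
            congr 1
            induction n with
            | zero => rw [pow_zero, pow_zero, mul_one, h2]
            | succ n ih =>
              rw [pow_succ, ih, pow_succ, show coeM c * M ^ n * coeM c⁻¹ * (coeM c * M * coeM c⁻¹) =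
                coeM c * M ^ n * (coeM c⁻¹ * coeM c) * M * coeM c⁻¹ by simp only [mul_assoc], h1, mul_one]
              simp only [mul_assoc]
        rw [← hMdef, key, minpoly.aeval, mul_zero, zero_mul]⟩
    have hf : Function.Injective f := fun a b hab => Subtype.ext (hcoe (by
      rw [← he a.1 a.2.1, ← he b.1 b.2.1]
      exact congrArg ι (congrArg Subtype.val hab)))
    refine (Nat.card_le_card_of_injective f hf).trans ?_
    rw [Nat.card_coe_set_eq]
    exact (ncard_rootSet_le _ _).trans hdeg.le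

end Cfsg.Lib.Suz
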